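import Cfsg.Agent.Lib.Fitting
import Mathlib.GroupTheory.OrderOfElement
import Mathlib.Data.Nat.Factorization.Basic

/-!
Small general lemmas for the finite group structure statements.
-/

set_option autoImplicit false

namespace Cfsg.Agent.FG72

variable {G : Type*} [Group G]

/-- An element all of whose powers of prime power order lie in `H` lies in `H`. -/
theorem mem_of_forall_primePow [Finite G] (H : Subgroup G) (g : G)
    (h : ∀ r : ℕ, r.Prime → ∀ j : ℕ, r ^ j ∣ orderOf g → ∀ i : ℕ, orderOf (g ^ i) = r ^ j → g ^ i ∈ H) :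
    g ∈ H := by
  have hn : orderOf g ≠ 0 := (orderOf_pos g).ne'
  have hdvd : orderOf g ∣ Nat.card ↥(Subgroup.zpowers g ⊓ H) := by
    refine Nat.dvd_iff_prime_pow_dvd_dvd _ _ |>.mpr fun r j hr hrj => ?_
    obtain ⟨t, ht⟩ := hrj
    have ht0 : t ≠ 0 := fun h0 => hn (by rw [ht, h0, mul_zero])
    have ho : orderOf (g ^ t) = r ^ j := by
      rw [orderOf_pow_of_dvd ht0 (ht ▸ dvd_mul_left t _), ht, Nat.mul_div_cancel _ (Nat.pos_of_ne_zero ht0)]
    rw [← ho]
    exact Subgroup.orderOf_dvd_natCard _ ⟨Subgroup.npow_mem_zpowers g t, h r hr j (Dvd.intro t ht.symm) t ho⟩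
  have heq : Subgroup.zpowers g ⊓ H = Subgroup.zpowers g :=
    Subgroup.eq_of_le_of_card_ge inf_le_left (by
      rw [Nat.card_zpowers]; exact Nat.le_of_dvd Nat.card_pos hdvd)
  exact (inf_eq_left.mp heq) (Subgroup.mem_zpowers g)

/-- Elements of prime power order of the Fitting subgroup lie in the corresponding core. -/
theorem mem_pCore_of_fitting [Finite G] {r : ℕ} [Fact r.Prime] {x : G}
    (hx : x ∈ Cfsg.fittingSubgroup G) {j : ℕ} (hj : orderOf x = r ^ j) : x ∈ Cfsg.pCore r G := by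
  haveI := Fitting.fitting_isNilpotent (G := G)
  obtain ⟨S⟩ := (inferInstance : Nonempty (Sylow r (Cfsg.fittingSubgroup G)))
  haveI hSn : (S : Subgroup (Cfsg.fittingSubgroup G)).Normal :=
    Sylow.normal_of_normalizerCondition Group.normalizerCondition_of_isNilpotent S
  haveI : (S : Subgroup (Cfsg.fittingSubgroup G)).Characteristic :=
    Sylow.characteristic_of_normal S hSn
  have hle : (S : Subgroup (Cfsg.fittingSubgroup G)).map (Cfsg.fittingSubgroup G).subtype ≤
      Cfsg.pCore r G :=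
    Fitting.le_pCore (Fitting.normal_map_subtype_of_characteristic _) (S.isPGroup'.map _)
  have hz : IsPGroup r (Subgroup.zpowers (⟨x, hx⟩ : Cfsg.fittingSubgroup G)) := by
    refine IsPGroup.iff_card.mpr ⟨j, ?_⟩
    rw [Nat.card_zpowers, Subgroup.orderOf_mk, hj]
  obtain ⟨Q, hQ⟩ := hz.exists_le_sylow
  letI := Sylow.unique_of_normal S hSn
  rw [Subsingleton.elim Q S] at hQ
  exact hle ⟨⟨x, hx⟩, hQ (Subgroup.mem_zpowers _), rfl⟩

end Cfsg.Agent.FG72
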