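import Cfsg.Agent.Lib.Coprime.Generation
import Cfsg.Agent.Lib.Solvable.Basic

/-!
An abelian group acting coprimely: generation by the centralisers of cocyclic subgroups.
-/

set_option autoImplicit false

namespace Cfsg.Agent.FG72

universe u

/-- The subgroups `B` of `A` with `A = ⟨B, a⟩` for some `a`. -/
def cocyclic {X : Type u} [Group X] (A : Subgroup X) : Set (Subgroup X) :=
  {B : Subgroup X | B ≤ A ∧ ∃ a ∈ A, B ⊔ Subgroup.zpowers a = A}

theorem le_iSup_cocyclic (n : ℕ) : ∀ (X : Type u) [Group X] [Finite X] (A K : Subgroup X),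
    Nat.card A = n → IsMulCommutative A → A ≤ Subgroup.normalizer (K : Set X) →
    (Nat.card A).Coprime (Nat.card K) →
    K ≤ ⨆ B ∈ cocyclic A, K ⊓ Subgroup.centralizer (B : Set X) := by
  induction n using Nat.strong_induction_on with
  | _ n IH =>
  intro X _ _ A K hn hAab hAK hcop
  haveI := hAab
  by_cases hcyc : IsCyclic A
  · obtain ⟨⟨a, ha⟩, hgen⟩ := hcyc.exists_generator
    refine le_trans ?_ (le_biSup (fun B : Subgroup X => K ⊓ Subgroup.centralizer (B : Set X))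
      (show (⊥ : Subgroup X) ∈ cocyclic A from ⟨bot_le, a, ha, ?_⟩))
    · exact fun k hk => ⟨hk, fun b hb => by simp [Subgroup.mem_bot.mp hb]⟩
    · rw [bot_sup_eq]
      refine le_antisymm (Subgroup.zpowers_le.mpr ha) fun x hx => ?_
      obtain ⟨i, hi⟩ := hgen ⟨x, hx⟩
      exact ⟨i, congrArg Subtype.val hi⟩
  refine Coprime.le_of_centralizer_le A K _ hcyc hAK hcop fun e heA he1 => ?_
  set S := ⨆ B ∈ cocyclic A, K ⊓ Subgroup.centralizer (B : Set X)
  let M : Subgroup X := Subgroup.centralizer {e}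
  have hAM : A ≤ M := fun a ha => by
    rw [Subgroup.mem_centralizer_iff]
    intro w hw
    rw [show w = e from hw]
    exact congrArg Subtype.val (mul_comm' (⟨e, heA⟩ : A) ⟨a, ha⟩)
  let N : Subgroup M := (Subgroup.zpowers e).subgroupOf M
  haveI : N.Normal := by
    refine ⟨fun z hz g => ?_⟩
    obtain ⟨i, hi⟩ := Subgroup.mem_zpowers_iff.mp (show (z : X) ∈ Subgroup.zpowers e from hz)
    have hc : Commute (g : X) e := (Subgroup.mem_centralizer_iff.mp g.2 e rfl).symm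
    show (g : X) * z * (g : X)⁻¹ ∈ Subgroup.zpowers e
    rw [← hi, (hc.zpow_right i).eq, mul_inv_cancel_right]
    exact Subgroup.zpow_mem_zpowers e i
  let π := QuotientGroup.mk' N
  let A' := A.subgroupOf M
  let K1 := K.subgroupOf M
  have hcardA' : Nat.card A' = n :=
    (Nat.card_congr (Subgroup.subgroupOfEquivOfLe hAM).toEquiv).trans hn
  have hlt : Nat.card (A'.map π) < n := by
    have h := Solvable.card_map_mk'_mul A' N
    rw [hcardA'] at h
    have h2 : 1 < Nat.card ↥(A' ⊓ N) := by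
      rw [Subgroup.one_lt_card_iff_ne_bot]
      intro h0
      have : (⟨e, hAM heA⟩ : M) ∈ A' ⊓ N := ⟨heA, Subgroup.mem_zpowers e⟩
      rw [h0, Subgroup.mem_bot] at this
      exact he1 (congrArg Subtype.val this)
    have h3 : 0 < Nat.card (A'.map π) := Nat.card_pos
    calc Nat.card (A'.map π) < Nat.card (A'.map π) * Nat.card ↥(A' ⊓ N) :=
          lt_mul_of_one_lt_right h3 h2
      _ = n := h
  have habA : IsMulCommutative (A'.map π) := by
    refine ⟨⟨fun u v => Subtype.ext ?_⟩⟩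
    obtain ⟨x, hx, hx'⟩ := u.2
    obtain ⟨y, hy, hy'⟩ := v.2
    show (u : M ⧸ N) * v = v * u
    rw [← hx', ← hy', ← map_mul, ← map_mul]
    congr 1
    have hxy : (x : X) * y = y * x := congrArg Subtype.val (mul_comm' (⟨(x : X), hx⟩ : A) ⟨y, hy⟩)
    exact Subtype.ext hxy
  have hnormA : A'.map π ≤ Subgroup.normalizer ((K1.map π : Subgroup (M ⧸ N)) : Set (M ⧸ N)) :=
    Coprime.le_normalizer_of_conj_mem fun u hu v hv => by
      obtain ⟨a, ha, rfl⟩ := hu
      obtain ⟨k, hk, rfl⟩ := hv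
      have h : (a : X) * k * (a : X)⁻¹ ∈ K := Coprime.conj_mem_of_mem_normalizer (hAK ha) hk
      exact ⟨a * k * a⁻¹, h, by simp⟩
  have hK1 : Nat.card K1 ∣ Nat.card K :=
    Subgroup.card_comap_dvd_of_injective K M.subtype M.subtype_injective
  have hcop' : (Nat.card (A'.map π)).Coprime (Nat.card (K1.map π)) := by
    refine Nat.Coprime.coprime_dvd_left ?_ (hcop.coprime_dvd_right ((K1.card_map_dvd π).trans hK1))
    rw [hn, ← hcardA']
    exact A'.card_map_dvd π
  have key := IH _ hlt (M ⧸ N) (A'.map π) (K1.map π) rfl habA hnormA hcop'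
  have hKe : ∀ x ∈ K, x ∈ Subgroup.zpowers e → x = 1 := fun x hx hxe =>
    Coprime.inf_eq_bot_of_coprime' hcop ((Subgroup.zpowers_le.mpr heA) hxe) hx
  have hsub : (⨆ B ∈ cocyclic (A'.map π), K1.map π ⊓ Subgroup.centralizer (B : Set (M ⧸ N))) ≤
      ((S ⊓ K).subgroupOf M).map π := by
    refine iSup₂_le fun B hB => ?_
    rintro x ⟨⟨k, hk, rfl⟩, hkB⟩
    let B0 : Subgroup X := A ⊓ (B.comap π).map M.subtype
    have hB0 : B0 ∈ cocyclic A := by
      refine ⟨inf_le_left, ?_⟩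
      obtain ⟨ab, ⟨a, ha, rfl⟩, hsup⟩ := hB.2
      refine ⟨a, ha, le_antisymm (sup_le inf_le_left (Subgroup.zpowers_le.mpr ha)) fun y hy => ?_⟩
      have hmem : π ⟨y, hAM hy⟩ ∈ B ⊔ Subgroup.zpowers (π a) :=
        hsup.symm ▸ ⟨⟨y, hAM hy⟩, hy, rfl⟩
      haveI := habA
      have hnB : Subgroup.zpowers (π a) ≤ Subgroup.normalizer (B : Set (M ⧸ N)) := by
        refine (Subgroup.zpowers_le.mpr ?_).trans (Subgroup.centralizer_le_normalizer _)
        rw [Subgroup.mem_centralizer_iff]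
        intro b hb
        exact congrArg Subtype.val (mul_comm' (⟨b, hB.1 hb⟩ : A'.map π) ⟨π a, a, ha, rfl⟩)
      obtain ⟨b, hb, c, ⟨i, hi⟩, hbc⟩ := Coprime.exists_mul_of_mem_sup hnB hmem
      have h1 : y * ((a : X) ^ i)⁻¹ ∈ B0 := by
        refine ⟨A.mul_mem hy (A.inv_mem (A.zpow_mem ha i)), ⟨⟨y, hAM hy⟩ * (a ^ i)⁻¹, ?_, by simp⟩⟩
        show π (⟨y, hAM hy⟩ * (a ^ i)⁻¹) ∈ B
        rw [map_mul, map_inv, map_zpow, hbc, ← hi]
        simpa using hb
      have h2 := Subgroup.mul_mem_sup h1 (Subgroup.zpow_mem_zpowers (a : X) i)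
      simpa using h2
    refine ⟨k, ⟨?_, hk⟩, rfl⟩
    refine (le_biSup (fun B : Subgroup X => K ⊓ Subgroup.centralizer (B : Set X)) hB0) ⟨hk, ?_⟩
    rintro b ⟨hbA, b', hb', rfl⟩
    have h1 : π b' * π k = π k * π b' := Subgroup.mem_centralizer_iff.mp hkB _ hb'
    have h2 : π (b' * k * b'⁻¹ * k⁻¹) = 1 := by
      rw [map_mul, map_mul, map_mul, h1, map_inv, map_inv]; group
    have h3 : (b' * k * b'⁻¹ * k⁻¹ : M) ∈ N := (QuotientGroup.eq_one_iff _).mp h2
    have h4 : (b' : X) * k * (b' : X)⁻¹ * (k : X)⁻¹ ∈ K :=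
      mul_mem (Coprime.conj_mem_of_mem_normalizer (hAK hbA) hk) (inv_mem hk)
    have h5 := hKe _ h4 h3
    exact mul_inv_eq_iff_eq_mul.mp (mul_inv_eq_one.mp h5)
  intro x hx
  obtain ⟨k', hk', he⟩ := hsub (key ⟨⟨x, hx.2⟩, hx.1, rfl⟩)
  have h1 : k'⁻¹ * ⟨x, hx.2⟩ ∈ N := QuotientGroup.eq.mp he
  have h2 := hKe _ (mul_mem (inv_mem hk'.2) hx.1) h1
  have h3 : (k' : X) = x := inv_mul_eq_one.mp h2
  rw [← h3]
  exact hk'.1

end Cfsg.Agent.FG72
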