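import Mathlib

/-!
A cyclic group acting without fixed points on a symplectic space over a prime field.
-/

set_option autoImplicit false

namespace Cfsg.Agent.FG72.SympFPF

open Module Polynomial

variable {p : ℕ} [hp : Fact p.Prime]

theorem dvd_of_free {S : Type*} [Finite S] (σ : Equiv.Perm S) (h : ℕ) (hh : σ ^ h = 1)
    (hfree : ∀ m x, (σ ^ m) x = x → h ∣ m) : h ∣ Nat.card S := by
  rcases isEmpty_or_nonempty S with hS | hS
  · simp
  have hord : orderOf σ = h := by
    refine Nat.dvd_antisymm (orderOf_dvd_of_pow_eq_one hh) ?_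
    obtain ⟨x⟩ := hS
    exact hfree _ x (by rw [pow_orderOf_eq_one]; rfl)
  have hstab : ∀ x : S, MulAction.stabilizer (Subgroup.zpowers σ) x = ⊥ := by
    intro x
    rw [eq_bot_iff]
    rintro ⟨g, hg⟩ hgx
    obtain ⟨m, rfl⟩ := (mem_powers_iff_mem_zpowers.mpr hg)
    refine Subgroup.mem_bot.mpr (Subtype.ext ?_)
    obtain ⟨c, rfl⟩ := hfree m x hgx
    show σ ^ (h * c) = 1
    rw [pow_mul, hh, one_pow]
  have e := MulAction.selfEquivSigmaOrbitsQuotientStabilizer (Subgroup.zpowers σ) S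
  haveI : Fintype (Quotient (MulAction.orbitRel (Subgroup.zpowers σ) S)) := Fintype.ofFinite _
  rw [Nat.card_congr e, Nat.card_sigma]
  refine Finset.dvd_sum fun ω _ => ?_
  rw [hstab, ← Subgroup.index, Subgroup.index_bot, Nat.card_zpowers, hord]

variable {V : Type*} [AddCommGroup V] [Module (ZMod p) V] [FiniteDimensional (ZMod p) V]

theorem aeval_adjoint (T : V →ₗ[ZMod p] V) (β : LinearMap.BilinForm (ZMod p) V) {h : ℕ}
    (hh : T ^ h = 1) (h1 : 1 ≤ h) (hinv : ∀ x y, β (T x) (T y) = β x y) (q : (ZMod p)[X])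
    (x y : V) : β (aeval T q x) y = β x (aeval T (q.comp (X ^ (h - 1))) y) := by
  have hT : ∀ (i : ℕ) (x y : V), β ((T ^ i) x) y = β x ((T ^ (i * (h - 1))) y) := by
    have h0 : ∀ (i : ℕ) (u v : V), β ((T ^ i) u) ((T ^ i) v) = β u v := by
      intro i
      induction i with
      | zero => intro u v; rfl
      | succ i ih => intro u v; simp only [pow_succ', Module.End.mul_apply]; rw [hinv, ih]
    intro i x y
    conv_lhs => rw [show y = (T ^ i) ((T ^ (i * (h - 1))) y) by
      rw [← Module.End.mul_apply, ← pow_add, show i + i * (h - 1) = h * i by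
        obtain ⟨k, rfl⟩ : ∃ k, h = k + 1 := ⟨h - 1, by omega⟩
        rw [Nat.add_sub_cancel]; ring, pow_mul, hh, one_pow]; rfl]
    rw [h0]
  induction q using Polynomial.induction_on' with
  | add a b ha hb => simp [map_add, ha, hb]
  | monomial i c =>
    rw [monomial_comp, aeval_monomial, map_mul, aeval_C, map_pow, map_pow, aeval_X, ← pow_mul,
      mul_comm (h - 1) i, Module.End.mul_apply, Module.End.mul_apply,
      Module.algebraMap_end_apply, Module.algebraMap_end_apply]
    simp [hT]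

theorem aeval_mem (T : V →ₗ[ZMod p] V) (W : Submodule (ZMod p) V) (hW : ∀ x ∈ W, T x ∈ W)
    (q : (ZMod p)[X]) : ∀ x ∈ W, aeval T q x ∈ W := by
  have hpow : ∀ (i : ℕ), ∀ x ∈ W, (T ^ i) x ∈ W := by
    intro i
    induction i with
    | zero => exact fun x hx => hx
    | succ i ih => intro x hx; rw [pow_succ', Module.End.mul_apply]; exact hW _ (ih x hx)
  induction q using Polynomial.induction_on' with
  | add a b ha hb => intro x hx; rw [map_add]; exact add_mem (ha x hx) (hb x hx)
  | monomial i c =>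
    intro x hx
    rw [aeval_monomial, Module.End.mul_apply, Module.algebraMap_end_apply]
    exact W.smul_mem _ (hpow i x hx)

/-- The arithmetic at the end of the proof. -/
theorem arith {h n j : ℕ} (hh : h.Coprime p) (h2n : h ∣ p ^ (2 * n) - 1) (hj : h ∣ p ^ j + 1) :
    h ∣ p ^ n + 1 ∨ h ∣ p ^ n - 1 := by
  set a : (ZMod h) := (p : ZMod h) with ha
  have hpos : 0 < p := hp.out.pos
  have e1 : a ^ (2 * n) = 1 := by
    have := (CharP.cast_eq_zero_iff (ZMod h) h _).mpr h2n |>.symm
    rw [ha, ← Nat.cast_pow]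
    rw [Nat.cast_sub (Nat.one_le_pow _ _ hpos)] at this
    simpa using (sub_eq_zero.mp this.symm)
  have e2 : a ^ j = -1 := by
    have := (CharP.cast_eq_zero_iff (ZMod h) h _).mpr hj
    push_cast at this
    exact eq_neg_of_add_eq_zero_left this
  have e3 : a ^ (2 * j) = 1 := by rw [mul_comm, pow_mul, e2]; simp
  set d := orderOf a
  have d1 : d ∣ 2 * n := orderOf_dvd_of_pow_eq_one e1
  have d2 : d ∣ 2 * j := orderOf_dvd_of_pow_eq_one e3
  have conc1 : a ^ n = 1 → h ∣ p ^ n - 1 := fun e => by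
    rw [← CharP.cast_eq_zero_iff (ZMod h) h, Nat.cast_sub (Nat.one_le_pow _ _ hpos)]
    push_cast
    rw [← ha, e, sub_self]
  by_cases hdn : d ∣ n
  · exact Or.inr (conc1 (orderOf_dvd_iff_pow_eq_one.mp hdn))
  by_cases hdj : d ∣ j
  · have h11 : (1 : ZMod h) = -1 := (orderOf_dvd_iff_pow_eq_one.mp hdj).symm.trans e2
    have h2 : h ∣ 2 := by
      rw [← CharP.cast_eq_zero_iff (ZMod h) h]
      push_cast
      linear_combination h11
    rcases (Nat.dvd_prime Nat.prime_two).mp h2 with rfl | rfl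
    · exact Or.inl (one_dvd _)
    · have hodd : Odd p := Nat.coprime_two_left.mp hh
      exact Or.inl (even_iff_two_dvd.mp (hodd.pow.add_odd odd_one))
  left
  obtain ⟨e, he⟩ : 2 ∣ d := by
    by_contra hodd
    exact hdn ((Nat.Coprime.dvd_mul_left (Nat.coprime_comm.mp
      ((Nat.prime_two.coprime_iff_not_dvd).mpr hodd))).mp d1)
  rw [he] at d1 d2 hdn hdj
  obtain ⟨u, hu⟩ := Nat.dvd_of_mul_dvd_mul_left two_pos d1
  obtain ⟨v, hv⟩ := Nat.dvd_of_mul_dvd_mul_left two_pos d2
  have hu2 : Odd u := by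
    rcases Nat.even_or_odd u with ⟨k, hk⟩ | h'
    · exact absurd ⟨k, by rw [hu, hk]; ring⟩ hdn
    · exact h'
  have hv2 : Odd v := by
    rcases Nat.even_or_odd v with ⟨k, hk⟩ | h'
    · exact absurd ⟨k, by rw [hv, hk]; ring⟩ hdj
    · exact h'
  have hde : a ^ (2 * e) = 1 := by rw [← he]; exact pow_orderOf_eq_one a
  have hodd : ∀ w : ℕ, Odd w → a ^ (e * w) = a ^ e := by
    rintro w ⟨k, rfl⟩
    rw [show e * (2 * k + 1) = 2 * e * k + e by ring, pow_add, pow_mul, hde, one_pow, one_mul]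
  rw [← CharP.cast_eq_zero_iff (ZMod h) h]
  push_cast
  rw [← ha, hu, hodd u hu2, ← hodd v hv2, ← hv, e2, neg_add_cancel]

theorem dvd_card_sub_one (T : V →ₗ[ZMod p] V) {h : ℕ} (hhpos : 1 ≤ h) (hh : T ^ h = 1)
    (hfix : ∀ m x, x ≠ 0 → (T ^ m) x = x → h ∣ m) (U : Submodule (ZMod p) V)
    (hU : ∀ x ∈ U, T x ∈ U) : h ∣ p ^ finrank (ZMod p) U - 1 := by
  classical
  haveI : Finite V := Module.finite_of_finite (ZMod p)
  haveI : Fintype U := Fintype.ofFinite U
  let T' : U → U := fun x => ⟨T x, hU x x.2⟩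
  have hT' : ∀ (i : ℕ) (x : U), ((T'^[i] x : U) : V) = (T ^ i) x := by
    intro i
    induction i with
    | zero => intro x; rfl
    | succ i ih =>
      intro x
      rw [Function.iterate_succ_apply', pow_succ', Module.End.mul_apply, ← ih]
  have hper : ∀ x, T'^[h] x = x := fun x => Subtype.ext (by rw [hT', hh]; rfl)
  let S := {x : U // x ≠ 0}
  have hne : ∀ x : S, T' x.1 ≠ 0 := by
    intro x hx
    refine x.2 ?_
    rw [← hper x.1, show h = (h - 1) + 1 by omega, Function.iterate_succ_apply, hx]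
    exact Subtype.ext (by rw [hT']; simp)
  let f : S → S := fun x => ⟨T' x.1, hne x⟩
  have hf : ∀ (i : ℕ) (x : S), (f^[i] x).1 = T'^[i] x.1 := by
    intro i
    induction i with
    | zero => intro x; rfl
    | succ i ih => intro x; rw [Function.iterate_succ_apply', Function.iterate_succ_apply', ← ih]
  let σ : Equiv.Perm S :=
    { toFun := f
      invFun := f^[h - 1]
      left_inv := fun x => Subtype.ext (by
        rw [← Function.iterate_succ_apply, hf, Nat.succ_eq_add_one, show h - 1 + 1 = h by omega, hper])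
      right_inv := fun x => Subtype.ext (by
        rw [← Function.iterate_succ_apply' f, hf, Nat.succ_eq_add_one, show h - 1 + 1 = h by omega, hper]) }
  have hσ : ∀ (i : ℕ) (x : S), (σ ^ i) x = f^[i] x := fun i x => by
    rw [Equiv.Perm.coe_pow]; rfl
  have hd := dvd_of_free σ h (Equiv.ext fun x => Subtype.ext (by rw [hσ, hf, hper]; rfl))
    fun m x hx => by
      refine hfix m (x.1 : V) (fun h0 => x.2 (Subtype.ext h0)) ?_
      rw [← hT', ← hf, ← hσ, hx]
  have hcard : Nat.card S = p ^ finrank (ZMod p) U - 1 := by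
    rw [Nat.card_eq_fintype_card, Fintype.card_subtype_compl, Fintype.card_subtype_eq,
      Module.card_eq_pow_finrank (K := ZMod p) (V := U), ZMod.card]
  rwa [hcard] at hd

/-- A fixed-point-free isometry of order `h` of a symplectic space of dimension `2n`. -/
theorem dvd_pow_pm_one (T : V →ₗ[ZMod p] V) (β : LinearMap.BilinForm (ZMod p) V) {h n : ℕ}
    (h1 : 1 ≤ h) (hcop : h.Coprime p) (hh : T ^ h = 1)
    (hfix : ∀ m x, x ≠ 0 → (T ^ m) x = x → h ∣ m) (halt : β.IsAlt) (hnd : β.Nondegenerate)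
    (hinv : ∀ x y, β (T x) (T y) = β x y) (hn : finrank (ZMod p) V = 2 * n) :
    h ∣ p ^ n + 1 ∨ h ∣ p ^ n - 1 := by
  classical
  haveI : Finite V := Module.finite_of_finite (ZMod p)
  haveI : Finite (Submodule (ZMod p) V) := Finite.of_injective _ SetLike.coe_injective
  have h2n : h ∣ p ^ (2 * n) - 1 := by
    have := dvd_card_sub_one T h1 hh hfix ⊤ (fun x _ => trivial)
    rwa [finrank_top, hn] at this
  have hTT : ∀ x, (T ^ (h - 1)) (T x) = x := fun x => by
    rw [← Module.End.mul_apply, ← pow_succ, Nat.sub_add_cancel h1, hh]; rfl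
  have hrefl : β.IsRefl := halt.isRefl
  have hperp : ∀ U : Submodule (ZMod p) V, (∀ x ∈ U, T x ∈ U) →
      ∀ x ∈ β.orthogonal U, T x ∈ β.orthogonal U := by
    intro U hU x hx
    rw [LinearMap.BilinForm.mem_orthogonal_iff] at hx ⊢
    intro u hu
    have hu' : (T ^ (h - 1)) u ∈ U := by simpa using aeval_mem T U hU (X ^ (h - 1)) u hu
    have hTu : T ((T ^ (h - 1)) u) = u := by
      rw [← Module.End.mul_apply, ← pow_succ', Nat.sub_add_cancel h1, hh]; rfl
    show β u (T x) = 0
    rw [← hTu, hinv]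
    exact hx _ hu'
  obtain ⟨U, ⟨hUT, hUiso⟩, hUmax⟩ := (Set.toFinite {U : Submodule (ZMod p) V |
      (∀ x ∈ U, T x ∈ U) ∧ U ≤ β.orthogonal U}).exists_maximal
    ⟨⊥, fun x hx => by simp_all, bot_le⟩
  by_cases hfull : β.orthogonal U ≤ U
  · right
    have heq : β.orthogonal U = U := le_antisymm hfull hUiso
    have := LinearMap.BilinForm.finrank_orthogonal hnd U
    rw [heq, hn] at this
    have := dvd_card_sub_one T h1 hh hfix U hUT
    rwa [show finrank (ZMod p) U = n by omega] at this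
  -- a minimal invariant subspace above `U` inside the orthogonal
  obtain ⟨W, ⟨hWT, hUW, hWperp⟩, hWmin⟩ := (Set.toFinite {W : Submodule (ZMod p) V |
      (∀ x ∈ W, T x ∈ W) ∧ U < W ∧ W ≤ β.orthogonal U}).exists_minimal
    ⟨β.orthogonal U, hperp U hUT, lt_of_le_not_ge hUiso hfull, le_rfl⟩
  have hrad : W ⊓ β.orthogonal W = U := by
    have hle : U ≤ W ⊓ β.orthogonal W := by
      refine le_inf hUW.le fun u hu => ?_
      rw [LinearMap.BilinForm.mem_orthogonal_iff]
      intro w hw
      exact hrefl _ _ (LinearMap.BilinForm.mem_orthogonal_iff.mp (hWperp hw) u hu)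
    rcases hle.eq_or_lt with he | hlt
    · exact he.symm
    exfalso
    have hR : W ≤ W ⊓ β.orthogonal W := hWmin
      ⟨fun x hx => ⟨hWT x hx.1, hperp W hWT x hx.2⟩, hlt, inf_le_left.trans hWperp⟩ inf_le_left
    exact hUW.not_ge (hUmax ⟨hWT, hR.trans inf_le_right⟩ hUW.le)
  -- the annihilator of `W` modulo `U`
  let I : Ideal (ZMod p)[X] :=
    { carrier := {q | ∀ x ∈ W, aeval T q x ∈ U}
      add_mem' := fun ha hb x hx => by rw [map_add]; exact add_mem (ha x hx) (hb x hx)
      zero_mem' := fun x _ => by simp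
      smul_mem' := fun c q hq x hx => by
        rw [smul_eq_mul, map_mul, Module.End.mul_apply]
        exact aeval_mem T U hUT c _ (hq x hx) }
  have hIX : X ^ h - 1 ∈ I := fun x _ => by simp [hh]
  have hIne : I ≠ ⊤ := by
    intro htop
    obtain ⟨x, hxW, hxU⟩ := SetLike.exists_of_lt hUW
    have : (1 : (ZMod p)[X]) ∈ I := htop ▸ Submodule.mem_top
    exact hxU (by simpa using this x hxW)
  have hIprime : I.IsPrime := by
    refine ⟨hIne, fun {q r} hqr => or_iff_not_imp_left.mpr fun hq => ?_⟩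
    let M : Submodule (ZMod p) V := W.map (aeval T q) ⊔ U
    have hMW : M ≤ W := sup_le (by
      rintro _ ⟨x, hx, rfl⟩; exact aeval_mem T W hWT q x hx) hUW.le
    have hMlt : U < M := lt_of_le_not_ge le_sup_right fun hle => hq fun x hx =>
      hle (Submodule.mem_sup_left ⟨x, hx, rfl⟩)
    have hMT : ∀ x ∈ M, T x ∈ M := by
      intro x hx
      obtain ⟨_, ⟨y, hy, rfl⟩, u, hu, rfl⟩ := Submodule.mem_sup.mp hx
      rw [map_add]
      refine add_mem (Submodule.mem_sup_left ⟨T y, hWT y hy, ?_⟩) (Submodule.mem_sup_right (hUT u hu))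
      show (aeval T q * T) y = (T * aeval T q) y
      rw [show aeval T q * T = aeval T (q * X) by rw [map_mul, aeval_X],
        show T * aeval T q = aeval T (X * q) by rw [map_mul, aeval_X], mul_comm]
    have hWM := hWmin ⟨hMT, hMlt, hMW.trans hWperp⟩ hMW
    intro x hx
    obtain ⟨_, ⟨y, hy, rfl⟩, u, hu, rfl⟩ := Submodule.mem_sup.mp (hWM hx)
    rw [map_add]
    refine add_mem ?_ (aeval_mem T U hUT r u hu)
    rw [← Module.End.mul_apply, ← map_mul, mul_comm r q]
    exact hqr y hy
  have hIbot : I ≠ ⊥ := fun hb => by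
    rw [hb, Ideal.mem_bot] at hIX
    exact X_pow_sub_C_ne_zero (Nat.lt_of_lt_of_le Nat.zero_lt_one h1) (1 : ZMod p) (by simpa using hIX)
  haveI : I.IsMaximal := hIprime.isMaximal hIbot
  let K := (ZMod p)[X] ⧸ I
  letI : Field K := Ideal.Quotient.field I
  set t : K := Ideal.Quotient.mk I X with ht
  have hmk : ∀ q : (ZMod p)[X], Ideal.Quotient.mk I q = aeval t q := fun q => by
    exact ((aeval_algHom_apply (Ideal.Quotient.mkₐ (ZMod p) I) X q).trans (by rw [aeval_X_left_apply]; rfl)).symm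
  have hth : t ^ h = 1 := by
    rw [ht, ← map_pow, ← (Ideal.Quotient.mk I).map_one, Ideal.Quotient.eq]
    exact hIX
  haveI : Finite K := by
    refine Finite.of_surjective
      (fun v : Fin h → ZMod p => ∑ i, algebraMap (ZMod p) K (v i) * t ^ (i : ℕ)) fun z => ?_
    obtain ⟨q, rfl⟩ := Ideal.Quotient.mk_surjective z
    rw [hmk]
    induction q using Polynomial.induction_on' with
    | add a b ha hb =>
      obtain ⟨va, hva⟩ := ha
      obtain ⟨vb, hvb⟩ := hb
      refine ⟨va + vb, ?_⟩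
      simp only at hva hvb ⊢
      simp only [Pi.add_apply, map_add, add_mul, Finset.sum_add_distrib, hva, hvb]
    | monomial i c =>
      refine ⟨Pi.single ⟨i % h, Nat.mod_lt _ (by omega)⟩ c, ?_⟩
      simp only
      rw [Finset.sum_eq_single ⟨i % h, Nat.mod_lt _ (by omega)⟩
        (fun b _ hb => by rw [Pi.single_eq_of_ne hb, map_zero, zero_mul]) (by simp),
        Pi.single_eq_same, aeval_monomial, ← pow_eq_pow_mod _ hth]
  have hcomp : ∀ q ∈ I, q.comp (X ^ (h - 1)) ∈ I := by
    intro q hq x hx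
    have h3 : aeval T (q.comp (X ^ (h - 1))) x ∈ W := aeval_mem T W hWT _ x hx
    rw [← hrad]
    refine ⟨h3, LinearMap.BilinForm.mem_orthogonal_iff.mpr fun w hw => ?_⟩
    show β w _ = 0
    rw [← aeval_adjoint T β hh h1 hinv]
    exact hrefl _ _ (LinearMap.BilinForm.mem_orthogonal_iff.mp ((hrad.ge (hq w hw)).2) x hx)
  let φ : K →ₐ[ZMod p] K := Ideal.Quotient.liftₐ I (aeval (t ^ (h - 1))) fun q hq => by
    have h4 := hcomp q hq
    rw [← Ideal.Quotient.eq_zero_iff_mem, hmk, aeval_comp] at h4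
    simpa using h4
  obtain ⟨i, hi⟩ := (FiniteField.bijective_frobeniusAlgHom_pow (ZMod p) K).2 φ
  have hj : t ^ (p ^ (i : ℕ)) = t ^ (h - 1) := by
    have h5 := DFunLike.congr_fun hi t
    simp only at h5
    rw [AlgHom.coe_pow, FiniteField.coe_frobeniusAlgHom, pow_iterate, ZMod.card] at h5
    simp only at h5
    rw [h5, ht]
    show aeval _ (X : (ZMod p)[X]) = _
    rw [aeval_X]
  have hj2 : t ^ (p ^ (i : ℕ) + 1) = 1 := by
    rw [pow_succ, hj, ← pow_succ, Nat.sub_add_cancel h1, hth]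
  refine arith hcop h2n (j := (i : ℕ)) ?_
  by_contra hnd'
  have hmem : X ^ (p ^ (i : ℕ) + 1) - 1 ∈ I := by
    rw [← Ideal.Quotient.eq, map_pow, map_one]
    exact hj2
  let D : Module.End (ZMod p) V := T ^ (p ^ (i : ℕ) + 1) - 1
  have hDinj : Function.Injective D := by
    refine (injective_iff_map_eq_zero D).mpr fun x hx => ?_
    by_contra hx0
    exact hnd' (hfix _ x hx0 (sub_eq_zero.mp hx))
  have hDU : ∀ x ∈ U, D x ∈ U := fun x hx => by
    have := aeval_mem T U hUT (X ^ (p ^ (i : ℕ) + 1) - 1) x hx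
    simpa [D] using this
  obtain ⟨x, hxW, hxU⟩ := SetLike.exists_of_lt hUW
  have hxD : D x ∈ U := by simpa [D] using hmem x hxW
  obtain ⟨u, hu⟩ := Finite.surjective_of_injective
    (f := fun u : U => (⟨D u, hDU u u.2⟩ : U))
    (fun a b hab => Subtype.ext (hDinj (congrArg Subtype.val hab))) ⟨D x, hxD⟩
  exact hxU (hDinj (congrArg Subtype.val hu) ▸ u.2)

end Cfsg.Agent.FG72.SympFPF
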