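import Mathlib
import Cfsg.Agent.Lib.PGroup.Extraspecial
import Cfsg.Agent.FG72.SympFPF

/-!
The symplectic space of an extraspecial group and fixed-point-free cyclic groups acting on it.
-/

set_option autoImplicit false

namespace Cfsg.Agent.FG72.ExtraModule

open Subgroup
open scoped commutatorElement

/-- The additive form of `SympFPF.dvd_pow_pm_one`. -/
theorem dvd_of_form {p : ℕ} [hp : Fact p.Prime] {V : Type*} [AddCommGroup V] [Finite V]
    [Module (ZMod p) V] {n h : ℕ} (hcard : Nat.card V = p ^ (2 * n)) (h1 : 1 ≤ h)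
    (hcop : h.Coprime p) (T : V →+ V) (hT : ∀ x, T^[h] x = x)
    (hfix : ∀ m x, x ≠ 0 → T^[m] x = x → h ∣ m) (ψ : V →+ V →+ ZMod p)
    (halt : ∀ x, ψ x x = 0) (hnd : ∀ x, (∀ y, ψ x y = 0) → x = 0)
    (hinv : ∀ x y, ψ (T x) (T y) = ψ x y) : h ∣ p ^ n + 1 ∨ h ∣ p ^ n - 1 := by
  haveI : FiniteDimensional (ZMod p) V := Module.Finite.of_finite
  have hrank : Module.finrank (ZMod p) V = 2 * n := by
    haveI : Fintype V := Fintype.ofFinite _
    rw [Nat.card_eq_fintype_card, Module.card_eq_pow_finrank (K := ZMod p), ZMod.card] at hcard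
    exact Nat.pow_right_injective hp.out.two_le hcard
  let β : LinearMap.BilinForm (ZMod p) V :=
    LinearMap.mk₂ (ZMod p) (fun x y => ψ x y)
      (fun x x' y => by rw [map_add]; rfl)
      (fun c x y => ZMod.map_smul (ψ.flip y) c x)
      (fun x y y' => map_add (ψ x) y y')
      (fun c x y => ZMod.map_smul (ψ x) c y)
  let T' : Module.End (ZMod p) V := AddMonoidHom.toZModLinearMap p T
  have hpow : ∀ (m : ℕ) (x : V), (T' ^ m) x = T^[m] x := by
    intro m x
    rw [Module.End.pow_apply]
    rfl
  have halt' : β.IsAlt := halt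
  refine SympFPF.dvd_pow_pm_one (p := p) (V := V) T' β h1 hcop ?_ ?_ halt' ⟨hnd, fun x hx => hnd x fun y => ?_⟩
    hinv hrank
  · refine LinearMap.ext fun x => ?_
    rw [hpow, hT]
    rfl
  · intro m x hx hmx
    rw [hpow] at hmx
    exact hfix m x hx hmx
  · exact halt'.isRefl _ _ (hx y)

variable {P : Type*} [Group P] [Finite P] {p : ℕ} [hp : Fact p.Prime]

/-- An automorphism of order dividing `h`, fixing the centre and fixed-point-free modulo it. -/
theorem dvd_of_aut (hE : Cfsg.IsExtraspecial p P) {n h : ℕ} (hn : Nat.card P = p ^ (2 * n + 1))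
    (h1 : 1 ≤ h) (hcop : h.Coprime p) (σ : MulAut P) (hσ : σ ^ h = 1)
    (hσZ : ∀ z ∈ center P, σ z = z)
    (hfix : ∀ m u, u ∉ center P → u⁻¹ * (σ ^ m) u ∈ center P → h ∣ m) :
    h ∣ p ^ n + 1 ∨ h ∣ p ^ n - 1 := by
  have hC := PGroup.xs_commutator_le hE
  letI : CommGroup (P ⧸ center P) :=
    { (inferInstance : Group (P ⧸ center P)) with
      mul_comm := fun a b => by
        induction a using QuotientGroup.induction_on with
        | H a =>
          induction b using QuotientGroup.induction_on with
          | H b =>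
            rw [← QuotientGroup.mk_mul, ← QuotientGroup.mk_mul, QuotientGroup.eq]
            have := PGroup.xs_comm_mem hE b⁻¹ a⁻¹
            simpa [commutatorElement_def, mul_assoc] using this }
  have hexp : ∀ x : Additive (P ⧸ center P), p • x = 0 := by
    intro x
    obtain ⟨a, ha⟩ := QuotientGroup.mk_surjective (Additive.toMul x)
    refine Additive.toMul.injective ?_
    rw [toMul_nsmul, ← ha, ← QuotientGroup.mk_pow]
    exact (QuotientGroup.eq_one_iff _).mpr (PGroup.xs_pow_mem hE a)
  have hcardV : Nat.card (Additive (P ⧸ center P)) = p ^ (2 * n) := by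
    have h2 := card_eq_card_quotient_mul_card_subgroup (center P)
    rw [hn, hE.2, pow_succ] at h2
    exact (Nat.eq_of_mul_eq_mul_right hp.out.pos h2).symm
  -- the commutator form
  let e : center P ≃* Multiplicative (ZMod p) :=
    mulEquivOfPrimeCardEq hE.2 (by rw [Nat.card_congr Multiplicative.toAdd, Nat.card_zmod])
  let cm : P → P → center P := fun a b => ⟨⁅a, b⁆, PGroup.xs_comm_mem hE a b⟩
  let φ : P → Additive (P ⧸ center P) →+ ZMod p := fun a =>
    MonoidHom.toAdditiveLeft (QuotientGroup.lift (center P)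
      (MonoidHom.mk' (fun b => e (cm a b)) fun b c => by
        rw [← map_mul]
        exact congrArg e (Subtype.ext (PGroup.comm_mul_right hC a b c)))
      fun b hb => by
        rw [MonoidHom.mem_ker, MonoidHom.mk'_apply, MulEquiv.map_eq_one_iff]
        exact Subtype.ext (commutatorElement_eq_one_iff_mul_comm.mpr (mem_center_iff.mp hb a)))
  have hφ : ∀ a b : P, φ a (Additive.ofMul (b : P ⧸ center P)) =
      Multiplicative.toAdd (e (cm a b)) := fun a b => rfl
  let ψ : Additive (P ⧸ center P) →+ (Additive (P ⧸ center P) →+ ZMod p) :=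
    MonoidHom.toAdditiveLeft (QuotientGroup.lift (center P)
      (MonoidHom.mk' (fun a => Multiplicative.ofAdd (φ a)) fun a c =>
        congrArg Multiplicative.ofAdd (AddMonoidHom.ext fun x => by
          obtain ⟨b, hb⟩ := QuotientGroup.mk_surjective (Additive.toMul x)
          rw [show x = Additive.ofMul (b : P ⧸ center P) by rw [hb]; rfl]
          show φ (a * c) _ = φ a _ + φ c _
          rw [hφ, hφ, hφ, ← toAdd_mul, ← map_mul]
          exact congrArg (fun z => Multiplicative.toAdd (e z))
            (Subtype.ext (PGroup.comm_mul_left hC a c b))))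
      fun a ha => by
        rw [MonoidHom.mem_ker, MonoidHom.mk'_apply]
        refine congrArg Multiplicative.ofAdd (AddMonoidHom.ext fun x => ?_)
        obtain ⟨b, hb⟩ := QuotientGroup.mk_surjective (Additive.toMul x)
        rw [show x = Additive.ofMul (b : P ⧸ center P) by rw [hb]; rfl, hφ]
        show Multiplicative.toAdd (e (cm a b)) = 0
        rw [show cm a b = 1 from
          Subtype.ext (commutatorElement_eq_one_iff_mul_comm.mpr (mem_center_iff.mp ha b).symm),
          map_one]
        rfl)
  have hβ : ∀ a b : P, ψ (Additive.ofMul (a : P ⧸ center P)) (Additive.ofMul (b : P ⧸ center P)) =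
      Multiplicative.toAdd (e (cm a b)) := fun a b => rfl
  have hrep : ∀ x : Additive (P ⧸ center P), ∃ a : P, x = Additive.ofMul (a : P ⧸ center P) :=
    fun x => by
      obtain ⟨a, ha⟩ := QuotientGroup.mk_surjective (Additive.toMul x)
      exact ⟨a, by rw [ha]; rfl⟩
  have hzero : ∀ a b : P, Multiplicative.toAdd (e (cm a b)) = 0 → a * b = b * a := by
    intro a b hab
    have h2 : cm a b = 1 := e.injective (by rw [map_one]; exact hab)
    exact commutatorElement_eq_one_iff_mul_comm.mp (congrArg Subtype.val h2)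
  -- the operator
  let T : Additive (P ⧸ center P) →+ Additive (P ⧸ center P) :=
    MonoidHom.toAdditive (QuotientGroup.map (center P) (center P) σ.toMonoidHom
      (fun z hz => by show σ z ∈ center P; rw [hσZ z hz]; exact hz))
  have hT : ∀ (m : ℕ) (a : P), T^[m] (Additive.ofMul (a : P ⧸ center P)) =
      Additive.ofMul (((σ ^ m) a : P) : P ⧸ center P) := by
    intro m
    induction m with
    | zero => intro a; rfl
    | succ m ih => intro a; rw [Function.iterate_succ_apply', ih, pow_succ']; rfl
  letI : Module (ZMod p) (Additive (P ⧸ center P)) :=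
    AddCommGroup.zmodModule (n := p) (G := Additive (P ⧸ center P)) hexp
  refine dvd_of_form hcardV h1 hcop T ?_ ?_ ψ ?_ ?_ ?_
  · intro x
    obtain ⟨a, rfl⟩ := hrep x
    rw [hT, hσ]
    rfl
  · intro m x hx hmx
    obtain ⟨a, rfl⟩ := hrep x
    rw [hT] at hmx
    refine hfix m a (fun ha => hx (congrArg Additive.ofMul ((QuotientGroup.eq_one_iff a).mpr ha))) ?_
    exact QuotientGroup.eq.mp (Additive.ofMul.injective hmx.symm)
  · intro x
    obtain ⟨a, rfl⟩ := hrep x
    rw [hβ, show cm a a = 1 from Subtype.ext (commutatorElement_self a), map_one]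
    rfl
  · intro x hx
    obtain ⟨a, rfl⟩ := hrep x
    refine congrArg Additive.ofMul ((QuotientGroup.eq_one_iff a).mpr (mem_center_iff.mpr fun g => ?_))
    exact (hzero a g (by rw [← hβ]; exact hx _)).symm
  · intro x y
    obtain ⟨a, rfl⟩ := hrep x
    obtain ⟨b, rfl⟩ := hrep y
    have h3 : ∀ a : P, T (Additive.ofMul (a : P ⧸ center P)) =
        Additive.ofMul ((σ a : P) : P ⧸ center P) := fun a => rfl
    rw [h3, h3, hβ, hβ]
    refine congrArg (fun z => Multiplicative.toAdd (e z)) (Subtype.ext ?_)
    show ⁅σ a, σ b⁆ = ⁅a, b⁆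
    rw [← map_commutatorElement, hσZ _ (PGroup.xs_comm_mem hE a b)]

end Cfsg.Agent.FG72.ExtraModule
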