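import Cfsg.Agent.Lib.Coprime.Action
import Cfsg.Agent.Lib.PGroup.Commutator
import Mathlib.GroupTheory.PGroup
import Mathlib.Algebra.BigOperators.Group.Finset.Basic

/-!
The abelian group structure on a group of odd order and class at most two, and the fixed point
argument behind Thompson's strengthened `P × Q` lemma.
-/

set_option autoImplicit false

namespace Cfsg.Agent.FG72

open scoped commutatorElement

variable {H : Type*} [Group H]

/-- The Baer sum with parameter `m`. -/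
def baerAdd (m : ℕ) (u v : H) : H := u * v * ⁅v, u⁆ ^ m

/-- The Baer group of a class two group with all commutators of order dividing `2 m - 1`. -/
@[reducible] def baerGroup (hcl : ∀ a b c : H, ⁅a, b⁆ * c = c * ⁅a, b⁆) (m : ℕ)
    (hm : ∀ a b : H, ⁅a, b⁆ ^ (2 * m) = ⁅a, b⁆) : AddCommGroup H where
  add := baerAdd m
  zero := 1
  neg := fun u => u⁻¹
  zero_add := fun u => show baerAdd m 1 u = u by simp [baerAdd]
  add_zero := fun u => show baerAdd m u 1 = u by simp [baerAdd]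
  neg_add_cancel := fun u => show baerAdd m u⁻¹ u = 1 by
    have h : ⁅u, u⁻¹⁆ = 1 := by simp [commutatorElement_def]
    simp [baerAdd, h]
  add_comm := fun u v => show baerAdd m u v = baerAdd m v u by
    unfold baerAdd
    have h1 : v * u = u * v * ⁅v, u⁆ := by
      calc v * u = ⁅v, u⁆ * (u * v) := by simp [commutatorElement_def, mul_assoc]
        _ = u * v * ⁅v, u⁆ := hcl v u _
    have h2 : ⁅u, v⁆ = ⁅v, u⁆⁻¹ := (commutatorElement_inv v u).symm
    rw [h1, h2, inv_pow]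
    have h3 : ⁅v, u⁆ ^ m * ⁅v, u⁆ ^ m = ⁅v, u⁆ := by rw [← pow_add, ← two_mul, hm]
    have h4 : ⁅v, u⁆ * (⁅v, u⁆ ^ m)⁻¹ = ⁅v, u⁆ ^ m := by
      nth_rewrite 1 [← h3]; rw [mul_assoc, mul_inv_cancel, mul_one]
    rw [mul_assoc (u * v) ⁅v, u⁆, h4]
  add_assoc := fun u v w => show baerAdd m (baerAdd m u v) w = baerAdd m u (baerAdd m v w) by
    have hc : ∀ a b c : H, Commute ⁅a, b⁆ c := hcl
    have key : ∀ (z : H), (∀ c, Commute z c) → ∀ a b : H, ⁅a, b * z⁆ = ⁅a, b⁆ ∧ ⁅b * z, a⁆ = ⁅b, a⁆ := by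
      intro z hz a b
      constructor
      · calc ⁅a, b * z⁆ = a * b * (z * a⁻¹) * (z⁻¹ * b⁻¹) := by
              simp [commutatorElement_def, mul_assoc]
          _ = ⁅a, b⁆ := by rw [(hz a⁻¹).eq]; simp [commutatorElement_def, mul_assoc]
      · calc ⁅b * z, a⁆ = b * (z * a) * z⁻¹ * b⁻¹ * a⁻¹ := by
              simp [commutatorElement_def, mul_assoc]
          _ = ⁅b, a⁆ := by rw [(hz a).eq]; simp [commutatorElement_def, mul_assoc]
    have bil1 : ∀ a b c : H, ⁅a, b * c⁆ = ⁅a, b⁆ * ⁅a, c⁆ := by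
      intro a b c
      calc ⁅a, b * c⁆ = ⁅a, b⁆ * (b * ⁅a, c⁆ * b⁻¹) := by simp [commutatorElement_def, mul_assoc]
        _ = ⁅a, b⁆ * ⁅a, c⁆ := by rw [(hc a c b).symm.eq, mul_inv_cancel_right]
    have bil2 : ∀ a b c : H, ⁅a * b, c⁆ = ⁅a, c⁆ * ⁅b, c⁆ := by
      intro a b c
      calc ⁅a * b, c⁆ = a * ⁅b, c⁆ * a⁻¹ * ⁅a, c⁆ := by simp [commutatorElement_def, mul_assoc]
        _ = ⁅a, c⁆ * ⁅b, c⁆ := by
          rw [(hc b c a).symm.eq, mul_inv_cancel_right, (hc a c ⁅b, c⁆).eq]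
    unfold baerAdd
    rw [(key _ (fun c => (hc v u c).pow_left m) w (u * v)).1,
      (key _ (fun c => (hc w v c).pow_left m) u (v * w)).2]
    rw [bil1 w u v, bil2 v w u, (hc w u ⁅w, v⁆).mul_pow, (hc v u ⁅w, u⁆).mul_pow]
    have e1 := ((hc v u w).pow_left m).eq
    have e2 := ((hc v u ⁅w, u⁆).pow_pow m m).eq
    have e3 := ((hc v u ⁅w, v⁆).pow_pow m m).eq
    have e4 := ((hc w u ⁅w, v⁆).pow_pow m m).eq
    calc u * v * ⁅v, u⁆ ^ m * w * (⁅w, u⁆ ^ m * ⁅w, v⁆ ^ m)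
        = u * v * (⁅v, u⁆ ^ m * w) * (⁅w, u⁆ ^ m * ⁅w, v⁆ ^ m) := by group
      _ = u * v * w * (⁅v, u⁆ ^ m * (⁅w, u⁆ ^ m * ⁅w, v⁆ ^ m)) := by rw [e1]; group
      _ = u * v * w * (⁅w, v⁆ ^ m * (⁅v, u⁆ ^ m * ⁅w, u⁆ ^ m)) := by
          congr 1
          rw [e4, ← mul_assoc, e3, mul_assoc]
      _ = u * (v * w * ⁅w, v⁆ ^ m) * (⁅v, u⁆ ^ m * ⁅w, u⁆ ^ m) := by group
  nsmul := @nsmulRec H ⟨1⟩ ⟨baerAdd m⟩
  zsmul := @zsmulRec H ⟨1⟩ ⟨baerAdd m⟩ ⟨fun u => u⁻¹⟩ (@nsmulRec H ⟨1⟩ ⟨baerAdd m⟩)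

variable {X : Type*} [Group X] [Finite X]

/-- If the class two `p`-group `U` (`p` odd) has all fixed points of the `p`-group `P` fixed by the
`P`-invariant `p'`-group `Q`, then `Q` centralizes `U`. -/
theorem le_centralizer_of_classTwo {p : ℕ} [Fact p.Prime] (hp : p ≠ 2) (P Q U : Subgroup X)
    (hP : IsPGroup p P) (hQ : (Nat.card Q).Coprime p)
    (hPQ : P ≤ Subgroup.normalizer (Q : Set X)) (hU : IsPGroup p U)
    (hPU : P ≤ Subgroup.normalizer (U : Set X)) (hQU : Q ≤ Subgroup.normalizer (U : Set X))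
    (hcl : ⁅⁅U, U⁆, U⁆ = ⊥)
    (hC : U ⊓ Subgroup.centralizer (P : Set X) ≤ Subgroup.centralizer (Q : Set X)) :
    Q ≤ Subgroup.centralizer (U : Set X) := by
  classical
  have hprime : p.Prime := Fact.out
  have hcl' : ∀ a b c : U, ⁅a, b⁆ * c = c * ⁅a, b⁆ := by
    intro a b c
    apply Subtype.ext
    have h1 := Subgroup.commutator_eq_bot_iff_le_centralizer.mp hcl
      (Subgroup.commutator_mem_commutator a.2 b.2)
    exact ((Subgroup.mem_centralizer_iff.mp h1) c c.2).symm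
  obtain ⟨k, hk⟩ := IsPGroup.iff_card.mp hU
  obtain ⟨m, hm⟩ : ∃ m, 2 * m = Nat.card U + 1 := by
    have : Odd (Nat.card U) := hk ▸ (hprime.odd_of_ne_two hp).pow
    obtain ⟨j, hj⟩ := this
    exact ⟨j + 1, by omega⟩
  have hm' : ∀ a b : U, ⁅a, b⁆ ^ (2 * m) = ⁅a, b⁆ := fun a b => by
    rw [hm, pow_succ, pow_card_eq_one', one_mul]
  letI : AddCommGroup U := baerGroup hcl' m hm'
  have hadd : ∀ u v : U, ((u + v : U) : X) = (u : X) * v * ⁅(v : X), (u : X)⁆ ^ m := fun _ _ => rfl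
  have h0 : ((0 : U) : X) = 1 := rfl
  let σ : Subgroup.normalizer (U : Set X) → U →+ U := fun g => AddMonoidHom.mk'
    (fun u => ⟨(g : X) * u * (g : X)⁻¹, Coprime.conj_mem_of_mem_normalizer g.2 u.2⟩) (fun u v => by
      apply Subtype.ext
      refine Eq.trans ?_ (hadd _ _).symm
      show (g : X) * ((u + v : U) : X) * (g : X)⁻¹ =
        (g : X) * u * (g : X)⁻¹ * ((g : X) * v * (g : X)⁻¹) *
          ⁅(g : X) * v * (g : X)⁻¹, (g : X) * u * (g : X)⁻¹⁆ ^ m
      simp only [← MulAut.conj_apply]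
      rw [hadd, map_mul, map_mul, map_pow, map_commutatorElement])
  have hσ : ∀ g u, ((σ g u : U) : X) = (g : X) * u * (g : X)⁻¹ := fun _ _ => rfl
  have hσm : ∀ g g' u, σ g (σ g' u) = σ (g * g') u := fun g g' u => Subtype.ext (by
    simp [hσ, mul_assoc])
  letI : Fintype Q := Fintype.ofFinite Q
  let σQ : Q → U →+ U := fun q => σ ⟨q, hQU q.2⟩
  let N : U →+ U := ∑ q : Q, σQ q
  have hN : ∀ u, N u = ∑ q : Q, σQ q u := fun u => AddMonoidHom.finset_sum_apply _ _ u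
  have hNfix : ∀ u (r : Q), σQ r (N u) = N u := by
    intro u r
    rw [hN, map_sum]
    refine Fintype.sum_equiv (Equiv.mulLeft r) _ _ fun q => ?_
    exact (hσm _ _ u).trans rfl
  have hfix0 : ∀ u : U, (∀ q : Q, σQ q u = u) → N u = 0 → u = 0 := by
    intro u hu hNu
    rw [hN, Finset.sum_congr rfl (fun q _ => hu q), Finset.sum_const, Finset.card_univ,
      ← Nat.card_eq_fintype_card] at hNu
    have h1 : addOrderOf u ∣ Nat.card Q := addOrderOf_dvd_iff_nsmul_eq_zero.mpr hNu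
    have h2 : addOrderOf u ∣ Nat.card U := addOrderOf_dvd_natCard u
    rw [hk] at h2
    exact AddMonoid.addOrderOf_eq_one_iff.mp
      (Nat.eq_one_of_dvd_coprimes (hQ.pow_right k) h1 h2)
  have hker : N.ker = ⊥ := by
    by_contra hne
    have hinv : ∀ (x : P) (u : U), u ∈ N.ker → σ ⟨x, hPU x.2⟩ u ∈ N.ker := by
      intro x u hu
      rw [AddMonoidHom.mem_ker, hN] at hu ⊢
      rw [← map_zero (σ ⟨x, hPU x.2⟩), ← hu, map_sum]
      let e : Q ≃ Q :=
        { toFun := fun q => ⟨(x : X)⁻¹ * q * x,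
            Coprime.conj_mem_of_mem_normalizer' (hPQ x.2) q.2⟩
          invFun := fun q => ⟨(x : X) * q * (x : X)⁻¹,
            Coprime.conj_mem_of_mem_normalizer (hPQ x.2) q.2⟩
          left_inv := fun q => Subtype.ext (by simp [mul_assoc])
          right_inv := fun q => Subtype.ext (by simp [mul_assoc]) }
      refine Fintype.sum_equiv e _ _ fun q => ?_
      apply Subtype.ext
      simp [σQ, e, hσ, mul_assoc]
    letI : MulAction P N.ker :=
      { smul := fun x u => ⟨σ ⟨x, hPU x.2⟩ u.1, hinv x u.1 u.2⟩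
        one_smul := fun u => Subtype.ext (Subtype.ext
          (show (1 : X) * ((u : U) : X) * 1⁻¹ = ((u : U) : X) by simp))
        mul_smul := fun x y u => Subtype.ext (hσm ⟨x, hPU x.2⟩ ⟨y, hPU y.2⟩ u.1).symm }
    have hdvd : p ∣ Nat.card N.ker := by
      have h1 : Nat.card N.ker ∣ p ^ k := hk ▸ N.ker.card_addSubgroup_dvd_card
      obtain ⟨i, -, hi⟩ := (Nat.dvd_prime_pow hprime).mp h1
      rcases i with _ | i
      · exact absurd (N.ker.eq_bot_of_card_eq (by simpa using hi)) hne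
      · rw [hi]; exact dvd_pow_self _ (Nat.succ_ne_zero i)
    have h0fix : (0 : N.ker) ∈ MulAction.fixedPoints P N.ker :=
      fun x => Subtype.ext (map_zero (σ ⟨x, hPU x.2⟩))
    obtain ⟨b, hb, hb0⟩ := hP.exists_fixed_point_of_prime_dvd_card_of_fixed_point N.ker hdvd h0fix
    apply hb0
    apply Subtype.ext
    refine (hfix0 b.1 (fun q => ?_) b.2).symm
    have hbC : ((b.1 : U) : X) ∈ U ⊓ Subgroup.centralizer (P : Set X) :=
      ⟨b.1.2, fun y hy => by
        have := congrArg (fun w : N.ker => ((w : U) : X)) (hb ⟨y, hy⟩)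
        exact mul_inv_eq_iff_eq_mul.mp this⟩
    exact Subtype.ext (mul_inv_eq_iff_eq_mul.mpr (Subgroup.mem_centralizer_iff.mp (hC hbC) q q.2))
  intro q hq
  rw [Subgroup.mem_centralizer_iff]
  intro y hy
  have hinj : Function.Injective N := (AddMonoidHom.ker_eq_bot_iff N).mp hker
  obtain ⟨u, hu⟩ := (Finite.injective_iff_surjective.mp hinj) ⟨y, hy⟩
  have := congrArg Subtype.val (hNfix u ⟨q, hq⟩)
  rw [hu] at this
  exact (mul_inv_eq_iff_eq_mul.mp this).symm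

end Cfsg.Agent.FG72
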