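import Cfsg.Agent.Lib.Components.GenFitting
import Cfsg.Agent.BGUniq.FittingOf

/-!
Bender's theorem on primitive pairs.
-/

set_option autoImplicit false

namespace Cfsg.Agent.FG72

open Cfsg.Agent.Components Cfsg.Agent.BGUniq
open scoped commutatorElement

variable {G : Type*} [Group G] [Finite G]

/-- The condition for a primitive pair. -/
def IsPrimPair (M₁ M₂ : Subgroup G) : Prop :=
  ∀ A : Subgroup G, A ≠ ⊥ → A ≤ M₁ ⊓ M₂ →
    (M₁ ≤ Subgroup.normalizer (A : Set G) → M₂ ⊓ Subgroup.normalizer (A : Set G) = M₁ ⊓ M₂) ∧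
    (M₂ ≤ Subgroup.normalizer (A : Set G) → M₁ ⊓ Subgroup.normalizer (A : Set G) = M₁ ⊓ M₂)

theorem IsPrimPair.symm {M₁ M₂ : Subgroup G} (h : IsPrimPair M₁ M₂) : IsPrimPair M₂ M₁ := by
  intro A hA hle
  rw [inf_comm M₂ M₁] at hle ⊢
  exact ⟨(h A hA hle).2, (h A hA hle).1⟩

/-- A nontrivial subgroup normal in both members of a primitive pair forces equality. -/
theorem IsPrimPair.eq_of_normal_both {M₁ M₂ : Subgroup G} (h : IsPrimPair M₁ M₂) {A : Subgroup G}
    (hA : A ≠ ⊥) (hle : A ≤ M₁ ⊓ M₂) (h₁ : M₁ ≤ Subgroup.normalizer (A : Set G))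
    (h₂ : M₂ ≤ Subgroup.normalizer (A : Set G)) : M₁ = M₂ := by
  have e₂ := (h A hA hle).1 h₁
  have e₁ := (h A hA hle).2 h₂
  rw [inf_eq_left.mpr h₂] at e₂
  rw [inf_eq_left.mpr h₁] at e₁
  exact e₁.trans e₂.symm

/-- A component of `D ≤ M` lies in `F*(M)` if `D` contains `F*(M)`. -/
theorem component_le_genFitting_of_component_subgroupOf (M D L : Subgroup G) (hDM : D ≤ M)
    (hF : (Cfsg.generalizedFittingSubgroup ↥M).map M.subtype ≤ D) (hLD : L ≤ D)
    (hL : Cfsg.IsComponent (L.subgroupOf D)) :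
    L ≤ (Cfsg.generalizedFittingSubgroup ↥M).map M.subtype := by
  set S := (Cfsg.generalizedFittingSubgroup ↥M).map M.subtype with hS
  haveI : (S.subgroupOf D).Normal :=
    (Subgroup.normal_subgroupOf_iff_le_normalizer hF).mpr (hDM.trans fun x hx =>
      (Cfsg.generalizedFittingSubgroup ↥M).le_normalizer_map M.subtype
        ⟨⟨x, hx⟩, by rw [Subgroup.normalizer_eq_top]; trivial, rfl⟩)
  rcases component_le_or_commutator_eq_bot_of_normal hL (S.subgroupOf D) with h | h
  · have := Subgroup.map_mono (f := D.subtype) h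
    rwa [Subgroup.map_subgroupOf_eq_of_le hLD, Subgroup.map_subgroupOf_eq_of_le hF] at this
  · exfalso
    have hc := Subgroup.commutator_eq_bot_iff_le_centralizer.mp h
    have hcomm : ∀ l ∈ L, ∀ s ∈ S, s * l = l * s := fun l hl s hs =>
      congrArg Subtype.val
        (Subgroup.mem_centralizer_iff.mp (hc (show (⟨l, hLD hl⟩ : D) ∈ L.subgroupOf D from hl))
          ⟨s, hF hs⟩ hs)
    have hLS : L ≤ S := by
      intro l hl
      refine ⟨⟨l, hDM (hLD hl)⟩, centralizer_generalizedFitting_le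
        (Subgroup.mem_centralizer_iff.mpr fun y hy => Subtype.ext ?_), rfl⟩
      exact hcomm l hl _ ⟨y, hy, rfl⟩
    refine not_isMulCommutative_of_isQuasisimple hL.2 ⟨⟨fun a b => ?_⟩⟩
    exact Subtype.ext (Subtype.ext (hcomm _ b.2 _ (hLS a.2)))

/-- In a Bender pair, each component of the first group lies in the second layer. -/
theorem layer_map_le (M₁ M₂ : Subgroup G)
    (h₁ : (Cfsg.generalizedFittingSubgroup ↥M₁).map M₁.subtype ≤ M₂)
    (h₂ : (Cfsg.generalizedFittingSubgroup ↥M₂).map M₂.subtype ≤ M₁) :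
    (Cfsg.layer ↥M₁).map M₁.subtype ≤ (Cfsg.layer ↥M₂).map M₂.subtype := by
  rw [Subgroup.map_le_iff_le_comap, layer_le_iff]
  intro K hK
  rw [← Subgroup.map_le_iff_le_comap]
  set L := K.map M₁.subtype with hL
  have hLD : L ≤ M₁ ⊓ M₂ := le_inf (Subgroup.map_subtype_le _)
    ((Subgroup.map_mono (component_le_generalizedFitting hK)).trans h₁)
  have hKq : IsQuasisimple L :=
    isQuasisimple_of_mulEquiv (K.equivMapOfInjective _ M₁.subtype_injective) hK.2
  have hcD : Cfsg.IsComponent (L.subgroupOf (M₁ ⊓ M₂)) := by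
    refine ⟨?_, isQuasisimple_of_mulEquiv (Subgroup.subgroupOfEquivOfLe hLD).symm hKq⟩
    have : L.subgroupOf (M₁ ⊓ M₂) = K.comap (Subgroup.inclusion inf_le_left) := by
      ext x
      exact ⟨fun ⟨y, hy, e⟩ => by
        rw [Subgroup.mem_comap]; rwa [show Subgroup.inclusion inf_le_left x = y from Subtype.ext e.symm],
        fun h => ⟨_, h, rfl⟩⟩
    rw [this]
    exact hK.1.comap _
  have hF₂ : (Cfsg.generalizedFittingSubgroup ↥M₂).map M₂.subtype ≤ M₁ ⊓ M₂ :=
    le_inf h₂ (Subgroup.map_subtype_le _)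
  have hLS := component_le_genFitting_of_component_subgroupOf M₂ (M₁ ⊓ M₂) L inf_le_right hF₂ hLD hcD
  -- `L` is subnormal in `M₂`
  have hL2 : L ≤ M₂ := hLD.trans inf_le_right
  refine le_of_eq_of_le (Subgroup.map_subgroupOf_eq_of_le hL2).symm (Subgroup.map_mono
    (component_le_layer ⟨?_, isQuasisimple_of_mulEquiv (Subgroup.subgroupOfEquivOfLe hL2).symm hKq⟩))
  set S := (Cfsg.generalizedFittingSubgroup ↥M₂) with hS
  have hle : L.subgroupOf M₂ ≤ S := fun x hx => by
    obtain ⟨y, hy, e⟩ := hLS hx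
    rwa [← Subtype.ext e]
  have hsS : ((L.subgroupOf M₂).subgroupOf S).IsSubnormal := by
    let ι : S →* ↥(M₁ ⊓ M₂) :=
      (M₂.subtype.comp S.subtype).codRestrict (M₁ ⊓ M₂) fun s => hF₂ ⟨s, s.2, rfl⟩
    exact hcD.1.comap ι
  have := hsS.trans' (Subgroup.Normal.isSubnormal (H := S) inferInstance)
  rwa [Subgroup.map_subgroupOf_eq_of_le hle] at this

/-- Conjugates of `O_q(M₁)` under `M₂` stay in `M₁ ∩ M₂`. -/
theorem conj_core_mem (M₁ M₂ : Subgroup G) (hP : IsPrimPair M₁ M₂)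
    (hnil₁ : fittingOf M₁ ≤ fittingOf (M₁ ⊓ M₂)) (hnil₂ : fittingOf M₂ ≤ fittingOf (M₁ ⊓ M₂))
    (hself : M₂ ⊓ Subgroup.centralizer (fittingOf M₂ : Set G) ≤ fittingOf M₂)
    {p q : ℕ} [Fact p.Prime] [Fact q.Prime] (hpq : p ≠ q) (hP₁ : core p M₁ ≠ ⊥)
    {m : G} (hm : m ∈ M₂) {y : G} (hy : y ∈ core q M₁) : m * y * m⁻¹ ∈ M₁ := by
  set D := M₁ ⊓ M₂ with hD
  have hFD : fittingOf D ≤ D := fittingOf_le D
  have hP1F : core p M₁ ≤ fittingOf D := (core_le_fittingOf p M₁).trans hnil₁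
  have hcop : ∀ {r s : ℕ}, r.Prime → s.Prime → r ≠ s → ∀ {a b : G}, a ∈ fittingOf D → b ∈ fittingOf D →
      (∃ i, orderOf a = r ^ i) → (∃ j, orderOf b = s ^ j) → a * b = b * a := by
    intro r s hr hs hrs a b ha hb ⟨i, hi⟩ ⟨j, hj⟩
    haveI := Fact.mk hr
    haveI := Fact.mk hs
    exact core_commute hrs (mem_core_of_mem_fittingOf ha hi) (mem_core_of_mem_fittingOf hb hj)
  have hord : ∀ {r : ℕ} [Fact r.Prime] {M : Subgroup G} {a : G}, a ∈ core r M →
      ∃ i, orderOf a = r ^ i := fun {r} _ {M} {a} ha => by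
    obtain ⟨i, hi⟩ := IsPGroup.iff_orderOf.mp (isPGroup_core r M) ⟨a, ha⟩
    exact ⟨i, by rw [← hi, Subgroup.orderOf_mk]⟩
  set x := m * y * m⁻¹ with hx
  have hyM₂ : y ∈ M₂ := (hFD (hnil₁ (core_le_fittingOf q M₁ hy))).2
  have hxM₂ : x ∈ M₂ := M₂.mul_mem (M₂.mul_mem hm hyM₂) (M₂.inv_mem hm)
  obtain ⟨k, hk⟩ : ∃ k, x ^ q ^ k = 1 := by
    obtain ⟨i, hi⟩ := hord hy
    exact ⟨i, by rw [hx, conj_pow, ← hi, pow_orderOf_eq_one]; simp⟩
  -- `x` centralizes `O_p(M₂)`
  have hxP₂ : ∀ a ∈ core p M₂, x * a = a * x := by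
    intro a ha
    have hb : m⁻¹ * a * m ∈ core p M₂ :=
      Coprime.conj_mem_of_mem_normalizer' (le_normalizer_core p M₂ hm) ha
    have := hcop Fact.out Fact.out (Ne.symm hpq) (hnil₁ (core_le_fittingOf q M₁ hy))
      (hnil₂ (core_le_fittingOf p M₂ hb)) (hord hy) (hord hb)
    calc x * a = m * (y * (m⁻¹ * a * m)) * m⁻¹ := by rw [hx]; group
      _ = m * ((m⁻¹ * a * m) * y) * m⁻¹ := by rw [this]
      _ = a * x := by rw [hx]; group
  -- `x` centralizes `O_p(M₁)`
  have hxP₁ : ∀ u ∈ core p M₁, x * u = u * x := by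
    intro u hu
    have huM₂ : u ∈ M₂ := (hFD (hP1F hu)).2
    have huT : ∀ r : ℕ, r.Prime → r ≠ p → ∀ b ∈ core r M₂, u * b = b * u := by
      intro r hr hrp b hb
      haveI := Fact.mk hr
      exact hcop Fact.out hr (Ne.symm hrp) (hP1F hu) (hnil₂ (core_le_fittingOf r M₂ hb))
        (hord hu) (hord hb)
    set z := x * u * x⁻¹ * u⁻¹ with hz
    have hzM₂ : z ∈ M₂ := M₂.mul_mem (M₂.mul_mem (M₂.mul_mem hxM₂ huM₂) (M₂.inv_mem hxM₂)) (M₂.inv_mem huM₂)
    have hzF : z ∈ fittingOf M₂ := by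
      refine hself ⟨hzM₂, ?_⟩
      have hle : fittingOf M₂ ≤ Subgroup.centralizer ({z} : Set G) := by
        refine fittingOf_le_of_core_le fun r hr b hb => ?_
        haveI := Fact.mk hr
        rw [Subgroup.mem_centralizer_singleton_iff]
        have hmem : ∀ g ∈ M₂, ∀ c ∈ core r M₂, g⁻¹ * c * g ∈ core r M₂ := fun g hg c hc =>
          Coprime.conj_mem_of_mem_normalizer' (le_normalizer_core r M₂ hg) hc
        rcases eq_or_ne r p with rfl | hrp
        · have hc1 : Commute x b := hxP₂ b hb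
          have hc2 : Commute x (u⁻¹ * b * u) := hxP₂ _ (hmem u huM₂ b hb)
          have hz' : z * b = b * z := by
            calc z * b = x * u * x⁻¹ * (u⁻¹ * b * u) * u⁻¹ := by rw [hz]; group
              _ = x * u * ((u⁻¹ * b * u) * x⁻¹) * u⁻¹ := by rw [← hc2.inv_left.eq]; group
              _ = x * b * u * x⁻¹ * u⁻¹ := by group
              _ = b * x * u * x⁻¹ * u⁻¹ := by rw [hc1.eq]
              _ = b * z := by rw [hz]; group
          exact hz'.symm
        · have hu1 : Commute u b := huT r hr hrp b hb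
          have hu2 : Commute u (x⁻¹ * b * x) := huT r hr hrp _ (hmem x hxM₂ b hb)
          have hz' : z * b = b * z := by
            calc z * b = x * u * x⁻¹ * (u⁻¹ * b) := by rw [hz]; group
              _ = x * u * x⁻¹ * (b * u⁻¹) := by rw [hu1.inv_left.eq]
              _ = x * (u * (x⁻¹ * b * x)) * x⁻¹ * u⁻¹ := by group
              _ = x * ((x⁻¹ * b * x) * u) * x⁻¹ * u⁻¹ := by rw [hu2.eq]
              _ = b * z := by rw [hz]; group
          exact hz'.symm
      exact Subgroup.mem_centralizer_iff.mpr fun g hg => Subgroup.mem_centralizer_singleton_iff.mp (hle hg)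
    -- `z` is a `p`-element
    have hzp : z ∈ core p M₂ := by
      obtain ⟨e, n, hn, heq⟩ :=
        Nat.exists_eq_pow_mul_and_not_dvd (orderOf_pos z).ne' p (Fact.out : p.Prime).ne_one
      have hco : (p ^ e).Coprime n := ((Fact.out : p.Prime).coprime_iff_not_dvd.mpr hn).pow_left e
      have hz1 : z ^ ((p ^ e * n : ℕ) : ℤ) = 1 := by rw [zpow_natCast, ← heq, pow_orderOf_eq_one]
      set A := Nat.gcdA (p ^ e) n with hA
      set B := Nat.gcdB (p ^ e) n with hB
      have hbez : (1 : ℤ) = (p ^ e : ℕ) * A + (n : ℤ) * B := by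
        rw [hA, hB, ← Nat.gcd_eq_gcd_ab, hco.gcd_eq_one]; simp
      set a := z ^ ((n : ℤ) * B) with ha
      set b := z ^ (((p ^ e : ℕ) : ℤ) * A) with hb
      have hab : z = a * b := by
        rw [ha, hb, ← zpow_add, add_comm, ← hbez, zpow_one]
      have hape : a ^ p ^ e = 1 := by
        rw [ha, ← zpow_natCast, ← zpow_mul,
          show (n : ℤ) * B * (p ^ e : ℕ) = ((p ^ e * n : ℕ) : ℤ) * B by push_cast; ring, zpow_mul, hz1,
          one_zpow]
      have hbn : b ^ n = 1 := by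
        rw [hb, ← zpow_natCast, ← zpow_mul,
          show ((p ^ e : ℕ) : ℤ) * A * n = ((p ^ e * n : ℕ) : ℤ) * A by push_cast; ring, zpow_mul, hz1,
          one_zpow]
      have haF : a ∈ fittingOf M₂ := zpow_mem hzF _
      have hbF : b ∈ fittingOf M₂ := zpow_mem hzF _
      have hacore : a ∈ core p M₂ := by
        obtain ⟨i, -, hi⟩ := (Nat.dvd_prime_pow Fact.out).mp (orderOf_dvd_of_pow_eq_one hape)
        exact mem_core_of_mem_fittingOf haF hi
      set W := core p M₁ ⊔ core p M₂ with hW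
      have hWp : IsPGroup p W :=
        IsPGroup.to_sup_of_normal_right' (isPGroup_core p M₁) (isPGroup_core p M₂)
          (fun g hg => le_normalizer_core p M₂ ((hFD (hP1F hg)).2))
      have hWb : W ≤ Subgroup.centralizer ({b} : Set G) := by
        have hside : ∀ c ∈ W, (∀ r : ℕ, r.Prime → r ≠ p → ∀ d ∈ core r M₂, c * d = d * c) →
            c ∈ Subgroup.centralizer ({b} : Set G) := by
          intro c _ hc
          rw [Subgroup.mem_centralizer_singleton_iff]
          have : b ∈ Subgroup.centralizer ({c} : Set G) := by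
            refine mem_of_forall_primePow _ b fun r hr j hrj i hi => ?_
            haveI := Fact.mk hr
            rw [Subgroup.mem_centralizer_singleton_iff]
            rcases eq_or_ne r p with rfl | hrp
            · have hd : r ^ j ∣ 1 := by
                rw [← (show Nat.gcd (r ^ j) n = 1 from
                  ((Fact.out : r.Prime).coprime_iff_not_dvd.mpr hn).pow_left j)]
                exact Nat.dvd_gcd dvd_rfl (hrj.trans (orderOf_dvd_of_pow_eq_one hbn))
              have : b ^ i = 1 := by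
                rw [← orderOf_eq_one_iff, hi, Nat.dvd_one.mp hd]
              rw [this]; simp
            · exact (hc r hr hrp _ (mem_core_of_mem_fittingOf ((fittingOf M₂).pow_mem hbF i) hi)).symm
          exact (Subgroup.mem_centralizer_singleton_iff.mp this).symm
        refine sup_le (fun c hc => hside c (Subgroup.mem_sup_left hc) fun r hr hrp d hd => ?_)
          (fun c hc => hside c (Subgroup.mem_sup_right hc) fun r hr hrp d hd => ?_)
        · haveI := Fact.mk hr
          exact hcop Fact.out hr (Ne.symm hrp) (hP1F hc) (hnil₂ (core_le_fittingOf r M₂ hd))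
            (hord hc) (hord hd)
        · haveI := Fact.mk hr
          exact core_commute (Ne.symm hrp) hc hd
      have hau : a * u ∈ W := W.mul_mem (Subgroup.mem_sup_right hacore) (Subgroup.mem_sup_left hu)
      obtain ⟨f, hf⟩ := hWp ⟨a * u, hau⟩
      have hf' : (a * u) ^ p ^ f = 1 := congrArg Subtype.val hf
      obtain ⟨g, hg⟩ := hord hu
      have hzu : (z * u) ^ p ^ g = 1 := by
        rw [show z * u = x * u * x⁻¹ by rw [hz]; group, conj_pow, ← hg, pow_orderOf_eq_one]; simp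
      have hcb : Commute b (a * u) := (Subgroup.mem_centralizer_singleton_iff.mp (hWb hau)).symm
      have hab' : a * b = b * a := by rw [ha, hb, ← zpow_add, ← zpow_add, add_comm]
      have hzu' : z * u = b * (a * u) := by rw [hab, hab', mul_assoc]
      have h1 : b ^ p ^ (g + f) = 1 := by
        have h2 : (z * u) ^ p ^ (g + f) = 1 := by rw [pow_add, pow_mul, hzu, one_pow]
        have h3 : (a * u) ^ p ^ (g + f) = 1 := by rw [add_comm, pow_add, pow_mul, hf', one_pow]
        rwa [hzu', hcb.mul_pow, h3, mul_one] at h2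
      have hb1 : b = 1 := by
        rw [← orderOf_eq_one_iff]
        exact Nat.eq_one_of_dvd_coprimes
          (((Fact.out : p.Prime).coprime_iff_not_dvd.mpr hn).pow_left (g + f))
          (orderOf_dvd_of_pow_eq_one h1) (orderOf_dvd_of_pow_eq_one hbn)
      rw [hab, hb1, mul_one]
      exact hacore
    have hzx : Commute x z := hxP₂ z hzp
    have hstep : ∀ n : ℕ, x ^ n * u * (x ^ n)⁻¹ = z ^ n * u := by
      intro n
      induction n with
      | zero => simp
      | succ n ih =>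
        calc x ^ (n + 1) * u * (x ^ (n + 1))⁻¹ = x * (x ^ n * u * (x ^ n)⁻¹) * x⁻¹ := by
              rw [pow_succ']; group
          _ = x * z ^ n * u * x⁻¹ := by rw [ih]; group
          _ = z ^ n * (x * u * x⁻¹) := by rw [(hzx.pow_right n).eq]; group
          _ = z ^ (n + 1) * u := by rw [pow_succ, hz]; group
    have h1 : z ^ q ^ k = 1 := by
      have := hstep (q ^ k)
      rw [hk] at this
      simpa using this.symm
    obtain ⟨i, hi⟩ := hord hzp
    have hd : orderOf z ∣ q ^ k := orderOf_dvd_of_pow_eq_one h1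
    rw [hi] at hd
    have : z = 1 := by
      rw [← orderOf_eq_one_iff, hi]
      exact Nat.eq_one_of_dvd_coprimes (((Nat.coprime_primes Fact.out Fact.out).mpr hpq).pow i k)
        dvd_rfl hd
    rw [hz, mul_inv_eq_one] at this
    exact mul_inv_eq_iff_eq_mul.mp this
  have hxN : x ∈ M₂ ⊓ Subgroup.normalizer (core p M₁ : Set G) :=
    ⟨hxM₂, Subgroup.centralizer_le_normalizer _
      (Subgroup.mem_centralizer_iff.mpr fun u hu => (hxP₁ u hu).symm)⟩
  rw [(hP _ hP₁ (fun g hg => hFD (hP1F hg))).1 (le_normalizer_core p M₁)] at hxN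
  exact hxN.1

theorem core_le_core (M₁ M₂ : Subgroup G) (hP : IsPrimPair M₁ M₂)
    (hnil₁ : fittingOf M₁ ≤ fittingOf (M₁ ⊓ M₂)) (hnil₂ : fittingOf M₂ ≤ fittingOf (M₁ ⊓ M₂))
    (hself : M₂ ⊓ Subgroup.centralizer (fittingOf M₂ : Set G) ≤ fittingOf M₂)
    {p q : ℕ} [Fact p.Prime] [Fact q.Prime] (hpq : p ≠ q) (hP₁ : core p M₁ ≠ ⊥) :
    core q M₁ ≤ core q M₂ := by
  have hQD : core q M₁ ≤ M₁ ⊓ M₂ :=
    ((core_le_fittingOf q M₁).trans hnil₁).trans (fittingOf_le _)
  set Q := (core q M₁).subgroupOf M₂ with hQ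
  have hH : Subgroup.normalClosure (Q : Set M₂) ≤ M₁.subgroupOf M₂ := by
    refine (Subgroup.closure_le _).mpr fun c hc => ?_
    obtain ⟨y, hy, hyc⟩ := Group.mem_conjugatesOfSet_iff.mp hc
    obtain ⟨m, rfl⟩ := isConj_iff.mp hyc
    exact conj_core_mem M₁ M₂ hP hnil₁ hnil₂ hself hpq hP₁ m.2 (show (y : G) ∈ core q M₁ from hy)
  have hQn : (Q.subgroupOf (Subgroup.normalClosure (Q : Set M₂))).Normal := by
    refine (Subgroup.normal_subgroupOf_iff_le_normalizer Subgroup.subset_normalClosure).mpr ?_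
    intro h hh
    rw [Subgroup.mem_normalizer_iff]
    intro g
    have := Subgroup.mem_normalizer_iff.mp (le_normalizer_core q M₁ (hH hh)) (g : G)
    simpa [hQ, Subgroup.mem_subgroupOf] using this
  have hsn : Q.IsSubnormal := by
    have := hQn.isSubnormal.trans'
      (Subgroup.Normal.isSubnormal (H := Subgroup.normalClosure (Q : Set M₂)) inferInstance)
    rwa [Subgroup.map_subgroupOf_eq_of_le Subgroup.subset_normalClosure] at this
  have hQp : IsPGroup q Q :=
    (isPGroup_core q M₁).of_injective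
      ((Subgroup.subgroupOfEquivOfLe (hQD.trans inf_le_right)).toMonoidHom) (MulEquiv.injective _)
  calc core q M₁ = Q.map M₂.subtype := (Subgroup.map_subgroupOf_eq_of_le (hQD.trans inf_le_right)).symm
    _ ≤ core q M₂ := Subgroup.map_mono (Thompson.le_pCore_of_isSubnormal hsn hQp)

theorem inf_centralizer_fittingOf_le_of_layer {M : Subgroup G} (hE : Cfsg.layer ↥M = ⊥) :
    M ⊓ Subgroup.centralizer (fittingOf M : Set G) ≤ fittingOf M := by
  rintro x ⟨hxM, hxC⟩
  have e : Cfsg.generalizedFittingSubgroup ↥M = Cfsg.fittingSubgroup ↥M := by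
    rw [Cfsg.generalizedFittingSubgroup, hE, bot_sup_eq]
  refine ⟨⟨x, hxM⟩, ?_, rfl⟩
  have := centralizer_generalizedFitting_le (G := ↥M)
  rw [e] at this
  refine this (Subgroup.mem_centralizer_iff.mpr fun y hy => Subtype.ext ?_)
  exact Subgroup.mem_centralizer_iff.mp hxC y ⟨y, hy, rfl⟩

theorem fittingOf_le_fittingOf {M D : Subgroup G} (hDM : D ≤ M) (hle : fittingOf M ≤ D) :
    fittingOf M ≤ fittingOf D := by
  haveI : ((fittingOf M).subgroupOf D).Normal :=
    (Subgroup.normal_subgroupOf_iff_le_normalizer hle).mpr (hDM.trans (le_normalizer_fittingOf M))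
  refine le_of_eq_of_le (Subgroup.map_subgroupOf_eq_of_le hle).symm (Subgroup.map_mono
    (Fitting.le_fitting inferInstance ?_))
  haveI := isNilpotent_fittingOf M
  exact Group.nilpotent_of_mulEquiv (Subgroup.subgroupOfEquivOfLe hle).symm

theorem bender_primitive_pair (M₁ M₂ : Subgroup G) (hne : M₁ ≠ M₂) (hP : IsPrimPair M₁ M₂)
    (h₁ : (Cfsg.generalizedFittingSubgroup ↥M₁).map M₁.subtype ≤ M₂)
    (h₂ : (Cfsg.generalizedFittingSubgroup ↥M₂).map M₂.subtype ≤ M₁) :
    ∃ p : ℕ, p.Prime ∧ Subgroup.centralizer (Cfsg.pCore p ↥M₁ : Set ↥M₁) ≤ Cfsg.pCore p ↥M₁ ∧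
      Subgroup.centralizer (Cfsg.pCore p ↥M₂ : Set ↥M₂) ≤ Cfsg.pCore p ↥M₂ ∧
      (Cfsg.pCore p ↥M₁).map M₁.subtype ⊔ (Cfsg.pCore p ↥M₂).map M₂.subtype ≤ M₁ ⊓ M₂ := by
  have hEE : (Cfsg.layer ↥M₁).map M₁.subtype = (Cfsg.layer ↥M₂).map M₂.subtype :=
    le_antisymm (layer_map_le M₁ M₂ h₁ h₂) (layer_map_le M₂ M₁ h₂ h₁)
  have hnorm : ∀ (M : Subgroup G) (K : Subgroup M) [K.Normal],
      M ≤ Subgroup.normalizer (K.map M.subtype : Set G) := fun M K _ x hx =>
    K.le_normalizer_map M.subtype ⟨⟨x, hx⟩, by rw [Subgroup.normalizer_eq_top]; trivial, rfl⟩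
  have hE : (Cfsg.layer ↥M₁).map M₁.subtype = ⊥ := by
    by_contra hb
    exact hne (hP.eq_of_normal_both hb (le_inf (Subgroup.map_subtype_le _)
      ((Subgroup.map_mono layer_le_generalizedFitting).trans h₁)) (hnorm M₁ _)
      (hEE ▸ hnorm M₂ _))
  have hE₁ : Cfsg.layer ↥M₁ = ⊥ := by rwa [Subgroup.map_eq_bot_iff_of_injective _ M₁.subtype_injective] at hE
  have hE₂ : Cfsg.layer ↥M₂ = ⊥ := by
    rw [hEE] at hE
    rwa [Subgroup.map_eq_bot_iff_of_injective _ M₂.subtype_injective] at hE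
  have hF₁ : fittingOf M₁ ≤ M₁ ⊓ M₂ := le_inf (fittingOf_le M₁)
    ((Subgroup.map_mono fitting_le_generalizedFitting).trans h₁)
  have hF₂ : fittingOf M₂ ≤ M₁ ⊓ M₂ := le_inf
    ((Subgroup.map_mono fitting_le_generalizedFitting).trans h₂) (fittingOf_le M₂)
  have hn₁ := fittingOf_le_fittingOf inf_le_left hF₁
  have hn₂ := fittingOf_le_fittingOf inf_le_right hF₂
  have hs₁ := inf_centralizer_fittingOf_le_of_layer hE₁
  have hs₂ := inf_centralizer_fittingOf_le_of_layer hE₂
  -- the two Fitting subgroups involve the same primes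
  have hpi : ∀ (A B : Subgroup G), fittingOf A ≤ fittingOf (M₁ ⊓ M₂) →
      fittingOf B ≤ fittingOf (M₁ ⊓ M₂) → fittingOf A ≤ B →
      B ⊓ Subgroup.centralizer (fittingOf B : Set G) ≤ fittingOf B →
      ∀ r : ℕ, r.Prime → core r A ≠ ⊥ → core r B ≠ ⊥ := by
    intro A B hA hB hAB hsB r hr hne0 hb
    haveI := Fact.mk hr
    refine hne0 ((Subgroup.eq_bot_iff_forall _).mpr fun x hx => ?_)
    obtain ⟨i, hi⟩ := IsPGroup.iff_orderOf.mp (isPGroup_core r A) ⟨x, hx⟩
    rw [Subgroup.orderOf_mk] at hi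
    have hxF : x ∈ fittingOf B := by
      refine hsB ⟨hAB (core_le_fittingOf r A hx), ?_⟩
      refine Subgroup.mem_centralizer_iff.mpr fun y hy => ?_
      have hle : fittingOf B ≤ Subgroup.centralizer ({x} : Set G) := by
        refine fittingOf_le_of_core_le fun s hs c hc => ?_
        haveI := Fact.mk hs
        rcases eq_or_ne s r with rfl | hsr
        · rw [hb, Subgroup.mem_bot] at hc
          rw [hc]; exact one_mem _
        · obtain ⟨j, hj⟩ := IsPGroup.iff_orderOf.mp (isPGroup_core s B) ⟨c, hc⟩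
          rw [Subgroup.orderOf_mk] at hj
          exact Subgroup.mem_centralizer_singleton_iff.mpr (core_commute hsr
            (mem_core_of_mem_fittingOf (hB (core_le_fittingOf s B hc)) hj)
            (mem_core_of_mem_fittingOf (hA (core_le_fittingOf r A hx)) hi))
      exact Subgroup.mem_centralizer_singleton_iff.mp (hle hy)
    have := mem_core_of_mem_fittingOf hxF hi
    rwa [hb, Subgroup.mem_bot] at this
  have hpi₁₂ := hpi M₁ M₂ hn₁ hn₂ (hF₁.trans inf_le_right) hs₂
  have hpi₂₁ := hpi M₂ M₁ hn₂ hn₁ (hF₂.trans inf_le_left) hs₁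
  -- only one prime
  have huniq : ∀ p q : ℕ, p.Prime → q.Prime → core p M₁ ≠ ⊥ → core q M₁ ≠ ⊥ → p = q := by
    intro p q hp hq hp1 hq1
    by_contra hpq
    haveI := Fact.mk hp
    haveI := Fact.mk hq
    have hle₁ := core_le_core M₁ M₂ hP hn₁ hn₂ hs₂ hpq hp1
    have hle₂ := core_le_core M₂ M₁ hP.symm (inf_comm M₁ M₂ ▸ hn₂) (inf_comm M₁ M₂ ▸ hn₁) hs₁ hpq
      (hpi₁₂ p hp hp1)
    refine hne (hP.eq_of_normal_both hq1 ((core_le_fittingOf q M₁).trans hF₁) (le_normalizer_core q M₁) ?_)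
    rw [le_antisymm hle₁ hle₂]
    exact le_normalizer_core q M₂
  obtain ⟨p, hp, hp1⟩ : ∃ p : ℕ, p.Prime ∧ core p M₁ ≠ ⊥ := by
    by_contra hh
    push Not at hh
    have hbot : ∀ M : Subgroup G, (∀ r : ℕ, r.Prime → core r M = ⊥) →
        M ⊓ Subgroup.centralizer (fittingOf M : Set G) ≤ fittingOf M → M = ⊥ := by
      intro M hM hs
      have hF0 : fittingOf M = ⊥ :=
        le_bot_iff.mp (fittingOf_le_of_core_le fun r hr => (hM r hr).le)
      rw [hF0] at hs
      refine le_bot_iff.mp fun x hx => hs ⟨hx, Subgroup.mem_centralizer_iff.mpr fun y hy => ?_⟩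
      rw [Subgroup.mem_bot.mp hy]; simp
    have e1 := hbot M₁ hh hs₁
    have e2 := hbot M₂ (fun r hr => by_contra fun h => hpi₂₁ r hr h (hh r hr)) hs₂
    exact hne (e1.trans e2.symm)
  haveI := Fact.mk hp
  have hchar : ∀ (M : Subgroup G), M ⊓ Subgroup.centralizer (fittingOf M : Set G) ≤ fittingOf M →
      (∀ r : ℕ, r.Prime → core r M ≠ ⊥ → r = p) →
      Subgroup.centralizer (Cfsg.pCore p ↥M : Set ↥M) ≤ Cfsg.pCore p ↥M := by
    intro M hs hu x hx
    have heq : fittingOf M ≤ core p M := by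
      refine fittingOf_le_of_core_le fun r hr => ?_
      rcases eq_or_ne (core r M) ⊥ with h | h
      · rw [h]; exact bot_le
      · rw [hu r hr h]
    obtain ⟨y, hy, e⟩ := heq (hs (Subgroup.mem_inf.mpr ⟨x.2, Subgroup.mem_centralizer_iff.mpr fun g hg => by
      obtain ⟨c, hc, rfl⟩ := heq hg
      exact congrArg Subtype.val (Subgroup.mem_centralizer_iff.mp hx c hc)⟩))
    rwa [← Subtype.ext e]
  exact ⟨p, hp, hchar M₁ hs₁ (fun r hr h => huniq r p hr hp h hp1),
    hchar M₂ hs₂ (fun r hr h => huniq r p hr hp (hpi₂₁ r hr h) hp1),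
    sup_le ((core_le_fittingOf p M₁).trans hF₁) ((core_le_fittingOf p M₂).trans hF₂)⟩

end Cfsg.Agent.FG72
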