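import Mathlib

/-!
The class of a `p`-group is bounded by its breadth (Leedham-Green, Neumann, Wiegold).
-/

set_option autoImplicit false

namespace Cfsg.Agent.FG72.Breadth

open Subgroup
open scoped commutatorElement Pointwise

variable {G : Type*} [Group G] [Finite G] {p : ℕ} [hp : Fact p.Prime]

/-- The two-step centralizer of the `i`-th term of the lower central series. -/
def twoStep (G : Type*) [Group G] (i : ℕ) : Subgroup G :=
  (centralizer ((((⊤ : Subgroup G).lowerCentralSeries i).map
    (QuotientGroup.mk' ((⊤ : Subgroup G).lowerCentralSeries (i + 2)))) :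
      Set (G ⧸ (⊤ : Subgroup G).lowerCentralSeries (i + 2)))).comap
    (QuotientGroup.mk' ((⊤ : Subgroup G).lowerCentralSeries (i + 2)))

omit [Finite G] in
theorem mem_twoStep {i : ℕ} {x : G} : x ∈ twoStep G i ↔
    ∀ g ∈ (⊤ : Subgroup G).lowerCentralSeries i,
      ⁅g, x⁆ ∈ (⊤ : Subgroup G).lowerCentralSeries (i + 2) := by
  rw [twoStep, mem_comap, mem_centralizer_iff]
  simp only [Subgroup.coe_map, Set.forall_mem_image, SetLike.mem_coe]
  refine forall₂_congr fun g _ => ?_
  rw [← commutatorElement_eq_one_iff_mul_comm, ← map_commutatorElement]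
  exact QuotientGroup.eq_one_iff _

omit [Finite G] in
theorem twoStep_ne_top {i : ℕ}
    (h : ¬ (⊤ : Subgroup G).lowerCentralSeries (i + 1) ≤ (⊤ : Subgroup G).lowerCentralSeries (i + 2)) :
    twoStep G i ≠ ⊤ := by
  intro ht
  refine h ?_
  rw [Subgroup.lowerCentralSeries_succ _ i, commutator_le]
  exact fun g hg x _ => mem_twoStep.mp (ht ▸ mem_top x) g hg

theorem exists_index_count (hG : IsPGroup p G) (x : G) (m : ℕ) :
    ∀ S : Finset ℕ, S.card = m → (∀ i ∈ S, x ∉ twoStep G i) → ∀ j : ℕ, (∀ i ∈ S, j ≤ i) →
      p ^ m * Nat.card (centralizer ({x} : Set G)) ≤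
        Nat.card ((⊤ : Subgroup G).lowerCentralSeries j ⊔ centralizer ({x} : Set G) : Subgroup G) := by
  induction m with
  | zero =>
    intro S _ _ j _
    rw [pow_zero, one_mul]
    exact card_le_of_le le_sup_right
  | succ m ih =>
    intro S hS hx j hj
    have hne : S.Nonempty := Finset.card_pos.mp (by omega)
    set i := S.min' hne
    have hiS : i ∈ S := S.min'_mem hne
    have h1 := ih (S.erase i) (by rw [Finset.card_erase_of_mem hiS, hS]; rfl)
      (fun k hk => hx k (Finset.mem_of_mem_erase hk)) (i + 1) (fun k hk => by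
        have := S.min'_le k (Finset.mem_of_mem_erase hk)
        have := Finset.ne_of_mem_erase hk
        omega)
    set A := (⊤ : Subgroup G).lowerCentralSeries (i + 1) ⊔ centralizer ({x} : Set G)
    set B := (⊤ : Subgroup G).lowerCentralSeries i ⊔ centralizer ({x} : Set G)
    have hAB : A ≤ B := sup_le_sup_right (Subgroup.lowerCentralSeries_antitone _ i.le_succ) _
    have hlt : A ≠ B := by
      intro he
      refine hx i hiS (mem_twoStep.mpr fun g hg => ?_)
      have hgA : g ∈ (A : Set G) := by
        rw [SetLike.mem_coe, he]; exact mem_sup_left hg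
      rw [show A = (⊤ : Subgroup G).lowerCentralSeries (i + 1) ⊔ centralizer ({x} : Set G) from rfl,
        Subgroup.normal_mul] at hgA
      obtain ⟨h, hh, c, hc, rfl⟩ := Set.mem_mul.mp hgA
      have hcx : Commute c x := mem_centralizer_singleton_iff.mp hc
      rw [show ⁅h * c, x⁆ = ⁅h, x⁆ by
        rw [commutatorElement_def, mul_assoc h c x, hcx.eq, commutatorElement_def]; group]
      exact commutator_mem_commutator hh (mem_top x)
    obtain ⟨a, ha⟩ := IsPGroup.iff_card.mp (hG.to_subgroup A)
    obtain ⟨b, hb⟩ := IsPGroup.iff_card.mp (hG.to_subgroup B)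
    have hcard : Nat.card A < Nat.card B := by
      by_contra hle
      exact hlt (eq_of_le_of_card_ge hAB (by omega))
    rw [ha, hb] at hcard
    have hab : a < b := (Nat.pow_lt_pow_iff_right hp.out.one_lt).mp hcard
    calc p ^ (m + 1) * Nat.card (centralizer ({x} : Set G))
        = p * (p ^ m * Nat.card (centralizer ({x} : Set G))) := by ring
      _ ≤ p * Nat.card A := Nat.mul_le_mul_left _ h1
      _ ≤ Nat.card B := by
        rw [ha, hb, ← pow_succ']
        exact Nat.pow_le_pow_right hp.out.pos hab
      _ ≤ _ := card_le_of_le (sup_le_sup_right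
        (Subgroup.lowerCentralSeries_antitone _ (hj i hiS)) _)

theorem count_le (hG : IsPGroup p G) {b : ℕ} {x : G}
    (hb : (centralizer ({x} : Set G)).index ≤ p ^ b) {S : Finset ℕ}
    (hx : ∀ i ∈ S, x ∉ twoStep G i) : S.card ≤ b := by
  have h1 := exists_index_count hG x _ S rfl hx 0 (fun i _ => Nat.zero_le i)
  have h2 : p ^ S.card * Nat.card (centralizer ({x} : Set G)) ≤
      p ^ b * Nat.card (centralizer ({x} : Set G)) := by
    refine h1.trans ((card_le_card_group _).trans ?_)
    rw [← card_mul_index (centralizer ({x} : Set G)), mul_comm]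
    exact Nat.mul_le_mul_right _ hb
  exact (Nat.pow_le_pow_iff_right hp.out.one_lt).mp (Nat.le_of_mul_le_mul_right h2 Nat.card_pos)

theorem class_bound (hG : IsPGroup p G) (b : ℕ)
    (hb : ∀ x : G, (centralizer ({x} : Set G)).index ≤ p ^ b) :
    ∃ c : ℕ, (⊤ : Subgroup G).lowerCentralSeries c = ⊥ ∧
      (b ≠ 0 → (c - 1) * (p - 1) < b * p ∧ c ≤ 2 * b) ∧ (b = 0 → c ≤ 1) := by
  classical
  haveI : Fintype G := Fintype.ofFinite G
  haveI : Group.IsNilpotent G := hG.isNilpotent
  obtain ⟨c₀, hc₀⟩ := Subgroup.nilpotent_iff_lowerCentralSeries.mp ‹Group.IsNilpotent G›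
  have hex : ∃ c, (⊤ : Subgroup G).lowerCentralSeries c = ⊥ := ⟨c₀, hc₀⟩
  set c := Nat.find hex with hc
  have hstrict : ∀ i, i + 1 < c →
      ¬ (⊤ : Subgroup G).lowerCentralSeries (i + 1) ≤ (⊤ : Subgroup G).lowerCentralSeries (i + 2) := by
    intro i hi hle
    refine Nat.find_min hex hi (le_bot_iff.mp ?_)
    have hk : ∀ k, (⊤ : Subgroup G).lowerCentralSeries (i + 1) ≤
        (⊤ : Subgroup G).lowerCentralSeries (i + 1 + k) := by
      intro k
      induction k with
      | zero => rfl
      | succ k ih => exact hle.trans (commutator_mono ih le_rfl)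
    exact (hk c₀).trans ((Subgroup.lowerCentralSeries_antitone _ (Nat.le_add_left c₀ (i + 1))).trans hc₀.le)
  refine ⟨c, Nat.find_spec hex, ?_, ?_⟩
  · intro hb0
    set f : G → Finset ℕ := fun x => (Finset.range (c - 1)).filter fun i => x ∉ twoStep G i
    have hf : ∀ x, (f x).card ≤ b := fun x => count_le hG (hb x) fun i hi => (Finset.mem_filter.mp hi).2
    have hf1 : (f 1).card = 0 := by
      rw [Finset.card_eq_zero, Finset.filter_eq_empty_iff]
      exact fun i _ h => h (one_mem _)
    have hcnt : ∀ i ∈ Finset.range (c - 1),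
        (p - 1) * Fintype.card G ≤ p * (Finset.univ.filter fun x : G => x ∉ twoStep G i).card := by
      intro i hi
      have h2 : (Finset.univ.filter fun x : G => x ∈ twoStep G i).card * p ≤ Fintype.card G := by
        rw [← Fintype.card_subtype, ← Nat.card_eq_fintype_card, ← Nat.card_eq_fintype_card]
        conv_rhs => rw [← card_mul_index (twoStep G i)]
        refine Nat.mul_le_mul_left _ ?_
        obtain ⟨k, hk⟩ := hG.index (twoStep G i)
        rw [hk]
        refine Nat.le_self_pow (fun hk0 => twoStep_ne_top (hstrict i ?_) (index_eq_one.mp (by rw [hk, hk0, pow_zero]))) p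
        have := Finset.mem_range.mp hi
        omega
      have h3 := Finset.card_filter_add_card_filter_not (s := (Finset.univ : Finset G))
        (fun x : G => x ∈ twoStep G i)
      rw [Finset.card_univ] at h3
      have hp2 := hp.out.two_le
      obtain ⟨q, rfl⟩ : ∃ q, p = q + 1 := ⟨p - 1, by omega⟩
      simp only [Nat.add_sub_cancel]
      rw [← h3] at h2 ⊢
      nlinarith
    have hsum : ∑ x : G, (f x).card =
        ∑ i ∈ Finset.range (c - 1), (Finset.univ.filter fun x : G => x ∉ twoStep G i).card :=
      Finset.sum_card_bipartiteAbove_eq_sum_card_bipartiteBelow (fun (x : G) i => x ∉ twoStep G i)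
    have hup : ∑ x : G, (f x).card < b * Fintype.card G := by
      have : ∑ x : G, (f x).card < ∑ _x : G, b :=
        Finset.sum_lt_sum (fun x _ => hf x) ⟨1, Finset.mem_univ _, by rw [hf1]; omega⟩
      simpa [mul_comm] using this
    have hlow : (c - 1) * ((p - 1) * Fintype.card G) ≤ p * ∑ x : G, (f x).card := by
      rw [hsum, Finset.mul_sum]
      have := Finset.card_nsmul_le_sum (Finset.range (c - 1)) _ _ hcnt
      simpa using this
    have hmain : (c - 1) * (p - 1) < b * p := by
      refine Nat.lt_of_mul_lt_mul_right (a := Fintype.card G) ?_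
      calc (c - 1) * (p - 1) * Fintype.card G ≤ p * ∑ x : G, (f x).card := by rw [mul_assoc]; exact hlow
        _ < p * (b * Fintype.card G) := by exact Nat.mul_lt_mul_of_pos_left hup hp.out.pos
        _ = _ := by ring
    refine ⟨hmain, ?_⟩
    have hp2 := hp.out.two_le
    obtain ⟨q, rfl⟩ : ∃ q, p = q + 1 := ⟨p - 1, by omega⟩
    simp only [Nat.add_sub_cancel] at hmain
    by_contra hlt
    push Not at hlt
    have : 2 * b * q ≤ (c - 1) * q := Nat.mul_le_mul_right _ (by omega)
    nlinarith
  · intro hb0
    refine Nat.find_min' hex ?_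
    rw [eq_bot_iff, Subgroup.lowerCentralSeries_succ, commutator_le]
    intro g _ x _
    refine mem_bot.mpr (commutatorElement_eq_one_iff_mul_comm.mpr ?_)
    have h1 : centralizer ({x} : Set G) = ⊤ := by
      refine index_eq_one.mp (le_antisymm ?_ (Nat.one_le_iff_ne_zero.mpr index_ne_zero_of_finite))
      simpa [hb0] using hb x
    exact mem_centralizer_singleton_iff.mp (h1 ▸ mem_top g)

end Cfsg.Agent.FG72.Breadth
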