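import Cfsg.Agent.Lib.Fitting

/-!
The Fitting subgroup of a normal subgroup as centralizer of the chief factors.
-/

set_option autoImplicit false

namespace Cfsg.Agent.FG72

open scoped commutatorElement

variable {G : Type*} [Group G]

theorem commutator_sup_left_le (A B C : Subgroup G) [A.Normal] [B.Normal] [C.Normal] :
    ⁅A ⊔ B, C⁆ ≤ ⁅A, C⁆ ⊔ ⁅B, C⁆ := by
  rw [Subgroup.commutator_le]
  intro x hx g hg
  obtain ⟨u, hu, v, hv, rfl⟩ := Subgroup.mem_sup_of_normal_right.mp hx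
  rw [show ⁅u * v, g⁆ = u * ⁅v, g⁆ * u⁻¹ * ⁅u, g⁆ by simp only [commutatorElement_def]; group]
  exact mul_mem (Subgroup.mem_sup_right (Subgroup.Normal.conj_mem inferInstance _
      (Subgroup.commutator_mem_commutator hv hg) u))
    (Subgroup.mem_sup_left (Subgroup.commutator_mem_commutator hu hg))

/-- A nilpotent normal subgroup centralizes every chief factor. -/
theorem commutator_le_of_isNilpotent (U V F : Subgroup G) [U.Normal] [V.Normal] [F.Normal]
    (hF : Group.IsNilpotent F) (hVU : V < U)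
    (hchief : ∀ W : Subgroup G, W.Normal → V ≤ W → W ≤ U → W = V ∨ W = U) : ⁅U, F⁆ ≤ V := by
  rcases hchief (⁅U, F⁆ ⊔ V) inferInstance le_sup_right
    (sup_le (Subgroup.commutator_le_left U F) hVU.le) with h | h
  · exact sup_eq_right.mp h
  exfalso
  have key : ∀ k, ∃ J : Subgroup G, J.Normal ∧ J ≤ F.lowerCentralSeries k ∧ U ≤ J ⊔ V := by
    intro k
    induction k with
    | zero => exact ⟨⁅U, F⁆, inferInstance, Subgroup.commutator_le_right U F, h.ge⟩
    | succ k ih =>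
      obtain ⟨J, hJn, hJ, hU⟩ := ih
      refine ⟨⁅J, F⁆, inferInstance, Subgroup.commutator_mono hJ le_rfl, ?_⟩
      calc U ≤ ⁅U, F⁆ ⊔ V := h.ge
        _ ≤ ⁅J ⊔ V, F⁆ ⊔ V := sup_le_sup_right (Subgroup.commutator_mono hU le_rfl) V
        _ ≤ ⁅J, F⁆ ⊔ V := sup_le ((commutator_sup_left_le J V F).trans
            (sup_le_sup_left (Subgroup.commutator_le_left V F) _)) le_sup_right
  obtain ⟨c, hc⟩ := (Subgroup.isNilpotent_iff_lowerCentralSeries F).mp hF
  obtain ⟨J, -, hJ, hU⟩ := key c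
  rw [hc, le_bot_iff] at hJ
  rw [hJ, bot_sup_eq] at hU
  exact hVU.not_ge hU

theorem mem_fitting_iff_centralizes_chief [Finite G] (hG : Group.IsSolvable G) (N : Subgroup G)
    [N.Normal] (g : G) :
    (g ∈ (Cfsg.fittingSubgroup ↥N).map N.subtype ↔ g ∈ N ∧ ∀ U V : Subgroup G,
      (U.Normal ∧ V.Normal ∧ V < U ∧ ∀ W : Subgroup G, W.Normal → V ≤ W → W ≤ U → W = V ∨ W = U) →
      ∀ u ∈ U, u * g * u⁻¹ * g⁻¹ ∈ V) ∧
    (g ∈ (Cfsg.fittingSubgroup ↥N).map N.subtype ↔ g ∈ N ∧ ∀ U V : Subgroup G,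
      (U.Normal ∧ V.Normal ∧ V < U ∧ ∀ W : Subgroup G, W.Normal → V ≤ W → W ≤ U → W = V ∨ W = U) →
      U ≤ (Cfsg.fittingSubgroup ↥N).map N.subtype → ∀ u ∈ U, u * g * u⁻¹ * g⁻¹ ∈ V) := by
  classical
  haveI : (Cfsg.fittingSubgroup G).Normal := Fitting.fitting_normal
  rw [Fitting.map_fitting]
  set F := N ⊓ Cfsg.fittingSubgroup G with hF
  haveI : F.Normal := Subgroup.normal_inf_normal _ _
  have hFn : Group.IsNilpotent F := Fitting.isNilpotent_of_le Fitting.fitting_isNilpotent inf_le_right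
  have fwd : g ∈ F → ∀ U V : Subgroup G,
      (U.Normal ∧ V.Normal ∧ V < U ∧ ∀ W : Subgroup G, W.Normal → V ≤ W → W ≤ U → W = V ∨ W = U) →
      ∀ u ∈ U, u * g * u⁻¹ * g⁻¹ ∈ V := by
    rintro hg U V ⟨hU, hV, hVU, hch⟩ u hu
    exact commutator_le_of_isNilpotent U V F hFn hVU hch (Subgroup.commutator_mem_commutator hu hg)
  have bwd : (g ∈ N ∧ ∀ U V : Subgroup G,
      (U.Normal ∧ V.Normal ∧ V < U ∧ ∀ W : Subgroup G, W.Normal → V ≤ W → W ≤ U → W = V ∨ W = U) →
      U ≤ F → ∀ u ∈ U, u * g * u⁻¹ * g⁻¹ ∈ V) → g ∈ F := by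
    rintro ⟨hgN, hg⟩
    let ι := {W : Subgroup G × Subgroup G // W.1.Normal ∧ W.2.Normal ∧ W.2 < W.1 ∧
      (∀ X : Subgroup G, X.Normal → W.2 ≤ X → X ≤ W.1 → X = W.2 ∨ X = W.1) ∧ W.1 ≤ F}
    let C : Subgroup G := N ⊓ ⨅ w : ι, haveI := w.2.2.1
      (Subgroup.centralizer ((w.1.1.map (QuotientGroup.mk' w.1.2) : Subgroup _) : Set (G ⧸ w.1.2))).comap
        (QuotientGroup.mk' w.1.2)
    haveI : C.Normal := by
      haveI : (⨅ w : ι, haveI := w.2.2.1
        (Subgroup.centralizer ((w.1.1.map (QuotientGroup.mk' w.1.2) : Subgroup _) : Set (G ⧸ w.1.2))).comap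
          (QuotientGroup.mk' w.1.2)).Normal := by
        refine Subgroup.normal_iInf_normal fun w => ?_
        haveI := w.2.1
        haveI := w.2.2.1
        haveI : (w.1.1.map (QuotientGroup.mk' w.1.2)).Normal :=
          Subgroup.Normal.map inferInstance _ (QuotientGroup.mk'_surjective _)
        infer_instance
      exact Subgroup.normal_inf_normal _ _
    have hgC : g ∈ C := by
      refine ⟨hgN, Subgroup.mem_iInf.mpr fun w => ?_⟩
      haveI := w.2.2.1
      refine Subgroup.mem_centralizer_iff.mpr ?_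
      rintro _ ⟨u, hu, rfl⟩
      have h := hg w.1.1 w.1.2 ⟨w.2.1, w.2.2.1, w.2.2.2.1, w.2.2.2.2.1⟩ w.2.2.2.2.2 u hu
      have h' : (QuotientGroup.mk' w.1.2) (u * g * u⁻¹ * g⁻¹) = 1 :=
        (QuotientGroup.eq_one_iff _).mpr h
      simp only [map_mul, map_inv] at h'
      exact mul_inv_eq_iff_eq_mul.mp (mul_inv_eq_one.mp h')
    suffices hC : C ≤ F from hC hgC
    by_contra hCF
    let Ls : ℕ → Subgroup G := fun k => derivedSeries G k ⊓ C
    have hstep : ∀ k, ⁅Ls k, Ls k⁆ ≤ Ls (k + 1) := fun k =>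
      le_inf (Subgroup.commutator_mono inf_le_left inf_le_left)
        ((Subgroup.commutator_mono inf_le_right inf_le_right).trans (Subgroup.commutator_le_left C C))
    obtain ⟨n, hn⟩ := hG.solvable
    have hex : ∃ k, Ls k ≤ F := ⟨n, by simp [Ls, hn]⟩
    set k := Nat.find hex with hk
    have hk0 : k ≠ 0 := by
      intro h0
      refine hCF ?_
      have := Nat.find_spec hex
      rw [← hk, h0] at this
      simpa [Ls] using this
    set L := Ls (k - 1) with hL
    have hLF : ¬ L ≤ F := Nat.find_min hex (Nat.sub_one_lt hk0)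
    have hLL : ⁅L, L⁆ ≤ F := (hstep (k - 1)).trans (by
      rw [Nat.sub_add_cancel (Nat.one_le_iff_ne_zero.mpr hk0)]; exact Nat.find_spec hex)
    haveI : L.Normal := Subgroup.normal_inf_normal _ _
    have hnorm : ∀ j, (L.lowerCentralSeries j).Normal := fun j => by
      induction j with
      | zero => exact inferInstanceAs L.Normal
      | succ j ih => rw [Subgroup.lowerCentralSeries_succ]; infer_instance
    have hle : ∀ j, L.lowerCentralSeries (j + 1) ≤ F := fun j =>
      (Subgroup.lowerCentralSeries_antitone L (Nat.le_add_left 1 j)).trans hLL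
    have hdec : ∀ j, L.lowerCentralSeries (j + 1) ≠ ⊥ →
        L.lowerCentralSeries (j + 2) < L.lowerCentralSeries (j + 1) := by
      intro j hne
      set W := L.lowerCentralSeries (j + 1) with hW
      obtain ⟨V, ⟨hVn, hVW⟩, hmax⟩ := Set.Finite.exists_maximal
        (Set.toFinite {V : Subgroup G | V.Normal ∧ V < W}) ⟨⊥, inferInstance, bot_lt_iff_ne_bot.mpr hne⟩
      let w : ι := ⟨(W, V), hnorm (j + 1), hVn, hVW, fun X hX hVX hXW => by
        rcases eq_or_lt_of_le hXW with h | h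
        · exact Or.inr h
        · exact Or.inl (le_antisymm (hmax ⟨hX, h⟩ hVX) hVX), hle j⟩
      refine lt_of_le_of_lt (Subgroup.commutator_le.mpr fun u hu x hx => ?_) hVW
      have hx' := Subgroup.mem_iInf.mp ((inf_le_right : L ≤ C) hx).2 w
      haveI := hVn
      have hc := Subgroup.mem_centralizer_iff.mp hx' _ ⟨u, hu, rfl⟩
      refine (QuotientGroup.eq_one_iff _).mp ?_
      show QuotientGroup.mk' V ⁅u, x⁆ = 1
      rw [map_commutatorElement]
      exact commutatorElement_eq_one_iff_mul_comm.mpr hc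
    have hnil : Group.IsNilpotent L := by
      refine (Subgroup.isNilpotent_iff_lowerCentralSeries L).mpr ?_
      obtain ⟨j, hj⟩ : ∃ j, ∀ i, Nat.card (L.lowerCentralSeries (j + 1)) ≤
          Nat.card (L.lowerCentralSeries (i + 1)) := by
        have hne : ∃ m, ∃ i, Nat.card (L.lowerCentralSeries (i + 1)) = m := ⟨_, 0, rfl⟩
        obtain ⟨j, hj⟩ := Nat.find_spec hne
        exact ⟨j, fun i => hj ▸ Nat.find_min' hne ⟨i, rfl⟩⟩
      refine ⟨j + 1, by_contra fun hne => ?_⟩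
      have hlt := hdec j hne
      exact absurd (hj (j + 1)) (not_le.mpr (Set.Finite.card_lt_card (Set.toFinite _) hlt))
    exact hLF (le_inf ((inf_le_right : L ≤ C).trans inf_le_left)
      (Fitting.le_fitting inferInstance hnil))
  exact ⟨⟨fun h => ⟨h.1, fwd h⟩, fun h => bwd ⟨h.1, fun U V hc _ => h.2 U V hc⟩⟩,
    ⟨fun h => ⟨h.1, fun U V hc _ => fwd h U V hc⟩, bwd⟩⟩

end Cfsg.Agent.FG72
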