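import Cfsg.Agent.Lib.Components.GenFitting

/-!
Components of a central quotient lift to components.
-/

set_option autoImplicit false

namespace Cfsg.Agent.FG72

open scoped commutatorElement
open Cfsg.Agent.Components

variable {X : Type*} [Group X]

/-- A central extension of a quasisimple group has quasisimple derived subgroup. -/
theorem isQuasisimple_commutator_of_central {Y : Type*} [Group Y] (f : X →* Y)
    (hf : Function.Surjective f) (hker : f.ker ≤ Subgroup.center X) (hY : IsQuasisimple Y) :
    IsQuasisimple ↥(commutator X) := by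
  set L := commutator X with hL
  have hmap : L.map f = ⊤ := by
    rw [hL, _root_.commutator_def, Subgroup.map_commutator, Subgroup.map_top_of_surjective _ hf,
      ← _root_.commutator_def, hY.1.commutator_eq_top]
  have hsup : L ⊔ f.ker = ⊤ := by
    have := congrArg (Subgroup.comap f) hmap
    rwa [Subgroup.comap_map_eq, Subgroup.comap_top] at this
  have hperf : ⁅L, L⁆ = L := by
    refine le_antisymm (Subgroup.commutator_le_left L L) ?_
    conv_lhs => rw [hL, _root_.commutator_def]
    rw [Subgroup.commutator_le]
    intro a _ b _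
    obtain ⟨y, hy, z, hz, rfl⟩ := Subgroup.mem_sup_of_normal_right.mp (hsup.ge (Subgroup.mem_top a))
    obtain ⟨y', hy', z', hz', rfl⟩ :=
      Subgroup.mem_sup_of_normal_right.mp (hsup.ge (Subgroup.mem_top b))
    rw [commutator_mul_center (hker hz) (hker hz')]
    exact Subgroup.commutator_mem_commutator hy hy'
  have hcen : (Subgroup.center Y).comap f = Subgroup.center X := by
    refine le_antisymm (fun x hx => ?_) ?_
    · have hxL : x ∈ Subgroup.centralizer (L : Set X) := by
        refine mem_centralizer_of_commutator_mem_centralizer hperf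
          ((Subgroup.normalizer_eq_top_iff.mpr inferInstance).ge (Subgroup.mem_top x)) fun l _ => ?_
        refine Subgroup.center_le_centralizer _ (hker ?_)
        have hc : f l * f x = f x * f l := Subgroup.mem_center_iff.mp hx (f l)
        rw [MonoidHom.mem_ker]
        simp [← hc]
      rw [Subgroup.mem_center_iff]
      intro g
      obtain ⟨y, hy, z, hz, rfl⟩ := Subgroup.mem_sup_of_normal_right.mp (hsup.ge (Subgroup.mem_top g))
      have h1 : Commute y x := Subgroup.mem_centralizer_iff.mp hxL y hy
      have h2 : Commute z x := (Subgroup.mem_center_iff.mp (hker hz) x).symm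
      exact (h1.mul_left h2).eq
    · intro x hx
      rw [Subgroup.mem_comap, Subgroup.mem_center_iff]
      intro y
      obtain ⟨g, rfl⟩ := hf y
      rw [← map_mul, ← map_mul, Subgroup.mem_center_iff.mp hx g]
  let g : X →* Y ⧸ Subgroup.center Y := (QuotientGroup.mk' _).comp f
  have hg : g.ker = Subgroup.center X := by
    rw [← MonoidHom.comap_ker, QuotientGroup.ker_mk', hcen]
  let e : X ⧸ Subgroup.center X ≃* Y ⧸ Subgroup.center Y :=
    (QuotientGroup.quotientMulEquivOfEq hg.symm).trans
      (QuotientGroup.quotientKerEquivOfSurjective g ((QuotientGroup.mk'_surjective _).comp hf))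
  haveI := hY.2
  have hs : IsSimpleGroup (X ⧸ Subgroup.center X) :=
    e.isSimpleGroup
  refine isQuasisimple_commutator hs fun hc => ?_
  haveI := nontrivial_of_isQuasisimple hY
  haveI := hY.1
  have hYc : IsMulCommutative (Y ⧸ Subgroup.center Y) :=
    ⟨⟨fun a b => by
      obtain ⟨a', rfl⟩ := e.surjective a
      obtain ⟨b', rfl⟩ := e.surjective b
      rw [← map_mul, ← map_mul, hc.is_comm.comm a' b']⟩⟩
  haveI : Group.IsSolvable (Y ⧸ Subgroup.center Y) := inferInstance
  haveI : Group.IsSolvable (Subgroup.center Y) :=
    Group.isSolvable_of_comm fun a b => Subtype.ext (Subgroup.mem_center_iff.mp b.2 (a : Y))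
  exact not_isSolvable_of_isQuasisimple hY
    (Group.isSolvable_of_ker_le_range (Subgroup.center Y).subtype (QuotientGroup.mk' (Subgroup.center Y))
      (by rw [QuotientGroup.ker_mk', Subgroup.range_subtype]))

theorem isComponent_commutator_of_quotient {G : Type*} [Group G] (Z : Subgroup G)
    (hZ : Z ≤ Subgroup.center G) [Z.Normal] (E : Subgroup G) (hZE : Z ≤ E)
    (hE : Cfsg.IsComponent (E.map (QuotientGroup.mk' Z))) : Cfsg.IsComponent ⁅E, E⁆ := by
  have hEeq : E = (E.map (QuotientGroup.mk' Z)).comap (QuotientGroup.mk' Z) := by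
    rw [Subgroup.comap_map_eq, QuotientGroup.ker_mk', sup_eq_left.mpr hZE]
  have hsn : E.IsSubnormal := by
    rw [hEeq]
    exact hE.1.comap _
  have hc : (commutator ↥E).map E.subtype = ⁅E, E⁆ := by
    simp [_root_.commutator_def, Subgroup.map_commutator, ← MonoidHom.range_eq_map]
  refine ⟨?_, ?_⟩
  · rw [← hc]
    exact (Subgroup.Normal.isSubnormal (H := commutator ↥E) inferInstance).trans' hsn
  · rw [← hc]
    refine isQuasisimple_of_mulEquiv ((commutator ↥E).equivMapOfInjective _ E.subtype_injective) ?_
    refine isQuasisimple_commutator_of_central ((QuotientGroup.mk' Z).subgroupMap E)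
      ((QuotientGroup.mk' Z).subgroupMap_surjective E) ?_ hE.2
    intro x hx
    have hxZ : (x : G) ∈ Z := (QuotientGroup.eq_one_iff _).mp (congrArg Subtype.val hx :)
    exact Subgroup.mem_center_iff.mpr fun g => Subtype.ext (Subgroup.mem_center_iff.mp (hZ hxZ) g)

end Cfsg.Agent.FG72
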