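import Mathlib
import Cfsg.Prelude.Def_CaseTheorems
import Cfsg.Agent.Lib.PGroup.Extraspecial

/-!
The `2`-rank of an extraspecial `2`-group, and the classification by it.
-/

set_option autoImplicit false

namespace Cfsg.Agent.FG72.ExtraRank

open Subgroup
open scoped commutatorElement

universe u v

theorem card_le_two_mul {G : Type*} [Group G] [Finite G] (A K : Subgroup G)
    (h : ∀ a ∈ A, ∀ b ∈ A, a ∉ K → b ∉ K → a⁻¹ * b ∈ K) :
    Nat.card A ≤ 2 * Nat.card (A ⊓ K : Subgroup G) := by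
  classical
  have hc : Nat.card (K.subgroupOf A) = Nat.card (A ⊓ K : Subgroup G) := by
    rw [← Nat.card_congr (subgroupOfEquivOfLe (inf_le_left : A ⊓ K ≤ A)).toEquiv,
      show (A ⊓ K).subgroupOf A = K.subgroupOf A by ext; simp [mem_subgroupOf]]
  have hm := (K.subgroupOf A).card_mul_index
  rw [hc] at hm
  have hidx : (K.subgroupOf A).index ≤ 2 := by
    rw [Subgroup.index, show 2 = Nat.card Bool by simp]
    refine Nat.card_le_card_of_injective (fun q => decide (q = ((1 : A) : A ⧸ K.subgroupOf A))) ?_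
    intro q q' hqq
    simp only [decide_eq_decide] at hqq
    induction q using QuotientGroup.induction_on with
    | H a =>
      induction q' using QuotientGroup.induction_on with
      | H b =>
        by_cases ha : (a : A ⧸ K.subgroupOf A) = ((1 : A) : A ⧸ K.subgroupOf A)
        · rw [ha, hqq.mp ha]
        · have hb := mt hqq.mpr ha
          rw [QuotientGroup.eq, mem_subgroupOf] at ha hb ⊢
          simp only [mul_one, Subgroup.coe_inv, inv_mem_iff] at ha hb
          simpa using h a a.2 b b.2 ha hb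
  rw [← hm, mul_comm 2]
  exact Nat.mul_le_mul_left _ hidx

theorem two_mul_card_le {G : Type*} [Group G] [Finite G] {B B' : Subgroup G} (h : B ≤ B')
    {x : G} (hx : x ∈ B') (hx' : x ∉ B) : 2 * Nat.card B ≤ Nat.card B' := by
  obtain ⟨m, hm⟩ := card_dvd_of_le h
  rcases Nat.lt_or_ge m 2 with hm2 | hm2
  · exfalso
    have hle : Nat.card B' ≤ Nat.card B := by
      rw [hm]; exact (Nat.mul_le_mul_left _ (show m ≤ 1 by omega)).trans_eq (mul_one _)
    exact hx' (eq_of_le_of_card_ge h hle ▸ hx)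
  · rw [hm, mul_comm 2]
    exact Nat.mul_le_mul_left _ hm2

/-- Adjoining a commuting involution to a subgroup of exponent two. -/
theorem exists_bigger {G : Type*} [Group G] [Finite G] {B : Subgroup G} {c : G}
    (hBc : ∀ b ∈ B, ∀ b' ∈ B, Commute b b') (hB2 : ∀ b ∈ B, b ^ 2 = 1) (hc2 : c ^ 2 = 1)
    (hcB : ∀ b ∈ B, Commute c b) (hc : c ∉ B) :
    ∃ B' : Subgroup G, IsMulCommutative B' ∧ (∀ a ∈ B', a ^ 2 = 1) ∧
      2 * Nat.card B ≤ Nat.card B' ∧ ∀ a ∈ B', ∃ b ∈ B, ∃ k : ℕ, a = b * c ^ k := by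
  have hnf : ∀ a ∈ closure (insert c (B : Set G)), ∃ b ∈ B, ∃ k : ℕ, a = b * c ^ k := by
    intro a ha
    induction ha using closure_induction with
    | mem y hy =>
      rcases hy with rfl | hy
      · exact ⟨1, one_mem _, 1, by simp⟩
      · exact ⟨y, hy, 0, by simp⟩
    | one => exact ⟨1, one_mem _, 0, by simp⟩
    | mul y z _ _ hy hz =>
      obtain ⟨b, hb, k, rfl⟩ := hy
      obtain ⟨b', hb', l, rfl⟩ := hz
      refine ⟨b * b', mul_mem hb hb', k + l, ?_⟩
      rw [pow_add, mul_assoc, ← mul_assoc (c ^ k), ((hcB b' hb').pow_left k).eq]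
      simp only [mul_assoc]
    | inv y _ hy =>
      obtain ⟨b, hb, k, rfl⟩ := hy
      refine ⟨b⁻¹, inv_mem hb, k, ?_⟩
      rw [mul_inv_rev, ← inv_pow, inv_eq_of_mul_eq_one_right (show c * c = 1 by rw [← pow_two, hc2]),
        ((hcB _ (inv_mem hb)).pow_left k).eq]
  refine ⟨closure (insert c (B : Set G)), ⟨⟨?_⟩⟩, fun a ha => ?_,
    two_mul_card_le (fun b hb => subset_closure (Set.mem_insert_of_mem c hb))
      (subset_closure (Set.mem_insert c (B : Set G))) hc, hnf⟩
  · rintro ⟨a, ha⟩ ⟨a', ha'⟩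
    obtain ⟨b, hb, k, rfl⟩ := hnf a ha
    obtain ⟨b', hb', l, rfl⟩ := hnf a' ha'
    refine Subtype.ext ?_
    show b * c ^ k * (b' * c ^ l) = b' * c ^ l * (b * c ^ k)
    exact (((hBc b hb b' hb').mul_right ((hcB b hb).pow_left l).symm).mul_left
      (((hcB b' hb').pow_left k).mul_right ((Commute.refl c).pow_pow k l))).eq
  · obtain ⟨b, hb, k, rfl⟩ := hnf a ha
    rw [((hcB b hb).pow_left k).symm.mul_pow, hB2 b hb, ← pow_mul, mul_comm k, pow_mul, hc2,
      one_pow, one_mul]

theorem comm_of {G : Type*} [Group G] {A : Subgroup G} (hA : IsMulCommutative A) :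
    ∀ a ∈ A, ∀ b ∈ A, Commute a b := fun a ha b hb =>
  congrArg Subtype.val (mul_comm' (⟨a, ha⟩ : A) ⟨b, hb⟩)

variable {E : Type*} [Group E] [Finite E]

theorem mul_comm_of_not (hE : Cfsg.IsExtraspecial 2 E) {a b x : E} (ha : ¬ Commute a x)
    (hb : ¬ Commute b x) : Commute (a⁻¹ * b) x := by
  have hC := PGroup.xs_commutator_le hE
  have ha' : ⁅a, x⁆ ≠ 1 := fun h => ha (commutatorElement_eq_one_iff_mul_comm.mp h)
  have hb' : ⁅b, x⁆ ≠ 1 := fun h => hb (commutatorElement_eq_one_iff_mul_comm.mp h)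
  have hz := PGroup.xs_two_eq_of_mem_center hE (PGroup.xs_comm_mem hE a x) ha'
    (PGroup.xs_comm_mem hE b x) hb'
  have hai : ⁅a⁻¹, x⁆ = ⁅a, x⁆⁻¹ := by
    have h := PGroup.comm_mul_left hC a⁻¹ a x
    rw [inv_mul_cancel, commutatorElement_one_left] at h
    exact eq_inv_of_mul_eq_one_left h.symm
  refine commutatorElement_eq_one_iff_mul_comm.mp ?_
  rw [PGroup.comm_mul_left hC, hai, hz, inv_mul_cancel]

theorem rank_step (hE : Cfsg.IsExtraspecial 2 E) {x y : E} (hxy : ⁅x, y⁆ ≠ 1) (hx : x ^ 2 = 1)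
    (k : ℕ) :
    Cfsg.PRankLE 2 (k + 1) E ↔
      Cfsg.PRankLE 2 k (centralizer ((closure {x, y} : Subgroup E) : Set E)) := by
  set C := centralizer ((closure {x, y} : Subgroup E) : Set E) with hC
  constructor
  · intro h B hB hB2
    have hBc := comm_of hB
    have hmapc : Nat.card (B.map C.subtype) = Nat.card B :=
      card_map_of_injective C.subtype_injective
    obtain ⟨B', hB', hB'2, hcard, -⟩ := exists_bigger (B := B.map C.subtype) (c := x) (by
        rintro _ ⟨b, hb, rfl⟩ _ ⟨b', hb', rfl⟩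
        exact (hBc b hb b' hb').map C.subtype)
      (by rintro _ ⟨b, hb, rfl⟩; rw [← map_pow, hB2 b hb, map_one]) hx
      (by rintro _ ⟨b, -, rfl⟩; exact (PGroup.mem_centralizer_pair_iff.mp b.2).1)
      (by
        rintro ⟨b, -, hbx⟩
        have h1 := (PGroup.mem_centralizer_pair_iff.mp b.2).2
        rw [show (b : E) = x from hbx] at h1
        exact hxy (commutatorElement_eq_one_iff_mul_comm.mpr h1.eq.symm))
    have := h B' hB' hB'2
    rw [hmapc] at hcard
    rw [pow_succ] at this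
    omega
  · intro h A hA hA2
    have hAc := comm_of hA
    set Kx := centralizer ({x} : Set E) with hKx
    set Ky := centralizer ({y} : Set E) with hKy
    have memK : ∀ g w : E, g ∈ centralizer ({w} : Set E) ↔ Commute g w := fun g w => by
      rw [mem_centralizer_iff]
      simp only [Set.mem_singleton_iff, forall_eq]
      exact ⟨fun h => h.symm, fun h => h.symm⟩
    have b1 : Nat.card A ≤ 2 * Nat.card (A ⊓ Kx : Subgroup E) :=
      card_le_two_mul A Kx fun a _ b _ ha hb => (memK _ _).mpr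
        (mul_comm_of_not hE (mt (memK a x).mpr ha) (mt (memK b x).mpr hb))
    have b2 : Nat.card (A ⊓ Kx : Subgroup E) ≤ 2 * Nat.card (A ⊓ Kx ⊓ Ky : Subgroup E) :=
      card_le_two_mul _ Ky fun a _ b _ ha hb => (memK _ _).mpr
        (mul_comm_of_not hE (mt (memK a y).mpr ha) (mt (memK b y).mpr hb))
    set A₀ := A ⊓ Kx ⊓ Ky with hA₀
    have hA₀C : A₀ ≤ C := fun g hg => PGroup.mem_centralizer_pair_iff.mpr
      ⟨((memK g x).mp hg.1.2).symm, ((memK g y).mp hg.2).symm⟩
    have pull : ∀ B : Subgroup E, B ≤ C → IsMulCommutative B → (∀ b ∈ B, b ^ 2 = 1) →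
        Nat.card B ≤ 2 ^ k := by
      intro B hBC hB hB2
      rw [← Nat.card_congr (subgroupOfEquivOfLe hBC).toEquiv]
      refine h _ ⟨⟨fun a b => Subtype.ext (Subtype.ext (comm_of hB _ a.2 _ b.2).eq)⟩⟩ fun b hb => ?_
      exact Subtype.ext (hB2 _ hb)
    have hA₀c : IsMulCommutative A₀ :=
      ⟨⟨fun a b => Subtype.ext (hAc _ a.2.1.1 _ b.2.1.1).eq⟩⟩
    have h0 := pull A₀ hA₀C hA₀c fun b hb => hA2 b hb.1.1
    by_cases h1 : A ≤ Kx
    · have : Nat.card (A ⊓ Kx : Subgroup E) = Nat.card A := by rw [inf_eq_left.mpr h1]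
      rw [pow_succ]
      omega
    by_cases h2 : A ⊓ Kx ≤ Ky
    · have : A₀ = A ⊓ Kx := inf_eq_left.mpr h2
      rw [this] at h0
      rw [pow_succ]
      omega
    obtain ⟨a', ha', ha'x⟩ := SetLike.not_le_iff_exists.mp h1
    obtain ⟨a, ⟨haA, hax⟩, hay⟩ := SetLike.not_le_iff_exists.mp h2
    have hax' : Commute a x := (memK a x).mp hax
    have hcC : a * x ∈ C := by
      refine PGroup.mem_centralizer_pair_iff.mpr ⟨(hax'.mul_left (Commute.refl x)).symm, ?_⟩
      have hay' : ¬ Commute a y := mt (memK a y).mpr hay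
      have hxy' : ¬ Commute x y := fun h' => hxy (commutatorElement_eq_one_iff_mul_comm.mpr h'.eq)
      have := mul_comm_of_not hE hay' hxy'
      rw [inv_eq_of_mul_eq_one_right (show a * a = 1 by rw [← pow_two, hA2 a haA])] at this
      exact this.symm
    have hxA : ∀ b ∈ A₀, Commute x b := fun b hb => ((memK b x).mp hb.1.2).symm
    have hc2 : (a * x) ^ 2 = 1 := by rw [hax'.mul_pow, hA2 a haA, hx, one_mul]
    obtain ⟨B', hB', hB'2, hcard, hB'nf⟩ := exists_bigger (B := A₀) (c := a * x)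
      (fun b hb b' hb' => hAc b hb.1.1 b' hb'.1.1) (fun b hb => hA2 b hb.1.1) hc2
      (fun b hb => (hAc a haA b hb.1.1).mul_left (hxA b hb)) (fun hmem => by
        refine (memK a' x).not.mp ha'x ?_
        have h3 : Commute a' (a * x) := hAc a' ha' _ hmem.1.1
        have h4 : Commute a' (a⁻¹ * (a * x)) := (hAc a' ha' _ (inv_mem haA)).mul_right h3
        rwa [inv_mul_cancel_left] at h4)
    have h3 := pull B' (fun g hg => by
        obtain ⟨b, hb, l, rfl⟩ := hB'nf g hg
        exact mul_mem (hA₀C hb) (pow_mem hcC l)) hB' hB'2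
    rw [pow_succ]
    omega

omit [Finite E] in
theorem pRankLE_mono {k l : ℕ} (h : k ≤ l) (hE : Cfsg.PRankLE 2 k E) : Cfsg.PRankLE 2 l E :=
  fun A hA hA2 => (hE A hA hA2).trans (Nat.pow_le_pow_right two_pos h)

theorem rank_base (hE : Cfsg.IsExtraspecial 2 E) (h8 : Nat.card E = 8) :
    ((∀ x : E, x ^ 2 = 1 → x ∈ center E) → Cfsg.PRankLE 2 1 E ∧ ¬ Cfsg.PRankLE 2 0 E) ∧
      (¬ (∀ x : E, x ^ 2 = 1 → x ∈ center E) → Cfsg.PRankLE 2 2 E ∧ ¬ Cfsg.PRankLE 2 1 E) := by
  have hz : IsMulCommutative (center E) :=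
    ⟨⟨fun a b => Subtype.ext (mem_center_iff.mp b.2 a)⟩⟩
  constructor
  · intro hall
    refine ⟨fun A hA hA2 => ?_, fun h => ?_⟩
    · have := card_le_of_le (show A ≤ center E from fun a ha => hall a (hA2 a ha))
      rwa [hE.2] at this
    · have := h (center E) hz fun a ha => PGroup.xs_center_pow hE ha
      rw [hE.2] at this
      norm_num at this
  · intro hnot
    push Not at hnot
    obtain ⟨x, hx2, hx⟩ := hnot
    refine ⟨fun A hA hA2 => ?_, fun h => ?_⟩
    · have hne : A ≠ ⊤ := fun hT => PGroup.xs_center_ne_top hE ((eq_top_iff' _).mpr fun g =>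
        mem_center_iff.mpr fun g' => (comm_of hA g' (hT ▸ mem_top g') g (hT ▸ mem_top g)).eq)
      obtain ⟨m, hm⟩ := IsPGroup.iff_card.mp (hE.1.1.to_subgroup A)
      have hlt : Nat.card A < 2 ^ 3 := by
        refine lt_of_le_of_ne ?_ fun he => hne (eq_top_of_card_eq A (he.trans h8.symm))
        exact (card_le_card_group A).trans h8.le
      rw [hm] at hlt ⊢
      exact Nat.pow_le_pow_right two_pos (by
        have := (Nat.pow_lt_pow_iff_right (by norm_num)).mp hlt
        omega)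
    · obtain ⟨B', hB', hB'2, hcard, -⟩ := exists_bigger (B := center E) (c := x)
        (fun b _ b' hb' => (mem_center_iff.mp hb' b)) (fun b hb => PGroup.xs_center_pow hE hb) hx2
        (fun b hb => mem_center_iff.mp hb x) hx
      have := h B' hB' hB'2
      rw [hE.2] at hcard
      omega

theorem rank_main : ∀ (n : ℕ) {E : Type u} [Group E] [Finite E], Cfsg.IsExtraspecial 2 E →
    Nat.card E = 2 ^ (2 * n + 1) → 1 ≤ n ∧
      ((Cfsg.PRankLE 2 n E ∧ ¬ Cfsg.PRankLE 2 (n - 1) E) ∨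
        (Cfsg.PRankLE 2 (n + 1) E ∧ ¬ Cfsg.PRankLE 2 n E)) ∧
      ∀ (E' : Type v) [Group E'] [Finite E'], Cfsg.IsExtraspecial 2 E' →
        Nat.card E' = Nat.card E → (Cfsg.PRankLE 2 n E ↔ Cfsg.PRankLE 2 n E') →
        Nonempty (E ≃* E') := by
  intro n
  induction n using Nat.strong_induction_on with
  | _ n ih =>
  intro E _ _ hE hcard
  obtain ⟨k, hk1, hk⟩ := PGroup.xs_card_pow _ hE hcard
  have hkn : k = n := by
    have := Nat.pow_right_injective le_rfl hk
    omega
  subst hkn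
  refine ⟨hk1, ?_⟩
  by_cases hk' : k = 1
  · subst hk'
    have h8 : Nat.card E = 8 := by rw [hcard]; norm_num
    refine ⟨?_, fun E' _ _ hE' hc hiff => ?_⟩
    · by_cases hall : ∀ x : E, x ^ 2 = 1 → x ∈ center E
      · exact Or.inl ((rank_base hE h8).1 hall)
      · exact Or.inr ((rank_base hE h8).2 hall)
    · refine PGroup.xs_two_small hE hE' h8 (hc.trans h8) ⟨fun h => ?_, fun h => ?_⟩
      · by_contra hn
        exact ((rank_base hE' (hc.trans h8)).2 hn).2 (hiff.mp ((rank_base hE h8).1 h).1)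
      · by_contra hn
        exact ((rank_base hE h8).2 hn).2 (hiff.mpr ((rank_base hE' (hc.trans h8)).1 h).1)
  obtain ⟨j, rfl⟩ : ∃ j, k = j + 1 := ⟨k - 1, by omega⟩
  have hne : Nat.card E ≠ 8 := by
    rw [hcard, show (8 : ℕ) = 2 ^ 3 by norm_num]
    intro h
    have := Nat.pow_right_injective le_rfl h
    omega
  obtain ⟨x, y, hxy, hx, hy, hc8, hC⟩ := PGroup.xs_two_pair hE rfl hne
  have hCcard : Nat.card (centralizer ((closure {x, y} : Subgroup E) : Set E)) =
      2 ^ (2 * j + 1) := by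
    rw [hcard, show 2 * (j + 1) + 1 = (2 * j + 1) + 2 by ring, pow_add] at hc8
    omega
  obtain ⟨hj1, hrk, hiso⟩ := ih j (by omega) hC hCcard
  refine ⟨?_, fun E' _ _ hE' hc hiff => ?_⟩
  · rw [Nat.add_sub_cancel, rank_step hE hxy hx, rank_step hE hxy hx]
    rcases hrk with ⟨h1, h2⟩ | ⟨h1, h2⟩
    · left
      refine ⟨h1, fun h => h2 ?_⟩
      rw [← rank_step hE hxy hx, Nat.sub_add_cancel hj1]
      exact h
    · exact Or.inr ⟨h1, h2⟩
  · obtain ⟨x', y', hxy', hx', hy', hc8', hC'⟩ := PGroup.xs_two_pair hE' hc hne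
    rw [rank_step hE hxy hx, rank_step hE' hxy' hx'] at hiff
    exact PGroup.xs_two_glue hE hE' rfl hc hxy hxy' hx hy hx' hy'
      (hiso _ hC' (by omega) hiff)

end Cfsg.Agent.FG72.ExtraRank
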