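import Mathlib.GroupTheory.PGroup
import Mathlib.GroupTheory.Sylow
import Mathlib.Data.Set.Finite.Lattice
import Mathlib.GroupTheory.QuotientGroup.Basic
import Mathlib.GroupTheory.Coset.Card
import Mathlib.Algebra.BigOperators.Group.Finset.Basic
import Mathlib.RingTheory.Coprime.Lemmas
import Mathlib.RingTheory.Int.Basic
import Mathlib.Tactic.LinearCombination
import Mathlib.Algebra.Group.Subgroup.Finite
import Mathlib.GroupTheory.Index
import Mathlib.RingTheory.PrincipalIdealDomain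

/-!
Maschke's theorem for a `p'`-group of automorphisms acting on an elementary abelian section of an
abelian group.
-/

set_option autoImplicit false

namespace Cfsg.Agent.FG72

variable {A : Type*} [CommGroup A] [Finite A]

/-- `B` is mapped into itself by every element of `X`. -/
def IsInv (X : Subgroup (MulAut A)) (B : Subgroup A) : Prop := ∀ x ∈ X, ∀ a ∈ B, x a ∈ B

theorem IsInv.map_eq {X : Subgroup (MulAut A)} {B : Subgroup A} (h : IsInv X B) :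
    ∀ x ∈ X, B.map x.toMonoidHom = B := by
  intro x hx
  refine le_antisymm ?_ fun a ha => ⟨x⁻¹ a, h _ (inv_mem hx) a ha, ?_⟩
  · rintro _ ⟨a, ha, rfl⟩
    exact h x hx a ha
  · exact MulEquiv.apply_symm_apply x a

theorem isInv_of_map_eq {X : Subgroup (MulAut A)} {B : Subgroup A}
    (h : ∀ x ∈ X, B.map x.toMonoidHom = B) : IsInv X B :=
  fun x hx a ha => h x hx ▸ ⟨a, ha, rfl⟩

theorem isInv_bot (X : Subgroup (MulAut A)) : IsInv X (⊥ : Subgroup A) :=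
  fun x _ a ha => by simp [Subgroup.mem_bot.mp ha]

theorem isInv_top (X : Subgroup (MulAut A)) : IsInv X (⊤ : Subgroup A) :=
  fun _ _ _ _ => Subgroup.mem_top _

theorem IsInv.inf {X : Subgroup (MulAut A)} {B C : Subgroup A} (hB : IsInv X B) (hC : IsInv X C) :
    IsInv X (B ⊓ C) := fun x hx a ha => ⟨hB x hx a ha.1, hC x hx a ha.2⟩

theorem IsInv.sup {X : Subgroup (MulAut A)} {B C : Subgroup A} (hB : IsInv X B) (hC : IsInv X C) :
    IsInv X (B ⊔ C) := fun x hx a ha => by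
  obtain ⟨b, hb, c, hc, rfl⟩ := Subgroup.mem_sup.mp ha
  rw [map_mul]
  exact Subgroup.mul_mem_sup (hB x hx b hb) (hC x hx c hc)

/-- An invariant subgroup of an elementary abelian section has an invariant complement. -/
theorem exists_invariant_complement {p : ℕ} [Fact p.Prime] (X : Subgroup (MulAut A))
    (hX : (Nat.card X).Coprime p) {C W M : Subgroup A} (hC : IsInv X C) (hW : IsInv X W)
    (hM : IsInv X M) (hCW : C ≤ W) (hWM : W ≤ M) (hp : ∀ a ∈ M, a ^ p ∈ C) :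
    ∃ D : Subgroup A, IsInv X D ∧ C ≤ D ∧ D ≤ M ∧ D ⊓ W = C ∧ D ⊔ W = M := by
  classical
  have hprime : p.Prime := Fact.out
  cases nonempty_fintype X
  obtain ⟨D₀, hD₀⟩ := (Set.toFinite {D : Subgroup A | C ≤ D ∧ D ≤ M ∧ D ⊓ W = C}).exists_maximal
    ⟨C, le_rfl, hCW.trans hWM, inf_eq_left.mpr hCW⟩
  obtain ⟨⟨hCD, hDM, hDW⟩, hmax⟩ := hD₀
  have hspan : ∀ a ∈ M, ∃ w ∈ W, ∃ d ∈ D₀, w * d = a := by
    intro a ha
    by_contra hno
    have hmem : a ∈ D₀ ⊔ Subgroup.zpowers a := Subgroup.mem_sup_right (Subgroup.mem_zpowers a)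
    refine hno ⟨1, one_mem _, a, hmax ⟨hCD.trans le_sup_left,
      sup_le hDM (Subgroup.zpowers_le.mpr ha), le_antisymm ?_ (le_inf (hCD.trans le_sup_left) hCW)⟩
      le_sup_left hmem, one_mul a⟩
    rintro x ⟨hx, hxW⟩
    obtain ⟨d, hd, y, hy, rfl⟩ := Subgroup.mem_sup.mp hx
    obtain ⟨i, rfl⟩ := Subgroup.mem_zpowers_iff.mp hy
    by_cases hi : (p : ℤ) ∣ i
    · obtain ⟨j, rfl⟩ := hi
      have h1 : a ^ ((p : ℤ) * j) ∈ C := by
        rw [zpow_mul, zpow_natCast]; exact zpow_mem (hp a ha) j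
      have h2 : d ∈ D₀ ⊓ W := ⟨hd, (mul_mem_cancel_right (hCW h1)).mp hxW⟩
      rw [hDW] at h2
      exact mul_mem h2 h1
    · exfalso
      apply hno
      obtain ⟨u, v, huv⟩ := (((Nat.prime_iff_prime_int.mp hprime).coprime_iff_not_dvd.mpr hi).symm :
        IsCoprime i (p : ℤ))
      refine ⟨(d * a ^ i) ^ u, W.zpow_mem hxW u, (d ^ u)⁻¹ * (a ^ p) ^ v,
        mul_mem (inv_mem (zpow_mem hd u)) (zpow_mem (hCD (hp a ha)) v), ?_⟩
      rw [mul_zpow, ← zpow_mul, ← zpow_natCast, ← zpow_mul]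
      calc d ^ u * a ^ (i * u) * ((d ^ u)⁻¹ * a ^ ((p : ℤ) * v))
          = a ^ (i * u) * a ^ ((p : ℤ) * v) := by
            rw [mul_comm (d ^ u), mul_assoc, mul_inv_cancel_left]
        _ = a := by rw [← zpow_add, show i * u + (p : ℤ) * v = 1 by linear_combination huv, zpow_one]
  choose w hwW d hdD hwd using hspan
  let π := QuotientGroup.mk' C
  have huniq : ∀ w₁ ∈ W, ∀ w₂ ∈ W, ∀ d₁ ∈ D₀, ∀ d₂ ∈ D₀, w₁ * d₁ = w₂ * d₂ → π w₁ = π w₂ := by
    intro w₁ h1 w₂ h2 d₁ e1 d₂ e2 h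
    have hm : w₁⁻¹ * w₂ ∈ D₀ ⊓ W := by
      refine ⟨?_, W.mul_mem (W.inv_mem h1) h2⟩
      have : w₁⁻¹ * w₂ = d₁ * d₂⁻¹ := by
        calc w₁⁻¹ * w₂ = w₁⁻¹ * (w₂ * d₂) * d₂⁻¹ := by group
          _ = d₁ * d₂⁻¹ := by rw [← h]; group
      rw [this]; exact D₀.mul_mem e1 (D₀.inv_mem e2)
    rw [hDW] at hm
    exact QuotientGroup.eq.mpr hm
  let P : M →* A ⧸ C := MonoidHom.mk' (fun a => π (w a a.2)) (fun a b => by
    rw [← map_mul]
    refine huniq _ (hwW _ (a * b).2) _ (mul_mem (hwW _ a.2) (hwW _ b.2)) _ (hdD _ (a * b).2) _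
      (mul_mem (hdD _ a.2) (hdD _ b.2)) ?_
    rw [hwd, mul_mul_mul_comm, hwd, hwd]
    rfl)
  let σ : X → M →* M := fun x =>
    ((x : MulAut A).toMonoidHom.comp M.subtype).codRestrict M fun a => hM x x.2 a a.2
  let τ : X → (A ⧸ C) →* (A ⧸ C) := fun x =>
    QuotientGroup.map C C (x : MulAut A).toMonoidHom fun a ha => hC x x.2 a ha
  let N : M →* A ⧸ C := ∏ x : X, (τ x).comp (P.comp (σ x⁻¹))
  have hN : ∀ a : M, N a = ∏ x : X, τ x (P (σ x⁻¹ a)) := fun a => MonoidHom.finsetProd_apply _ _ _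
  have hPW : ∀ a : M, (a : A) ∈ W → P a = π a := fun a ha =>
    huniq _ (hwW _ a.2) _ ha _ (hdD _ a.2) 1 (one_mem _) (by rw [hwd, mul_one])
  have hNW : ∀ a : M, (a : A) ∈ W → N a = π a ^ Nat.card X := by
    intro a ha
    rw [hN]
    have h1 : ∀ x : X, τ x (P (σ x⁻¹ a)) = π a := by
      intro x
      rw [hPW _ (hW _ (x⁻¹).2 a ha)]
      show π ((x : MulAut A) ((x : MulAut A)⁻¹ (a : A))) = π a
      rw [MulAut.apply_inv_self]
    simp [h1, Nat.card_eq_fintype_card]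
  have hinv : ∀ (y : X) (a : M), N (σ y a) = τ y (N a) := by
    intro y a
    rw [hN, hN, map_prod]
    refine Fintype.prod_equiv (Equiv.mulLeft y⁻¹) _ _ fun x => ?_
    have e1 : σ x⁻¹ (σ y a) = σ (y⁻¹ * x)⁻¹ a := Subtype.ext (by simp [σ])
    rw [Equiv.coe_mulLeft, e1]
    obtain ⟨q, hq⟩ := QuotientGroup.mk_surjective (P (σ (y⁻¹ * x)⁻¹ a))
    rw [← hq]
    show π ((x : MulAut A) q) = π ((y : MulAut A) (((y⁻¹ * x : X) : MulAut A) q))
    simp
  have hpowC : ∀ q ∈ M.map π, q ^ p = 1 := by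
    rintro _ ⟨a, ha, rfl⟩
    rw [← map_pow]
    exact (QuotientGroup.eq_one_iff _).mpr (hp a ha)
  obtain ⟨u, v, huv⟩ : IsCoprime ((Nat.card X : ℕ) : ℤ) (p : ℤ) :=
    Int.isCoprime_iff_gcd_eq_one.mpr (by simpa [Int.gcd_natCast_natCast] using hX)
  refine ⟨N.ker.map M.subtype, fun x hx a ha => ?_, fun c hc => ?_, Subgroup.map_subtype_le _, ?_, ?_⟩
  · obtain ⟨b, hb, rfl⟩ := ha
    refine ⟨σ ⟨x, hx⟩ b, ?_, rfl⟩
    show N (σ ⟨x, hx⟩ b) = 1
    rw [hinv, show N b = 1 from hb, map_one]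
  · refine ⟨⟨c, hWM (hCW hc)⟩, ?_, rfl⟩
    show N ⟨c, hWM (hCW hc)⟩ = 1
    rw [hNW _ (hCW hc)]
    rw [show π c = 1 from (QuotientGroup.eq_one_iff c).mpr hc, one_pow]
  · refine le_antisymm ?_ (le_inf (fun c hc => ?_) hCW)
    · rintro _ ⟨⟨b, hb, rfl⟩, hbW⟩
      have h1 : π (b : A) ^ Nat.card X = 1 := (hNW b hbW).symm.trans hb
      have h2 := hpowC _ ⟨b, b.2, rfl⟩
      refine (QuotientGroup.eq_one_iff _).mp (?_ : π (b : A) = 1)
      rw [← zpow_one (π (b : A)), ← huv, zpow_add, mul_comm u, zpow_mul, zpow_natCast, h1, one_zpow,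
        one_mul, mul_comm v, zpow_mul, zpow_natCast, h2, one_zpow]
    · refine ⟨⟨c, hWM (hCW hc)⟩, ?_, rfl⟩
      show N ⟨c, hWM (hCW hc)⟩ = 1
      rw [hNW _ (hCW hc)]
      rw [show π c = 1 from (QuotientGroup.eq_one_iff c).mpr hc, one_pow]
  · refine le_antisymm (sup_le (Subgroup.map_subtype_le _) hWM) fun a ha => ?_
    obtain ⟨z, hz, hzN⟩ : ∃ z ∈ W, π z = N ⟨a, ha⟩ := by
      rw [hN]
      refine Finset.prod_induction (p := fun q => ∃ z ∈ W, π z = q) _ ?_ ⟨1, one_mem _, map_one _⟩ ?_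
      · rintro _ _ ⟨z, hz, rfl⟩ ⟨z', hz', rfl⟩
        exact ⟨z * z', mul_mem hz hz', map_mul _ _ _⟩
      · intro x _
        exact ⟨(x : MulAut A) (w _ (σ x⁻¹ ⟨a, ha⟩).2), hW x x.2 _ (hwW _ _), rfl⟩
    have hzu : z ^ u ∈ W := zpow_mem hz u
    have hk : N (⟨a, ha⟩ * ⟨z ^ u, hWM hzu⟩⁻¹) = 1 := by
      rw [map_mul, map_inv, hNW ⟨z ^ u, hWM hzu⟩ hzu]
      show N ⟨a, ha⟩ * (π (z ^ u) ^ Nat.card X)⁻¹ = 1
      rw [map_zpow, ← zpow_natCast, ← zpow_mul, mul_inv_eq_one, ← hzN]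
      calc π z = π z ^ (u * (Nat.card X : ℤ) + v * p) := by rw [huv, zpow_one]
        _ = π z ^ (u * (Nat.card X : ℤ)) := by
          rw [zpow_add, mul_comm v, zpow_mul (π z) (p : ℤ), zpow_natCast,
            hpowC _ ⟨z, hWM hz, rfl⟩, one_zpow, mul_one]
    have hmem := Subgroup.mul_mem_sup (S := N.ker.map M.subtype)
      ⟨⟨a, ha⟩ * ⟨z ^ u, hWM hzu⟩⁻¹, hk, rfl⟩ hzu
    simpa using hmem

end Cfsg.Agent.FG72
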