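import Cfsg.Agent.FG38.PolyMap

/-!
Iterated commutators of a normal subgroup with the whole group.
-/

set_option autoImplicit false

namespace Cfsg.Agent.FG72

open scoped commutatorElement

variable {G : Type*} [Group G]

/-- `[X, G, …, G]` with `k` copies of `G`. -/
def iterComm (X : Subgroup G) : ℕ → Subgroup G
  | 0 => X
  | k + 1 => ⁅iterComm X k, ⊤⁆

theorem iterComm_normal (X : Subgroup G) [X.Normal] : ∀ k, (iterComm X k).Normal
  | 0 => inferInstanceAs X.Normal
  | k + 1 => by
    haveI := iterComm_normal X k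
    show (⁅iterComm X k, ⊤⁆ : Subgroup G).Normal
    infer_instance

theorem iterComm_add (X : Subgroup G) (j : ℕ) : ∀ k, iterComm (iterComm X j) k = iterComm X (j + k)
  | 0 => rfl
  | k + 1 => by
    show ⁅iterComm (iterComm X j) k, ⊤⁆ = _
    rw [iterComm_add X j k]
    rfl

theorem iterComm_mono {X Y : Subgroup G} (h : X ≤ Y) : ∀ k, iterComm X k ≤ iterComm Y k
  | 0 => h
  | k + 1 => Subgroup.commutator_mono (iterComm_mono h k) le_rfl

theorem commutator_lowerCentralSeries_le : ∀ (k : ℕ) (X : Subgroup G) [X.Normal],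
    ⁅X, (⊤ : Subgroup G).lowerCentralSeries k⁆ ≤ iterComm X (k + 1)
  | 0, X, _ => le_of_eq (by simp [iterComm])
  | k + 1, X, hX => by
    haveI := iterComm_normal X (k + 1 + 1)
    rw [Subgroup.lowerCentralSeries_succ, Subgroup.commutator_comm X]
    refine FG38.commutator_le_of_rotate (N := iterComm X (k + 1 + 1)) ?_ ?_
    · haveI : (⁅X, ⊤⁆ : Subgroup G).Normal := iterComm_normal X 1
      rw [Subgroup.commutator_comm ⊤ X]
      refine (commutator_lowerCentralSeries_le k ⁅X, ⊤⁆).trans ?_
      rw [show (⁅X, ⊤⁆ : Subgroup G) = iterComm X 1 from rfl, iterComm_add, Nat.add_comm 1]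
    · exact Subgroup.commutator_mono (commutator_lowerCentralSeries_le k X) le_rfl

theorem iterComm_le_self (X : Subgroup G) [X.Normal] : ∀ k, iterComm X k ≤ X
  | 0 => le_rfl
  | k + 1 => (Subgroup.commutator_mono (iterComm_le_self X k) le_rfl).trans
      (Subgroup.commutator_le_left X ⊤)

theorem iterComm_le_lowerCentralSeries (X : Subgroup G) :
    ∀ k, iterComm X k ≤ (⊤ : Subgroup G).lowerCentralSeries k
  | 0 => le_top
  | k + 1 => Subgroup.commutator_mono (iterComm_le_lowerCentralSeries X k) le_rfl

theorem commutatorElement_mul_left_eq (u v g : G) :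
    ⁅u * v, g⁆ = u * ⁅v, g⁆ * u⁻¹ * ⁅u, g⁆ := by
  simp only [commutatorElement_def]; group

/-- A normal subgroup of a nilpotent group of finite `p`-power index in another one is reached by
iterated commutators. -/
theorem iterComm_le_of_relIndex_lt [Finite G] {p : ℕ} [Fact p.Prime] (hG : IsPGroup p G) :
    ∀ (m : ℕ) (A B : Subgroup G) [A.Normal] [B.Normal], B ≤ A → B.relIndex A < p ^ (m + 1) →
      iterComm A m ≤ B := by
  intro m
  induction m with
  | zero =>
    intro A B _ _ hBA hlt
    rw [zero_add, pow_one] at hlt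
    obtain ⟨j, hj⟩ : ∃ j, B.relIndex A = p ^ j := (hG.to_subgroup A).index (B.subgroupOf A)
    rw [hj] at hlt
    rcases j with _ | j
    · exact Subgroup.relIndex_eq_one.mp (hj.trans (pow_zero p))
    · exact absurd hlt (not_lt.mpr (Nat.le_self_pow (Nat.succ_ne_zero j) p))
  | succ m ih =>
    intro A B _ _ hBA hlt
    rcases eq_or_ne A B with rfl | hne
    · exact (iterComm_le_self A (m + 1))
    -- the next term of the central series of `A / B`
    set A₁ := ⁅A, ⊤⁆ ⊔ B with hA₁
    have hA₁le : A₁ ≤ A := sup_le (Subgroup.commutator_le_left A ⊤) hBA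
    have hA₁lt : A₁ < A := by
      refine lt_of_le_of_ne hA₁le fun h => hne (le_antisymm ?_ hBA)
      have hN : Group.IsNilpotent G := hG.isNilpotent
      obtain ⟨c, hc⟩ := (Subgroup.nilpotent_iff_lowerCentralSeries).mp hN
      have hstep : ∀ j, A ≤ iterComm A j ⊔ B := by
        intro j
        induction j with
        | zero => exact le_sup_left
        | succ j ihj =>
          calc A = ⁅A, ⊤⁆ ⊔ B := h.symm
            _ ≤ ⁅iterComm A j ⊔ B, ⊤⁆ ⊔ B := sup_le_sup_right (Subgroup.commutator_mono ihj le_rfl) B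
            _ ≤ iterComm A (j + 1) ⊔ B := by
              refine sup_le ?_ le_sup_right
              haveI := iterComm_normal A (j + 1)
              rw [Subgroup.commutator_le]
              intro x hx g hg
              haveI := iterComm_normal A j
              obtain ⟨u, hu, v, hv, rfl⟩ := Subgroup.mem_sup_of_normal_right.mp hx
              rw [commutatorElement_mul_left_eq]
              exact mul_mem (Subgroup.mem_sup_right
                  (Subgroup.Normal.conj_mem ‹B.Normal› _ ((Subgroup.commutator_le_left B ⊤)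
                    (Subgroup.commutator_mem_commutator hv hg)) u))
                (Subgroup.mem_sup_left (Subgroup.commutator_mem_commutator hu hg))
      refine (hstep c).trans (sup_le ?_ le_rfl)
      exact ((iterComm_le_lowerCentralSeries A c).trans hc.le).trans bot_le
    have hidx : B.relIndex A₁ * A₁.relIndex A = B.relIndex A :=
      Subgroup.relIndex_mul_relIndex _ _ _ le_sup_right hA₁le
    have hp : p ≤ A₁.relIndex A := by
      obtain ⟨j, hj⟩ : ∃ j, A₁.relIndex A = p ^ j := (hG.to_subgroup A).index (A₁.subgroupOf A)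
      rw [hj]
      rcases j with _ | j
      · exact absurd (Subgroup.relIndex_eq_one.mp (hj.trans (pow_zero p))) hA₁lt.not_ge
      · exact Nat.le_self_pow (Nat.succ_ne_zero j) p
    have hlt' : B.relIndex A₁ < p ^ (m + 1) := by
      by_contra hge
      push Not at hge
      have := Nat.mul_le_mul hge hp
      rw [hidx, ← pow_succ] at this
      exact absurd hlt (not_lt.mpr this)
    refine le_trans ?_ (ih A₁ B le_sup_right hlt')
    rw [Nat.add_comm m 1, ← iterComm_add]
    exact iterComm_mono le_sup_left m

theorem index_lowerCentralSeries_ge [Finite G] {p : ℕ} [Fact p.Prime] (hG : IsPGroup p G)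
    (n : ℕ) (hn : 1 ≤ n) (N : Subgroup G) [hNn : N.Normal]
    (hN : N ≤ (⊤ : Subgroup G).lowerCentralSeries (n - 1)) (i : ℕ) (hi : 1 < i)
    (hne : N.lowerCentralSeries i ≠ ⊥) :
    p ^ n ≤ (N.lowerCentralSeries i).relIndex (N.lowerCentralSeries (i - 1)) := by
  obtain ⟨m, rfl⟩ : ∃ m, n = m + 1 := ⟨n - 1, by omega⟩
  obtain ⟨j, rfl⟩ : ∃ j, i = j + 1 := ⟨i - 1, by omega⟩
  have hnorm : ∀ k, (N.lowerCentralSeries k).Normal := fun k => by
    induction k with
    | zero => exact hNn
    | succ k ih => rw [Subgroup.lowerCentralSeries_succ]; infer_instance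
  simp only [Nat.add_sub_cancel] at hN ⊢
  set A := N.lowerCentralSeries j with hA
  set B := N.lowerCentralSeries (j + 1) with hB
  haveI : A.Normal := hnorm j
  haveI : B.Normal := hnorm (j + 1)
  by_contra hlt
  push Not at hlt
  have h1 : iterComm A m ≤ B := iterComm_le_of_relIndex_lt hG m A B
    (Subgroup.lowerCentralSeries_antitone N (Nat.le_succ j)) hlt
  have h2 : B ≤ ⁅B, ⊤⁆ := by
    calc B = ⁅A, N⁆ := rfl
      _ ≤ ⁅A, (⊤ : Subgroup G).lowerCentralSeries m⁆ := Subgroup.commutator_mono le_rfl hN
      _ ≤ iterComm A (m + 1) := commutator_lowerCentralSeries_le m A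
      _ ≤ ⁅B, ⊤⁆ := Subgroup.commutator_mono h1 le_rfl
  have h3 : ∀ k, B ≤ iterComm B k := by
    intro k
    induction k with
    | zero => exact le_rfl
    | succ k ih => exact h2.trans (Subgroup.commutator_mono ih le_rfl)
  obtain ⟨c, hc⟩ := (Subgroup.nilpotent_iff_lowerCentralSeries).mp hG.isNilpotent
  exact hne (le_bot_iff.mp (((h3 c).trans
    (iterComm_le_lowerCentralSeries B c)).trans hc.le))

end Cfsg.Agent.FG72
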