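import Cfsg.Agent.Lib.Components.GenFitting

/-!
Normal closures of components with trivial centre, and the layer of a group with trivial Fitting
subgroup.
-/

set_option autoImplicit false

namespace Cfsg.Agent.FG72

open Cfsg.Agent.Components

variable {G : Type*} [Group G] [Finite G]

theorem normalClosure_component_minimal (K : Subgroup G) (hK : Cfsg.IsComponent K)
    (hc : Subgroup.center ↥K = ⊥) :
    Subgroup.normalClosure (K : Set G) ≠ ⊥ ∧ ∀ N : Subgroup G, N.Normal →
      N ≤ Subgroup.normalClosure (K : Set G) → N = ⊥ ∨ N = Subgroup.normalClosure (K : Set G) := by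
  set T : Set (Subgroup G) := Set.range fun g : G => K.map (MulAut.conj g).toMonoidHom with hT
  have hTc : ∀ L ∈ T, Cfsg.IsComponent L := by
    rintro _ ⟨g, rfl⟩
    exact component_map_conj g hK
  have hTn : (sSup T).Normal := by
    refine ⟨fun x hx g => ?_⟩
    have : (sSup T).map (MulAut.conj g).toMonoidHom ≤ sSup T := by
      rw [sSup_eq_iSup, Subgroup.map_iSup]
      refine iSup_le fun L => ?_
      rw [Subgroup.map_iSup]
      refine iSup_le fun hL => ?_
      obtain ⟨h, rfl⟩ := hL
      refine le_iSup_of_le (K.map (MulAut.conj (g * h)).toMonoidHom) (le_iSup_of_le ⟨g * h, rfl⟩ ?_)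
      rw [Subgroup.map_map]
      refine le_of_eq ?_
      congr 1
      ext y
      simp [mul_assoc]
    exact this ⟨x, hx, rfl⟩
  have hK1 : K ≤ sSup T := le_sSup ⟨1, by ext y; simp⟩
  have hNC : Subgroup.normalClosure (K : Set G) = sSup T := by
    refine le_antisymm (Subgroup.normalClosure_le_normal hK1) (sSup_le ?_)
    rintro _ ⟨g, rfl⟩ _ ⟨x, hx, rfl⟩
    exact Subgroup.normalClosure_normal.conj_mem x (Subgroup.subset_normalClosure hx) g
  refine ⟨fun h => component_ne_bot hK (le_bot_iff.mp (h ▸ Subgroup.subset_normalClosure)), ?_⟩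
  intro N hN hle
  rcases component_le_or_commutator_eq_bot_of_normal hK N with h | h
  · exact Or.inr (le_antisymm hle (Subgroup.normalClosure_le_normal h))
  left
  have hcen : Subgroup.normalClosure (K : Set G) ≤ Subgroup.centralizer (N : Set G) :=
    Subgroup.normalClosure_le_normal (Subgroup.commutator_eq_bot_iff_le_centralizer.mp h)
  rw [hNC] at hle hcen
  refine (Subgroup.eq_bot_iff_forall _).mpr fun x hx => ?_
  have hmem := mem_iSup_center_of_mem_sSup (T := T) (Set.toFinite _) hTc (hle hx)
    (Subgroup.le_centralizer_iff.mp hcen hx)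
  have hbot : (⨆ L ∈ T, (Subgroup.center L).map L.subtype) = ⊥ := by
    rw [eq_bot_iff]
    refine iSup_le fun L => iSup_le fun hL => ?_
    obtain ⟨g, rfl⟩ := hL
    let e := K.equivMapOfInjective (MulAut.conj g).toMonoidHom (MulAut.conj g).injective
    rintro _ ⟨z, hz, rfl⟩
    have hz' : e.symm z ∈ Subgroup.center ↥K := by
      rw [Subgroup.mem_center_iff]
      intro y
      apply e.injective
      rw [map_mul, map_mul, e.apply_symm_apply, Subgroup.mem_center_iff.mp hz (e y)]
    rw [hc, Subgroup.mem_bot] at hz'
    have : z = 1 := by rw [← e.apply_symm_apply z, hz', map_one]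
    rw [this]
    exact one_mem _
  rw [hbot] at hmem
  exact hmem

theorem sSup_minimalNormal_eq_layer (hF : Cfsg.fittingSubgroup G = ⊥) :
    sSup {N : Subgroup G | N ≠ ⊥ ∧ N.Normal ∧
      ∀ N' : Subgroup G, N'.Normal → N' ≤ N → N' = ⊥ ∨ N' = N} = Cfsg.layer G := by
  refine le_antisymm (sSup_le ?_) (layer_le_iff.mpr fun K hK => ?_)
  · rintro N ⟨hne, hN, hmin⟩
    haveI := hN
    rcases hmin (N ⊓ Cfsg.layer G) inferInstance inf_le_left with h | h
    · exfalso
      refine hne (le_bot_iff.mp ?_)
      have h1 : N ≤ Subgroup.centralizer (Cfsg.layer G : Set G) := by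
        rw [← Subgroup.commutator_eq_bot_iff_le_centralizer, eq_bot_iff, ← h]
        exact Subgroup.commutator_le_inf N (Cfsg.layer G)
      have h2 : Cfsg.generalizedFittingSubgroup G = Cfsg.layer G := by
        rw [Cfsg.generalizedFittingSubgroup, hF, sup_bot_eq]
      have h3 : N ≤ Cfsg.layer G := by
        have := centralizer_generalizedFitting_le (G := G)
        rw [h2] at this
        exact h1.trans this
      rw [← h]
      exact le_inf le_rfl h3
    · exact h ▸ inf_le_right
  · have hc : Subgroup.center ↥K = ⊥ := by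
      haveI hcn : Group.IsNilpotent (Subgroup.center (Cfsg.layer G)) := by
        open scoped IsMulCommutative in exact CommGroup.isNilpotent
      have hab : Group.IsNilpotent ((Subgroup.center (Cfsg.layer G)).map (Cfsg.layer G).subtype : Subgroup G) :=
        Fitting.isNilpotent_map _ inferInstance
      haveI : ((Subgroup.center (Cfsg.layer G)).map (Cfsg.layer G).subtype).Normal :=
        Fitting.normal_map_subtype_of_characteristic _
      have hle := Fitting.le_fitting inferInstance hab
      rw [hF, map_center_layer] at hle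
      refine Subgroup.map_injective K.subtype_injective ?_
      rw [Subgroup.map_bot, eq_bot_iff]
      exact (le_iSup (fun L : {L : Subgroup G // Cfsg.IsComponent L} =>
        (Subgroup.center (L : Subgroup G)).map (L : Subgroup G).subtype) ⟨K, hK⟩).trans hle
    obtain ⟨h1, h2⟩ := normalClosure_component_minimal K hK hc
    exact Subgroup.subset_normalClosure.trans (SetLike.coe_subset_coe.mpr
      (le_sSup (show _ ∈ _ from ⟨h1, Subgroup.normalClosure_normal, h2⟩)))

end Cfsg.Agent.FG72
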