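import Cfsg.Agent.FG72.BenderPair
import Cfsg.Agent.Lib.Thompson.Cores
import Cfsg.Prelude.Def_LocalEven

/-!
Primitive pairs of maximal local subgroups.
-/

set_option autoImplicit false

namespace Cfsg.Agent.FG72

open Cfsg.Agent.BGUniq

variable {G : Type*} [Group G] [Finite G] {p : ℕ} [Fact p.Prime]

/-- The normalizer of a nontrivial `p`-subgroup. -/
def IsLocalSub (p : ℕ) (M : Subgroup G) : Prop :=
  ∃ T : Subgroup G, IsPGroup p T ∧ T ≠ ⊥ ∧ M = Subgroup.normalizer (T : Set G)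

/-- A maximal local subgroup. -/
def IsMaxLocalSub (p : ℕ) (M : Subgroup G) : Prop :=
  IsLocalSub p M ∧ ∀ L : Subgroup G, IsLocalSub p L → M ≤ L → L = M

omit [Fact p.Prime] in
theorem exists_maxLocal_ge {L : Subgroup G} (hL : IsLocalSub p L) :
    ∃ M, IsMaxLocalSub p M ∧ L ≤ M := by
  obtain ⟨M, hle, hM, hmax⟩ := Finite.exists_le_maximal (p := fun M : Subgroup G => IsLocalSub p M) hL
  exact ⟨M, ⟨hM, fun K hK hMK => le_antisymm (hmax hK hMK) hMK⟩, hle⟩

theorem le_core_of_isLocalSub {T : Subgroup G} (hT : IsPGroup p T) :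
    T ≤ core p (Subgroup.normalizer (T : Set G)) := by
  refine le_of_eq_of_le (Subgroup.map_subgroupOf_eq_of_le Subgroup.le_normalizer).symm (Subgroup.map_mono ?_)
  exact Thompson.le_pCore ((Subgroup.normal_subgroupOf_iff_le_normalizer Subgroup.le_normalizer).mpr le_rfl)
    (hT.of_injective (Subgroup.subgroupOfEquivOfLe Subgroup.le_normalizer).toMonoidHom (MulEquiv.injective _))

/-- Properties of maximal local subgroups in a group of local characteristic `p`. -/
theorem maxLocal_core (M : Subgroup G) (hM : IsMaxLocalSub p M) :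
    core p M ≠ ⊥ ∧ Subgroup.normalizer (core p M : Set G) = M := by
  obtain ⟨⟨T, hT, hT1, rfl⟩, hmax⟩ := hM
  have hne : core p (Subgroup.normalizer (T : Set G)) ≠ ⊥ := fun h =>
    hT1 (le_bot_iff.mp (h ▸ le_core_of_isLocalSub hT))
  exact ⟨hne, hmax _ ⟨_, isPGroup_core p _, hne, rfl⟩ (le_normalizer_core p _)⟩

theorem maxLocal_centralizer (hloc : Cfsg.IsOfLocalCharacteristic p G) (M : Subgroup G)
    (hM : IsMaxLocalSub p M) :
    Subgroup.centralizer (Cfsg.pCore p ↥M : Set ↥M) ≤ Cfsg.pCore p ↥M := by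
  obtain ⟨⟨T, hT, hT1, rfl⟩, -⟩ := hM
  exact hloc.2 T hT hT1

theorem maxLocal_normalizer_eq (hloc : Cfsg.IsOfLocalCharacteristic p G) (M : Subgroup G)
    (hM : IsMaxLocalSub p M) {A : Subgroup G} (hA : A ≠ ⊥) (hAM : A ≤ M)
    (hn : M ≤ Subgroup.normalizer (A : Set G)) : Subgroup.normalizer (A : Set G) ≤ M := by
  obtain ⟨hQ1, hQN⟩ := maxLocal_core M hM
  have hMn : M ≤ Subgroup.normalizer (A ⊓ core p M : Subgroup G) :=
    Coprime.le_normalizer_inf hn (le_normalizer_core p M)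
  have hinf : A ⊓ core p M ≠ ⊥ := by
    intro h
    refine hA ?_
    have hle : A ≤ Subgroup.centralizer (core p M : Set G) := by
      rw [← Subgroup.commutator_eq_bot_iff_le_centralizer, eq_bot_iff, ← h]
      refine Subgroup.commutator_le.mpr fun a ha c hc => ⟨?_, ?_⟩
      · have := Coprime.conj_mem_of_mem_normalizer (hn (core_le p M hc)) (A.inv_mem ha)
        simpa [commutatorElement_def, mul_assoc] using A.mul_mem ha this
      · exact (core p M).mul_mem
          (Coprime.conj_mem_of_mem_normalizer (le_normalizer_core p M (hAM ha)) hc) ((core p M).inv_mem hc)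
    rw [← h, inf_eq_left.mpr]
    intro a ha
    obtain ⟨y, hy, e⟩ : ∃ y ∈ Cfsg.pCore p ↥M, (y : G) = a :=
      ⟨⟨a, hAM ha⟩, maxLocal_centralizer hloc M hM (Subgroup.mem_centralizer_iff.mpr fun c hc =>
        Subtype.ext (Subgroup.mem_centralizer_iff.mp (hle ha) c ⟨c, hc, rfl⟩)), rfl⟩
    exact ⟨y, hy, e⟩
  have hT : IsLocalSub p (Subgroup.normalizer (A ⊓ core p M : Subgroup G) : Subgroup G) :=
    ⟨_, (isPGroup_core p M).to_le inf_le_right, hinf, rfl⟩
  intro g hg
  obtain ⟨hQ1', hQN'⟩ := maxLocal_core M hM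
  rw [← hQN']
  have he := hM.2 _ hT hMn
  -- `A` determines `A ⊓ O_p(M)` as `O_p(A)`
  have hA' : A ⊓ core p M = core p A := by
    refine le_antisymm ?_ (le_inf (core_le p A) ?_)
    · refine le_of_eq_of_le (Subgroup.map_subgroupOf_eq_of_le inf_le_left).symm (Subgroup.map_mono ?_)
      refine Thompson.le_pCore ((Subgroup.normal_subgroupOf_iff_le_normalizer inf_le_left).mpr (hAM.trans hMn)) ?_
      exact ((isPGroup_core p M).to_le (inf_le_right (a := A))).of_injective
        (Subgroup.subgroupOfEquivOfLe inf_le_left).toMonoidHom (MulEquiv.injective _)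
    · haveI : (A.subgroupOf M).Normal := (Subgroup.normal_subgroupOf_iff_le_normalizer hAM).mpr hn
      haveI : ((Cfsg.pCore p ↥(A.subgroupOf M)).map (A.subgroupOf M).subtype).Normal := by
        haveI : (Cfsg.pCore p ↥(A.subgroupOf M)).Characteristic :=
          Subgroup.characteristic_iff_map_eq.mpr fun φ => Thompson.map_pCore_equiv φ
        infer_instance
      have h1 := Thompson.map_pCore_normal_le (p := p) (A.subgroupOf M)
      have h2 : ((Cfsg.pCore p ↥(A.subgroupOf M)).map (A.subgroupOf M).subtype).map M.subtype = core p A := by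
        rw [Subgroup.map_map, core, ← Thompson.map_pCore_equiv (Subgroup.subgroupOfEquivOfLe hAM),
          Subgroup.map_map]
        rfl
      rw [← h2]
      exact Subgroup.map_mono h1
  have hgc : g ∈ Subgroup.normalizer (core p A : Set G) := by
    haveI : (Cfsg.pCore p ↥A).Characteristic :=
      Subgroup.characteristic_iff_map_eq.mpr fun φ => Thompson.map_pCore_equiv φ
    exact OddLocal43.normalizes_map_characteristic (Cfsg.pCore p ↥A) hg
  rw [← hA', he] at hgc
  rwa [hQN']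

theorem pair_of_core_le (hloc : Cfsg.IsOfLocalCharacteristic p G) (M₁ M₂ : Subgroup G)
    (h₁ : IsMaxLocalSub p M₁) (h₂ : IsMaxLocalSub p M₂) (hne : M₁ ≠ M₂)
    (hQ₁ : core p M₁ ≤ M₂) (hQ₂ : core p M₂ ≤ M₁) :
    ∃ M₁ M₂ : Subgroup G, M₁ ≠ M₂ ∧ IsPrimPair M₁ M₂ ∧
      Subgroup.centralizer (Cfsg.pCore p ↥M₁ : Set ↥M₁) ≤ Cfsg.pCore p ↥M₁ ∧
      Subgroup.centralizer (Cfsg.pCore p ↥M₂ : Set ↥M₂) ≤ Cfsg.pCore p ↥M₂ ∧
      (Cfsg.pCore p ↥M₁).map M₁.subtype ⊔ (Cfsg.pCore p ↥M₂).map M₂.subtype ≤ M₁ ⊓ M₂ := by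
  refine ⟨M₁, M₂, hne, fun A hA hle => ⟨fun hn => ?_, fun hn => ?_⟩, maxLocal_centralizer hloc M₁ h₁,
    maxLocal_centralizer hloc M₂ h₂, sup_le (le_inf (core_le p M₁) hQ₁) (le_inf hQ₂ (core_le p M₂))⟩
  · rw [le_antisymm (maxLocal_normalizer_eq hloc M₁ h₁ hA (hle.trans inf_le_left) hn) hn, inf_comm]
  · rw [le_antisymm (maxLocal_normalizer_eq hloc M₂ h₂ hA (hle.trans inf_le_right) hn) hn]

omit [Fact p.Prime] in
theorem isMaxLocalSub_map (g : G) {M : Subgroup G} (hM : IsMaxLocalSub p M) :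
    IsMaxLocalSub p (M.map (MulAut.conj g).toMonoidHom) := by
  have hloc : ∀ (g : G) (L : Subgroup G), IsLocalSub p L → IsLocalSub p (L.map (MulAut.conj g).toMonoidHom) := by
    rintro g L ⟨T, hT, hT1, rfl⟩
    refine ⟨T.map (MulAut.conj g).toMonoidHom, hT.map _, ?_, ?_⟩
    · rwa [Ne, Subgroup.map_eq_bot_iff_of_injective _ (MulAut.conj g).injective]
    · exact Subgroup.map_equiv_normalizer_eq T (MulAut.conj g)
  refine ⟨hloc g M hM.1, fun L hL hle => ?_⟩
  have hinv : ∀ K : Subgroup G,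
      (K.map (MulAut.conj g).toMonoidHom).map (MulAut.conj g⁻¹).toMonoidHom = K := fun K => by
    rw [Subgroup.map_map]
    conv_rhs => rw [← Subgroup.map_id K]
    congr 1; ext; simp [mul_assoc]
  have h2 : (L.map (MulAut.conj g⁻¹).toMonoidHom) = M :=
    hM.2 _ (hloc g⁻¹ L hL) ((hinv M).ge.trans (Subgroup.map_mono hle))
  rw [← h2, Subgroup.map_map]
  conv_lhs => rw [← Subgroup.map_id L]
  congr 1; ext; simp [mul_assoc]

/-- A `p`-subgroup maximal among those in two maximal local subgroups. -/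
theorem exists_pair_or_unique (hloc : Cfsg.IsOfLocalCharacteristic p G) (M : Subgroup G)
    (hM : IsMaxLocalSub p M) (g : G) (hg : g ∉ M)
    (hdvd : p ∣ Nat.card ↥(M ⊓ M.map (MulAut.conj g).toMonoidHom)) :
    ∃ M₁ M₂ : Subgroup G, M₁ ≠ M₂ ∧ IsPrimPair M₁ M₂ ∧
      Subgroup.centralizer (Cfsg.pCore p ↥M₁ : Set ↥M₁) ≤ Cfsg.pCore p ↥M₁ ∧
      Subgroup.centralizer (Cfsg.pCore p ↥M₂ : Set ↥M₂) ≤ Cfsg.pCore p ↥M₂ ∧
      (Cfsg.pCore p ↥M₁).map M₁.subtype ⊔ (Cfsg.pCore p ↥M₂).map M₂.subtype ≤ M₁ ⊓ M₂ := by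
  by_contra hno
  -- every Sylow subgroup of a maximal local is one of `G`
  have hsyl : ∀ (L : Subgroup G), IsMaxLocalSub p L → ∀ P : Subgroup G, IsPGroup p P → P ≤ L →
      core p L ≤ P → (∀ P' : Subgroup G, IsPGroup p P' → P' ≤ L → P ≤ P' → P' = P) →
      ∀ P' : Subgroup G, IsPGroup p P' → P ≤ P' → P' = P := by
    intro L hL P hP hPL hQP hmaxP P' hP' hle
    by_contra hne
    haveI : Group.IsNilpotent P' := hP'.isNilpotent
    have hlt : P.subgroupOf P' < ⊤ := lt_top_iff_ne_top.mpr fun h =>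
      hne (le_antisymm (Subgroup.subgroupOf_eq_top.mp h) hle)
    obtain ⟨x, hx, hx'⟩ :=
      SetLike.exists_of_lt (Group.normalizerCondition_of_isNilpotent (P.subgroupOf P') hlt)
    rw [← Subgroup.subgroupOf_normalizer_eq hle] at hx
    have hxL : (x : G) ∉ L := by
      intro hxL
      refine hx' (show (x : G) ∈ P from ?_)
      have hsup : P ⊔ Subgroup.zpowers (x : G) ≤ P' :=
        sup_le hle (Subgroup.zpowers_le.mpr x.2)
      have := hmaxP _ (hP'.to_le hsup) (sup_le hPL (Subgroup.zpowers_le.mpr hxL)) le_sup_left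
      rw [← this]
      exact Subgroup.mem_sup_right (Subgroup.mem_zpowers _)
    refine hno (pair_of_core_le hloc L (L.map (MulAut.conj (x : G)).toMonoidHom) hL
      (isMaxLocalSub_map _ hL) ?_ ?_ ?_)
    · intro he
      refine hxL ?_
      rw [← (maxLocal_core L hL).2]
      have hxN : (x : G) ∈ Subgroup.normalizer (L : Set G) := Subgroup.mem_normalizer_iff_map_conj_eq.mpr he.symm
      haveI : (Cfsg.pCore p ↥L).Characteristic :=
        Subgroup.characteristic_iff_map_eq.mpr fun φ => Thompson.map_pCore_equiv φ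
      exact OddLocal43.normalizes_map_characteristic (Cfsg.pCore p ↥L) hxN
    · intro c hc
      refine ⟨(x : G)⁻¹ * c * x, hPL (Coprime.conj_mem_of_mem_normalizer' hx (hQP hc)), ?_⟩
      simp [mul_assoc]
    · haveI : (Cfsg.pCore p ↥(L.map (MulAut.conj (x : G)).toMonoidHom)).Characteristic :=
        Subgroup.characteristic_iff_map_eq.mpr fun φ => Thompson.map_pCore_equiv φ
      have hcq : core p (L.map (MulAut.conj (x : G)).toMonoidHom) =
          (core p L).map (MulAut.conj (x : G)).toMonoidHom := by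
        rw [core, core, ← Thompson.map_pCore_equiv
          (L.equivMapOfInjective _ (MulAut.conj (x : G)).injective), Subgroup.map_map, Subgroup.map_map]
        rfl
      rw [hcq]
      rintro _ ⟨c, hc, rfl⟩
      exact hPL (Coprime.conj_mem_of_mem_normalizer hx (hQP hc))
  have hmaxp : ∀ (L : Subgroup G), IsMaxLocalSub p L → ∀ P : Subgroup G, IsPGroup p P → P ≤ L →
      ∃ S : Subgroup G, IsPGroup p S ∧ P ≤ S ∧ S ≤ L ∧ core p L ≤ S ∧
        (∀ P' : Subgroup G, IsPGroup p P' → S ≤ P' → P' = S) := by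
    intro L hL P hP hPL
    obtain ⟨S, hle, ⟨hS, hSL⟩, hmax⟩ := Finite.exists_le_maximal
      (p := fun S : Subgroup G => IsPGroup p S ∧ S ≤ L) (a := P) ⟨hP, hPL⟩
    have hQS : core p L ≤ S := by
      have hn : S ≤ Subgroup.normalizer (core p L : Set G) := hSL.trans (le_normalizer_core p L)
      have := hmax ⟨IsPGroup.to_sup_of_normal_right' hS (isPGroup_core p L) hn,
        sup_le hSL (core_le p L)⟩ le_sup_left
      exact le_sup_right.trans this
    exact ⟨S, hS, hle, hSL, hQS,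
      hsyl L hL S hS hSL hQS fun P' h1 h2 h3 => le_antisymm (hmax ⟨h1, h2⟩ h3) h3⟩
  -- maximal `p`-subgroup in two maximal locals
  have hM' : IsMaxLocalSub p (M.map (MulAut.conj g).toMonoidHom) := isMaxLocalSub_map g hM
  obtain ⟨z, hz⟩ := exists_prime_orderOf_dvd_card' p hdvd
  have hzG : orderOf (z : G) = p := by rw [Subgroup.orderOf_coe]; exact hz
  have hP0 : IsPGroup p (Subgroup.zpowers (z : G)) :=
    IsPGroup.of_card (n := 1) (by rw [Nat.card_zpowers, hzG, pow_one])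
  have hMne : M ≠ M.map (MulAut.conj g).toMonoidHom := by
    intro he
    refine hg ?_
    rw [← (maxLocal_core M hM).2]
    haveI : (Cfsg.pCore p ↥M).Characteristic :=
      Subgroup.characteristic_iff_map_eq.mpr fun φ => Thompson.map_pCore_equiv φ
    exact OddLocal43.normalizes_map_characteristic (Cfsg.pCore p ↥M)
      (Subgroup.mem_normalizer_iff_map_conj_eq.mpr he.symm)
  obtain ⟨P, hle, ⟨hP, M₁, M₂, h₁, h₂, hne, hPM⟩, hmax⟩ := Finite.exists_le_maximal
    (p := fun P : Subgroup G => IsPGroup p P ∧ ∃ M₁ M₂, IsMaxLocalSub p M₁ ∧ IsMaxLocalSub p M₂ ∧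
      M₁ ≠ M₂ ∧ P ≤ M₁ ⊓ M₂) (a := Subgroup.zpowers (z : G))
    ⟨hP0, M, _, hM, hM', hMne, Subgroup.zpowers_le.mpr z.2⟩
  have hP1 : P ≠ ⊥ := fun h => (Fact.out : p.Prime).ne_one (hzG ▸ orderOf_eq_one_iff.mpr
    (Subgroup.mem_bot.mp (h ▸ hle (Subgroup.mem_zpowers _))))
  obtain ⟨L, hL, hNL⟩ := exists_maxLocal_ge (p := p) ⟨P, hP, hP1, rfl⟩
  have key : ∀ K, IsMaxLocalSub p K → P ≤ K → (∀ K', K' ≠ K → IsMaxLocalSub p K' → P ≤ K' →
      ¬ core p K ≤ P) → K = L := by
    intro K hK hPK hnot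
    obtain ⟨S, hS, hPS, hSK, hQS, -⟩ := hmaxp K hK P hP hPK
    by_contra hKL
    rcases eq_or_ne P S with rfl | hPS'
    · exact hnot L (Ne.symm hKL) hL (Subgroup.le_normalizer.trans hNL) hQS
    haveI : Group.IsNilpotent S := hS.isNilpotent
    have hlt : P.subgroupOf S < ⊤ := lt_top_iff_ne_top.mpr fun h =>
      hPS' (le_antisymm hPS (Subgroup.subgroupOf_eq_top.mp h))
    obtain ⟨x, hx, hx'⟩ :=
      SetLike.exists_of_lt (Group.normalizerCondition_of_isNilpotent (P.subgroupOf S) hlt)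
    rw [← Subgroup.subgroupOf_normalizer_eq hPS] at hx
    have hbig := hmax (y := S ⊓ Subgroup.normalizer (P : Set G)) ⟨hS.to_le inf_le_left, K, L, hK, hL, hKL,
      le_inf (inf_le_left.trans hSK) (inf_le_right.trans hNL)⟩ (le_inf hPS Subgroup.le_normalizer)
    exact hx' (hbig ⟨x.2, hx⟩)
  have hnot : ∀ K K', IsMaxLocalSub p K → IsMaxLocalSub p K' → K ≠ K' → P ≤ K → P ≤ K' →
      ¬ core p K ≤ P := by
    intro K K' hK hK' hne hPK hPK' hQ
    obtain ⟨S, hS, hPS, hSK, -, hSmax⟩ := hmaxp K hK P hP hPK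
    obtain ⟨S', hS', hPS', hSK', hQ', hSmax'⟩ := hmaxp K' hK' P hP hPK'
    by_cases h : S ≤ P
    · obtain rfl : P = S := le_antisymm hPS h
      obtain rfl : S' = P := hSmax S' hS' hPS'
      exact hno (pair_of_core_le hloc K K' hK hK' hne (hQ.trans hPK') (hQ'.trans hPK))
    · -- push `P` up inside `K`
      by_cases hKL : K = L
      · subst hKL
        by_cases h' : S' ≤ P
        · obtain rfl : P = S' := le_antisymm hPS' h'
          exact h (hSmax' S hS hPS).le
        · haveI : Group.IsNilpotent S' := hS'.isNilpotent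
          have hlt : P.subgroupOf S' < ⊤ := lt_top_iff_ne_top.mpr fun h'' =>
            h' (Subgroup.subgroupOf_eq_top.mp h'')
          obtain ⟨x, hx, hx'⟩ :=
            SetLike.exists_of_lt (Group.normalizerCondition_of_isNilpotent (P.subgroupOf S') hlt)
          rw [← Subgroup.subgroupOf_normalizer_eq hPS'] at hx
          have hbig := hmax (y := S' ⊓ Subgroup.normalizer (P : Set G))
            ⟨hS'.to_le inf_le_left, K', K, hK', hK, hne.symm,
              le_inf (inf_le_left.trans hSK') (inf_le_right.trans hNL)⟩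
            (le_inf hPS' Subgroup.le_normalizer)
          exact hx' (hbig ⟨x.2, hx⟩)
      · haveI : Group.IsNilpotent S := hS.isNilpotent
        have hlt : P.subgroupOf S < ⊤ := lt_top_iff_ne_top.mpr fun h'' =>
          h (Subgroup.subgroupOf_eq_top.mp h'')
        obtain ⟨x, hx, hx'⟩ :=
          SetLike.exists_of_lt (Group.normalizerCondition_of_isNilpotent (P.subgroupOf S) hlt)
        rw [← Subgroup.subgroupOf_normalizer_eq hPS] at hx
        have hbig := hmax (y := S ⊓ Subgroup.normalizer (P : Set G))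
          ⟨hS.to_le inf_le_left, K, L, hK, hL, hKL, le_inf (inf_le_left.trans hSK) (inf_le_right.trans hNL)⟩
          (le_inf hPS Subgroup.le_normalizer)
        exact hx' (hbig ⟨x.2, hx⟩)
  have e₁ := key M₁ h₁ (hPM.trans inf_le_left) fun K' hne' hK' hPK' => hnot M₁ K' h₁ hK' hne'.symm (hPM.trans inf_le_left) hPK'
  have e₂ := key M₂ h₂ (hPM.trans inf_le_right) fun K' hne' hK' hPK' => hnot M₂ K' h₂ hK' hne'.symm (hPM.trans inf_le_right) hPK'
  exact hne (e₁.trans e₂.symm)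

theorem pair_or_stronglyEmbedded (hloc : Cfsg.IsOfLocalCharacteristic p G)
    (hOp : Cfsg.pCore p G = ⊥) (M : Subgroup G) (hM : IsMaxLocalSub p M) :
    (∃ M₁ M₂ : Subgroup G, M₁ ≠ M₂ ∧ IsPrimPair M₁ M₂ ∧
      Subgroup.centralizer (Cfsg.pCore p ↥M₁ : Set ↥M₁) ≤ Cfsg.pCore p ↥M₁ ∧
      Subgroup.centralizer (Cfsg.pCore p ↥M₂ : Set ↥M₂) ≤ Cfsg.pCore p ↥M₂ ∧
      (Cfsg.pCore p ↥M₁).map M₁.subtype ⊔ (Cfsg.pCore p ↥M₂).map M₂.subtype ≤ M₁ ⊓ M₂) ∨
    (M ≠ ⊤ ∧ p ∣ Nat.card M ∧ ∀ g : G, g ∉ M →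
      ¬ p ∣ Nat.card ↥(M ⊓ M.map (MulAut.conj g).toMonoidHom)) := by
  by_cases h : ∃ g : G, g ∉ M ∧ p ∣ Nat.card ↥(M ⊓ M.map (MulAut.conj g).toMonoidHom)
  · obtain ⟨g, hg, hd⟩ := h
    exact Or.inl (exists_pair_or_unique hloc M hM g hg hd)
  right
  push Not at h
  obtain ⟨T, hT, hT1, rfl⟩ := hM.1
  refine ⟨fun htop => hT1 ?_, ?_, h⟩
  · have : T.Normal := Subgroup.normalizer_eq_top_iff.mp htop
    exact le_bot_iff.mp (hOp ▸ Thompson.le_pCore this hT)
  · refine dvd_trans ?_ (Subgroup.card_dvd_of_le Subgroup.le_normalizer)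
    obtain ⟨n, hn⟩ := IsPGroup.iff_card.mp hT
    rcases n with _ | n
    · exact absurd (Subgroup.card_eq_one.mp (hn.trans (pow_zero p))) hT1
    · rw [hn]; exact dvd_pow_self p n.succ_ne_zero

end Cfsg.Agent.FG72
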