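import Cfsg.Agent.Lib.Coprime.Action
import Cfsg.Agent.Lib.PGroup.Commutator
import Cfsg.Agent.Lib.PGroup.Basic
import Cfsg.Agent.OddLocal43.Coprime
import Cfsg.Prelude.Def_Transfer
import Mathlib.GroupTheory.Abelianization.Defs

/-!
The Hall–Higman reduction: a `p`-group `P` on which `A` acts nontrivially but trivially on every
proper `B`-invariant subgroup (`A ◁ B`, `A` a `p'`-group).
-/

set_option autoImplicit false

namespace Cfsg.Agent.FG72

open scoped commutatorElement

variable {X : Type*} [Group X] [Finite X]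

theorem map_subtype_commutator' (P : Subgroup X) :
    (commutator ↥P).map P.subtype = ⁅P, P⁆ := by
  simp [commutator, Subgroup.map_commutator, ← MonoidHom.range_eq_map]

/-- The fixed points of a coprime action with `⁅P, A⁆ = P` lie in the derived subgroup. -/
theorem inf_centralizer_le_commutator_self (A P : Subgroup X)
    (hAP : A ≤ Subgroup.normalizer (P : Set X)) (hcop : (Nat.card A).Coprime (Nat.card P))
    (h : ⁅P, A⁆ = P) : P ⊓ Subgroup.centralizer (A : Set X) ≤ ⁅P, P⁆ := by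
  classical
  cases nonempty_fintype A
  let σ : A → P →* P := fun e =>
    { toFun := fun x => ⟨(e : X) * x * (e : X)⁻¹,
        Coprime.conj_mem_of_mem_normalizer (hAP e.2) x.2⟩
      map_one' := by ext; simp
      map_mul' := fun x y => by ext; simp [mul_assoc] }
  let f : P →* Abelianization P := ∏ e : A, Abelianization.of.comp (σ e)
  have hf : ∀ x : P, f x = ∏ e : A, Abelianization.of (σ e x) :=
    fun x => MonoidHom.finsetProd_apply _ _ _
  have hinv : ∀ (e₀ : A) (x : P), f (σ e₀ x) = f x := by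
    intro e₀ x
    rw [hf, hf]
    exact Fintype.prod_equiv (Equiv.mulRight e₀) _ _ fun e => by
      apply congrArg Abelianization.of; ext; simp [σ, mul_assoc]
  have hker : P ≤ f.ker.map P.subtype := by
    conv_lhs => rw [← h]
    refine Subgroup.commutator_le.mpr fun k hk a ha => ?_
    refine ⟨⟨k, hk⟩ * σ ⟨a, ha⟩ ⟨k, hk⟩⁻¹, ?_, ?_⟩
    · show f (⟨k, hk⟩ * σ ⟨a, ha⟩ ⟨k, hk⟩⁻¹) = 1
      rw [map_mul, hinv, map_inv, mul_inv_cancel]
    · simp [σ, commutatorElement_def, mul_assoc]
  intro x hx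
  obtain ⟨y, hy, hyx⟩ := hker hx.1
  subst hyx
  have hfix : ∀ e : A, σ e y = y := fun e => Subtype.ext (by
    show (e : X) * (y : X) * (e : X)⁻¹ = y
    have h' : (e : X) * y = y * e := Subgroup.mem_centralizer_iff.mp hx.2 e e.2
    rw [h']
    simp)
  have hpow : Abelianization.of y ^ Nat.card A = 1 := by
    rw [← show f y = 1 from hy, hf]
    simp [hfix]
  have hdvd : Nat.card (Abelianization P) ∣ Nat.card P :=
    (commutator ↥P).index_dvd_card
  have : Abelianization.of y = 1 :=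
    (powCoprime (hcop.coprime_dvd_right hdvd).symm).injective (by simpa using hpow)
  rw [← map_subtype_commutator']
  exact ⟨y, (QuotientGroup.eq_one_iff y).mp this, rfl⟩

/-- Structure of a minimal nontrivial coprime action. -/
theorem minimal_action {p : ℕ} [Fact p.Prime] (B A P : Subgroup X) (hP : IsPGroup p P)
    (hBP : B ≤ Subgroup.normalizer (P : Set X)) (hAB : A ≤ B)
    (hAn : B ≤ Subgroup.normalizer (A : Set X)) (hAp : (Nat.card A).Coprime p)
    (hnt : ⁅P, A⁆ ≠ ⊥)
    (hmin : ∀ U : Subgroup X, U < P → B ≤ Subgroup.normalizer (U : Set X) → ⁅U, A⁆ = ⊥) :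
    ⁅P, A⁆ = P ∧ OddLocal43.frattiniOf P = ⁅P, P⁆ ∧
      P ⊓ Subgroup.centralizer (A : Set X) = ⁅P, P⁆ ∧ ⁅⁅P, P⁆, P⁆ = ⊥ ∧
      ∀ z ∈ ⁅P, P⁆, z ^ p = 1 := by
  have hAP := hAB.trans hBP
  have hcop : (Nat.card A).Coprime (Nat.card P) := by
    obtain ⟨k, hk⟩ := IsPGroup.iff_card.mp hP
    rw [hk]; exact hAp.pow_right k
  have hP0 : P ≠ ⊥ := fun h => hnt (by rw [h, Subgroup.commutator_bot_left])
  have h1 : ⁅P, A⁆ = P := by
    by_contra hne
    have hlt : ⁅P, A⁆ < P := lt_of_le_of_ne (Coprime.commutator_le_of_le_normalizer hAP) hne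
    have := hmin _ hlt (OddLocal43.normalizes_commutator hBP hAn)
    rw [Coprime.commutator_commutator_eq A P hAP hcop
      (Or.inr (Coprime.isSolvable_of_isNilpotent' hP.isNilpotent))] at this
    exact hnt this
  set F := OddLocal43.frattiniOf P with hF
  have hPP : ⁅P, P⁆ ≤ F := by
    rw [← map_subtype_commutator']
    exact Subgroup.map_mono (PGroup.commutator_le_frattini hP)
  have hBF : B ≤ Subgroup.normalizer (F : Set X) :=
    hBP.trans (OddLocal43.normalizes_map_characteristic (frattini ↥P))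
  have hFA : ⁅F, A⁆ = ⊥ := hmin F (OddLocal43.frattiniOf_lt hP0) hBF
  have hPF : P ≤ Subgroup.normalizer (F : Set X) :=
    Subgroup.le_normalizer.trans (OddLocal43.normalizes_map_characteristic (frattini ↥P))
  have hFPle : ⁅F, P⁆ ≤ F := Coprime.commutator_le_of_le_normalizer hPF
  have hcen : ⁅F, P⁆ = ⊥ := by
    have e1 : ⁅⁅A, F⁆, P⁆ = ⊥ := by
      rw [Subgroup.commutator_comm A F, hFA, Subgroup.commutator_bot_left]
    have e2 : ⁅⁅F, P⁆, A⁆ = ⊥ :=
      le_bot_iff.mp (hFA ▸ Subgroup.commutator_mono hFPle le_rfl)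
    have e3 : ⁅⁅P, A⁆, F⁆ = ⊥ := Subgroup.commutator_commutator_eq_bot_of_rotate e1 e2
    rwa [h1, Subgroup.commutator_comm] at e3
  have hFfix : F ≤ P ⊓ Subgroup.centralizer (A : Set X) :=
    le_inf (OddLocal43.frattiniOf_le P) (Subgroup.commutator_eq_bot_iff_le_centralizer.mp hFA)
  have h3 := inf_centralizer_le_commutator_self A P hAP hcop h1
  have eF : F = ⁅P, P⁆ := le_antisymm (hFfix.trans h3) hPP
  refine ⟨h1, eF, le_antisymm h3 (eF ▸ hFfix), eF ▸ hcen, ?_⟩
  have hcl : ∀ x ∈ P, ∀ y ∈ P, ∀ c ∈ P, Commute ⁅x, y⁆ c := by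
    intro x hx y hy c hc
    have : ⁅x, y⁆ ∈ Subgroup.centralizer (P : Set X) :=
      Subgroup.commutator_eq_bot_iff_le_centralizer.mp (eF ▸ hcen)
        (Subgroup.commutator_mem_commutator hx hy)
    exact (Subgroup.mem_centralizer_iff.mp this c hc).symm
  intro z hz
  let E : Subgroup X :=
    { carrier := {z | z ∈ Subgroup.centralizer (P : Set X) ∧ z ∈ P ∧ z ^ p = 1}
      one_mem' := ⟨one_mem _, one_mem _, one_pow _⟩
      mul_mem' := fun {a b} ha hb => ⟨mul_mem ha.1 hb.1, mul_mem ha.2.1 hb.2.1, by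
        have hc : Commute a b := Subgroup.mem_centralizer_iff.mp hb.1 a ha.2.1
        rw [hc.mul_pow, ha.2.2, hb.2.2, one_mul]⟩
      inv_mem' := fun {a} ha => ⟨inv_mem ha.1, inv_mem ha.2.1, by rw [inv_pow, ha.2.2, inv_one]⟩ }
  have hle : ⁅P, P⁆ ≤ E := by
    rw [Subgroup.commutator_le]
    intro x hx y hy
    refine ⟨Subgroup.commutator_eq_bot_iff_le_centralizer.mp (eF ▸ hcen)
      (Subgroup.commutator_mem_commutator hx hy),
      (OddLocal43.frattiniOf_le P) (hPP (Subgroup.commutator_mem_commutator hx hy)), ?_⟩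
    rw [← PGroup.commutatorElement_pow_left (hcl x hx y hy x hx), commutatorElement_eq_one_iff_mul_comm]
    have hxp : x ^ p ∈ Subgroup.centralizer (P : Set X) :=
      Subgroup.commutator_eq_bot_iff_le_centralizer.mp hcen (OddLocal43.pow_mem_frattiniOf hP hx)
    exact (Subgroup.mem_centralizer_iff.mp hxp y hy).symm
  exact (hle hz).2.2

end Cfsg.Agent.FG72
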