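import Mathlib
import Cfsg.Agent.Lib.Thompson.PSolvable
import Cfsg.Agent.Lib.Coprime.Action

/-!
`p`-complements of `p`-solvable groups.
-/

set_option autoImplicit false

namespace Cfsg.Agent.FG72

open Subgroup

variable {p : ℕ} [hp : Fact p.Prime]

/-- A subgroup of order prime to `p` and index a power of `p`. -/
def IsPCompl {G : Type*} [Group G] (p : ℕ) (H : Subgroup G) : Prop :=
  (Nat.card H).Coprime p ∧ ∃ n : ℕ, H.index = p ^ n

theorem exists_pow_of_dvd {a n : ℕ} (h : a ∣ p ^ n) : ∃ m : ℕ, a = p ^ m :=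
  let ⟨m, _, hm⟩ := (Nat.dvd_prime_pow hp.out).mp h
  ⟨m, hm⟩

universe u

theorem pComplement_aux (k : ℕ) : ∀ (G : Type u) [Group G] [Finite G], Nat.card G = k →
    Cfsg.IsPSolvable p G →
    (∃ C : Subgroup G, IsPCompl p C) ∧ ∀ C U : Subgroup G, IsPCompl p C →
      (Nat.card U).Coprime p → ∃ g : G, ∀ u ∈ U, g * u * g⁻¹ ∈ C := by
  induction k using Nat.strong_induction_on with
  | _ k ih =>
  intro G _ _ hk hG
  rcases subsingleton_or_nontrivial G with hs | hs
  · have h1 : ∀ K : Subgroup G, Nat.card K = 1 := fun K =>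
      Nat.card_eq_one_iff_unique.mpr ⟨inferInstance, inferInstance⟩
    refine ⟨⟨⊤, ?_, 0, by simp⟩, fun C U _ _ => ⟨1, fun u _ => ?_⟩⟩
    · rw [h1]; exact Nat.coprime_one_left p
    · rw [Subsingleton.elim (1 * u * 1⁻¹) 1]; exact one_mem C
  obtain ⟨N, hN, hne, hkind⟩ := Thompson.exists_minimal_step_of_isPSolvable hG
  haveI := hN
  have hlt : Nat.card (G ⧸ N) < k := by
    rw [← hk, Subgroup.card_eq_card_quotient_mul_card_subgroup N]
    exact lt_mul_of_one_lt_right Nat.card_pos ((one_lt_card_iff_ne_bot N).2 hne)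
  obtain ⟨⟨C₀, hC₀, n₀, hn₀⟩, hcont⟩ := ih _ hlt (G ⧸ N) rfl (Thompson.isPSolvable_quotient N hG)
  set L := C₀.comap (QuotientGroup.mk' N) with hL
  have hNL : N ≤ L := fun x hx => by
    show QuotientGroup.mk' N x ∈ C₀
    rw [QuotientGroup.mk'_apply, (QuotientGroup.eq_one_iff x).mpr hx]
    exact one_mem _
  have hLidx : L.index = p ^ n₀ := by
    rw [hL, index_comap_of_surjective _ (QuotientGroup.mk'_surjective N), hn₀]
  have hLcard : Nat.card L = Nat.card C₀ * Nat.card N := by
    have h1 := L.card_mul_index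
    rw [Subgroup.card_eq_card_quotient_mul_card_subgroup N, hLidx, ← C₀.card_mul_index, hn₀] at h1
    apply Nat.eq_of_mul_eq_mul_right (pow_pos hp.out.pos n₀)
    rw [h1]; ring
  refine ⟨?_, ?_⟩
  · rcases hkind with hpN | hpN
    · -- Schur–Zassenhaus
      obtain ⟨e, he⟩ := IsPGroup.iff_card.mp hpN
      have hcN : Nat.card (N.subgroupOf L) = Nat.card N :=
        Nat.card_congr (subgroupOfEquivOfLe hNL).toEquiv
      have hidx : (N.subgroupOf L).index = Nat.card C₀ := by
        have h1 := (N.subgroupOf L).card_mul_index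
        rw [hcN, hLcard, mul_comm] at h1
        exact Nat.eq_of_mul_eq_mul_right Nat.card_pos h1
      obtain ⟨C, hC⟩ := exists_right_complement'_of_coprime (N := N.subgroupOf L)
        (by rw [hcN, hidx, he]; exact (hC₀.pow_right e).symm)
      have hcC : Nat.card (C.map L.subtype) = Nat.card C₀ := by
        rw [card_map_of_injective L.subtype_injective]
        have h1 := hC.card_mul
        rw [hcN, hLcard, mul_comm] at h1
        exact Nat.eq_of_mul_eq_mul_right Nat.card_pos h1
      refine ⟨C.map L.subtype, hcC ▸ hC₀, e + n₀, ?_⟩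
      have h1 := (C.map L.subtype).card_mul_index
      rw [← L.card_mul_index, hcC, hLcard, hLidx, he, mul_assoc, ← pow_add] at h1
      exact Nat.eq_of_mul_eq_mul_left Nat.card_pos h1
    · exact ⟨L, hLcard ▸ Nat.Coprime.mul_left hC₀ hpN, n₀, hLidx⟩
  · intro C U ⟨hC, n, hn⟩ hU
    obtain ⟨g', hg'⟩ := hcont (C.map (QuotientGroup.mk' N)) (U.map (QuotientGroup.mk' N))
      ⟨hC.coprime_dvd_left (card_map_dvd _ _), exists_pow_of_dvd (hn ▸
        index_map_dvd _ (QuotientGroup.mk'_surjective N))⟩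
      (hU.coprime_dvd_left (card_map_dvd _ _))
    obtain ⟨g, rfl⟩ := QuotientGroup.mk'_surjective N g'
    have hle : U.map (MulAut.conj g).toMonoidHom ≤ N ⊔ C := by
      rintro _ ⟨u, hu, rfl⟩
      have h := hg' _ (mem_map_of_mem _ hu)
      rw [← map_inv, ← map_mul, ← map_mul] at h
      have h2 : g * u * g⁻¹ ∈ (C.map (QuotientGroup.mk' N)).comap (QuotientGroup.mk' N) := h
      rw [comap_map_eq, QuotientGroup.ker_mk', sup_comm] at h2
      exact h2
    rcases hkind with hpN | hpN
    · obtain ⟨e, he⟩ := IsPGroup.iff_card.mp hpN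
      haveI : Group.IsNilpotent N := hpN.isNilpotent
      obtain ⟨x, -, hx⟩ := Coprime.exists_conj_le_of_le_sup (U.map (MulAut.conj g).toMonoidHom) N C
        (by rw [normalizer_eq_top N]; exact le_top) (by rw [normalizer_eq_top N]; exact le_top)
        (by rw [he]; exact (hU.coprime_dvd_left (card_map_dvd _ _)).pow_right e)
        (Or.inr inferInstance) hle
      refine ⟨x * g, fun u hu => ?_⟩
      have := hx _ (mem_map_of_mem _ hu)
      simpa [mul_assoc] using this
    · have hNC : N ≤ C := by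
        have h1 : (Nat.card (C ⊔ N : Subgroup G)).Coprime p :=
          (hC.mul_left hpN).coprime_dvd_left (Thompson.card_sup_dvd_mul C N)
        have h2 : C.relIndex (C ⊔ N) ∣ p ^ n := hn ▸ relIndex_dvd_index_of_le le_sup_left
        have h3 : C.relIndex (C ⊔ N) = 1 := Nat.eq_one_of_dvd_coprimes (h1.pow_right n)
          (relIndex_dvd_card _ _) h2
        exact le_sup_right.trans (relIndex_eq_one.mp h3)
      exact ⟨g, fun u hu => (sup_le hNC le_rfl) (hle (mem_map_of_mem _ hu))⟩

theorem exists_pCompl {G : Type u} [Group G] [Finite G] (hG : Cfsg.IsPSolvable p G) :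
    ∃ C : Subgroup G, IsPCompl p C :=
  (pComplement_aux _ G rfl hG).1

theorem conj_le_pCompl {G : Type u} [Group G] [Finite G] (hG : Cfsg.IsPSolvable p G)
    {C U : Subgroup G} (hC : IsPCompl p C) (hU : (Nat.card U).Coprime p) :
    ∃ g : G, U.map (MulAut.conj g).toMonoidHom ≤ C := by
  obtain ⟨g, hg⟩ := (pComplement_aux _ G rfl hG).2 C U hC hU
  refine ⟨g, ?_⟩
  rintro _ ⟨u, hu, rfl⟩
  exact hg u hu

theorem pCompl_conj {G : Type u} [Group G] [Finite G] (hG : Cfsg.IsPSolvable p G)
    {C₁ C₂ : Subgroup G} (h₁ : IsPCompl p C₁) (h₂ : IsPCompl p C₂) :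
    ∃ g : G, C₂ = C₁.map (MulAut.conj g).toMonoidHom := by
  obtain ⟨g, hg⟩ := conj_le_pCompl hG h₂ h₁.1
  obtain ⟨g', hg'⟩ := conj_le_pCompl hG h₁ h₂.1
  refine ⟨g, (eq_of_le_of_card_ge hg ?_).symm⟩
  rw [card_map_of_injective (MulAut.conj g).injective]
  have := card_le_of_le hg'
  rwa [card_map_of_injective (MulAut.conj g').injective] at this

end Cfsg.Agent.FG72
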