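import Cfsg.Agent.FG72.BenderPair
import Cfsg.Agent.ConjFunctor.KInfConsequences
import Cfsg.Agent.Lib.Thompson.WSubgroup

/-!
Primitive pairs of characteristic `p` need nonabelian Sylow `2`-subgroups: the `K`-infinity
subgroup of any `p`-subgroup containing `O_p(M)` is the one of `O_p(M)` for a `p`-stable `M`.
-/

set_option autoImplicit false
set_option linter.style.haveILetI false

open scoped commutatorElement

namespace Cfsg.Agent.FG72

open Cfsg Cfsg.Agent.ConjFunctor Cfsg.Agent.BGUniq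

universe u

section One

variable {M : Type u} [Group M] [Finite M] {p : ℕ} [hp : Fact p.Prime]

/-- In a group with abelian Sylow two-subgroups no element acts quadratically and nontrivially on
a chief factor inside a `p`-subgroup. -/
theorem commutator_le_of_quadratic_abelian (hp2 : p ≠ 2)
    (hab : ∀ T : Sylow 2 M, IsMulCommutative T) {U V : Subgroup M} (h : IsChiefFactor U V)
    (hU : IsPGroup p U) {g : M}
    (h2 : ⁅⁅U, Subgroup.zpowers g⁆, Subgroup.zpowers g⁆ ≤ V) :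
    ⁅U, Subgroup.zpowers g⁆ ≤ V := by
  haveI := h.2.1
  haveI := h.2.2.1
  set f := QuotientGroup.mk' V with hf
  haveI : (U.map f).Normal := Subgroup.Normal.map h.2.1 _ (QuotientGroup.mk'_surjective V)
  have hea : IsElementaryAbelian p (U.map f) :=
    ⟨ChiefFactor.isMulCommutative_map h hU, fun x hx => ChiefFactor.pow_map_eq_one h hU hx⟩
  have habq : ∀ T : Sylow 2 (M ⧸ V), IsMulCommutative T := by
    intro T
    obtain ⟨S⟩ := (inferInstance : Nonempty (Sylow 2 M))
    obtain ⟨y, hy⟩ := MulAction.exists_smul_eq (M ⧸ V)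
      (S.mapSurjective (QuotientGroup.mk'_surjective V)) T
    refine ⟨⟨fun a b => Subtype.ext ?_⟩⟩
    have ha : (a : M ⧸ V) ∈ ((y • S.mapSurjective (QuotientGroup.mk'_surjective V) : Sylow 2 (M ⧸ V)) :
        Subgroup (M ⧸ V)) := by rw [hy]; exact a.2
    have hb : (b : M ⧸ V) ∈ ((y • S.mapSurjective (QuotientGroup.mk'_surjective V) : Sylow 2 (M ⧸ V)) :
        Subgroup (M ⧸ V)) := by rw [hy]; exact b.2
    obtain ⟨a', ha', hae⟩ := ha
    obtain ⟨b', hb', hbe⟩ := hb
    obtain ⟨a₀, ha₀, rfl⟩ := ha'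
    obtain ⟨b₀, hb₀, rfl⟩ := hb'
    show (a : M ⧸ V) * b = b * a
    have hcomm : f a₀ * f b₀ = f b₀ * f a₀ := by
      rw [← map_mul, ← map_mul,
        show a₀ * b₀ = b₀ * a₀ from congrArg Subtype.val ((hab S).is_comm.comm ⟨a₀, ha₀⟩ ⟨b₀, hb₀⟩)]
    rw [← hae, ← hbe]
    show MulAut.conj y (f a₀) * MulAut.conj y (f b₀) = MulAut.conj y (f b₀) * MulAut.conj y (f a₀)
    rw [← map_mul (MulAut.conj y), ← map_mul (MulAut.conj y), hcomm]
  have hst := (Thompson.isActionPStable_of_abelian_sylow_two hp2 habq).1 (U.map f) hea (f g) (by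
    rw [← MonoidHom.map_zpowers, ← Subgroup.map_commutator, ← Subgroup.map_commutator,
      Subgroup.map_eq_bot_iff, hf, QuotientGroup.ker_mk']
    exact h2)
  let π := (QuotientGroup.mk' (Subgroup.centralizer ((U.map f : Subgroup (M ⧸ V)) : Set (M ⧸ V)))).comp f
  haveI : ((pCore p _).comap π).Normal := (Thompson.instPCoreNormal).comap π
  refine (Subgroup.commutator_mono le_rfl (Subgroup.zpowers_le.2 (show g ∈ (pCore p _).comap π from hst))).trans
    (commutator_le_of_forall_pow h hU ?_)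
  intro x hx
  obtain ⟨k, hk⟩ := (Thompson.isPGroup_pCore (p := p)) ⟨π x, hx⟩
  refine ⟨k, ?_⟩
  have hk' : π (x ^ p ^ k) = 1 := by rw [map_pow]; exact congrArg Subtype.val hk
  exact (QuotientGroup.eq_one_iff (f (x ^ p ^ k))).1 hk'

/-- In a group of characteristic `p` with abelian Sylow two-subgroups, a `p`-subgroup containing
`O_p` has the same lower `K`-infinity subgroup as `O_p`. -/
theorem kInfLower_map_eq (hp2 : p ≠ 2) (hab : ∀ T : Sylow 2 M, IsMulCommutative T)
    (hC : Subgroup.centralizer (pCore p M : Set M) ≤ pCore p M) (S : Subgroup M)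
    (hQS : pCore p M ≤ S) :
    (kInfLower ↥S).map S.subtype = (kInfLower ↥(pCore p M)).map (pCore p M).subtype := by
  obtain ⟨A, hA, -⟩ := exists_crit (G := M) (p := p)
  have hno : ¬ ∃ g, KInfEngel.Good p S A g := by
    rintro ⟨g, -, -, -, -, hch⟩
    obtain ⟨U, V, h, hU, h2, h1⟩ := hch hC
    exact h1 (commutator_le_of_quadratic_abelian hp2 hab h (hA.isPGroup.to_le hU) h2)
  haveI := hA.normal
  have hf : Function.Injective S.subtype := S.subtype_injective
  have hAS : A ≤ S := hA.le.trans hQS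
  have hmapA : (A.subgroupOf S).map S.subtype = A := Subgroup.map_subgroupOf_eq_of_le hAS
  have hlow : ∀ n, A.subgroupOf S ∈ kLowerStarFamily (kSeqOdd ↥S n) := fun n => by
    by_contra hn
    rw [← KInf.map_mem_lower S.subtype hf, hmapA] at hn
    exact hno (KInfEngel.good_of_not_mem_lower hA (Subgroup.map_subtype_le _) hn)
  have heven : ∀ n, A.subgroupOf S ≤ kSeqOdd ↥S n →
      kSeqEven ↥S n ≤ (pCore p M).subgroupOf S := fun n hn => by
    refine sSup_le fun B hB => ?_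
    rw [Subgroup.subgroupOf, ← Subgroup.map_le_iff_le_comap]
    by_contra hBQ
    refine hno (KInfEngel.good_of_lower hA ?_ ((KInf.map_mem_lower S.subtype hf).2 hB)
      (Subgroup.map_subtype_le _) hBQ)
    rw [← hmapA]
    exact Subgroup.map_mono hn
  have hodd : ∀ n, A.subgroupOf S ≤ kSeqOdd ↥S n := by
    intro n
    induction n with
    | zero => exact le_top
    | succ n ih =>
      refine le_sSup ?_
      rw [← KInf.map_mem_upper S.subtype hf, hmapA]
      refine ⟨hA.classTwo, ?_⟩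
      rw [Subgroup.commutator_comm]
      refine (Subgroup.commutator_mono ?_ le_rfl).trans hA.comm
      rw [Subgroup.map_le_iff_le_comap]
      exact heven n ih
  have hall : ∀ n, kSeqEven ↥S n ≤ (Subgroup.inclusion hQS).range ∧
      kSeqOdd ↥S (n + 1) ≤ (Subgroup.inclusion hQS).range := fun n => by
    rw [Subgroup.inclusion_range]
    refine ⟨heven n (hodd n), sSup_le fun B hB => ?_⟩
    rw [Subgroup.subgroupOf, ← Subgroup.map_le_iff_le_comap]
    by_contra hBQ
    refine hno (KInfEngel.good_of_upper hA ?_ ((KInf.map_mem_upper S.subtype hf).2 hB)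
      (Subgroup.map_subtype_le _) hBQ)
    rw [← hmapA]
    exact Subgroup.map_mono (le_sSup (hlow n))
  obtain ⟨h1, -⟩ := KInf.map_kInf (Subgroup.inclusion hQS) (Subgroup.inclusion_injective hQS) hall
  rw [← h1, Subgroup.map_map]
  rfl

end One

theorem kInfLower_map_equiv {X Y : Type u} [Group X] [Group Y] (φ : X ≃* Y) :
    (kInfLower X).map φ.toMonoidHom = kInfLower Y :=
  (KInf.map_kInf φ.toMonoidHom φ.injective fun n => by
    rw [MonoidHom.range_eq_top_of_surjective φ.toMonoidHom φ.surjective]; exact ⟨le_top, le_top⟩).1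

instance kInfLower_characteristic (X : Type u) [Group X] : (kInfLower X).Characteristic :=
  Subgroup.characteristic_iff_map_eq.mpr fun φ => kInfLower_map_equiv φ

variable {G : Type u} [Group G] [Finite G] {p : ℕ} [hp : Fact p.Prime]

theorem map_kInfLower_subgroupOf (S M : Subgroup G) (hSM : S ≤ M) :
    ((kInfLower ↥(S.subgroupOf M)).map (S.subgroupOf M).subtype).map M.subtype =
      (kInfLower ↥S).map S.subtype := by
  rw [← kInfLower_map_equiv (Subgroup.subgroupOfEquivOfLe hSM), Subgroup.map_map, Subgroup.map_map]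
  rfl

theorem kInf_normal_of_pair (hp2 : p ≠ 2) (M S : Subgroup G) (hSM : S ≤ M)
    (hQS : core p M ≤ S) (hab : ∀ T : Sylow 2 ↥M, IsMulCommutative T)
    (hC : Subgroup.centralizer (Cfsg.pCore p ↥M : Set ↥M) ≤ Cfsg.pCore p ↥M) :
    M ≤ Subgroup.normalizer (((kInfLower ↥S).map S.subtype : Subgroup G) : Set G) := by
  have hQS' : Cfsg.pCore p ↥M ≤ S.subgroupOf M := fun x hx => hQS ⟨x, hx, rfl⟩
  have h := kInfLower_map_eq hp2 hab hC (S.subgroupOf M) hQS'
  have h' := congrArg (Subgroup.map M.subtype) h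
  rw [map_kInfLower_subgroupOf S M hSM] at h'
  rw [h']
  haveI : (Cfsg.pCore p ↥M).Normal := Fitting.pCore_normal p
  haveI : ((kInfLower ↥(Cfsg.pCore p ↥M)).map (Cfsg.pCore p ↥M).subtype).Normal :=
    Fitting.normal_map_subtype_of_characteristic _
  intro x hx
  exact ((kInfLower ↥(Cfsg.pCore p ↥M)).map (Cfsg.pCore p ↥M).subtype).le_normalizer_map M.subtype
    ⟨⟨x, hx⟩, by rw [Subgroup.normalizer_eq_top]; trivial, rfl⟩

theorem two_pair_core_le (M₁ M₂ : Subgroup G)
    (hc₁ : Subgroup.centralizer (Cfsg.pCore 2 ↥M₁ : Set ↥M₁) ≤ Cfsg.pCore 2 ↥M₁)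
    (hab : ∀ T : Sylow 2 ↥M₁, IsMulCommutative T) (hQ₂ : core 2 M₂ ≤ M₁) :
    core 2 M₂ ≤ core 2 M₁ := by
  set Q := (core 2 M₂).subgroupOf M₁ with hQ
  have hQp : IsPGroup 2 Q := (isPGroup_core 2 M₂).of_injective
    (Subgroup.subgroupOfEquivOfLe hQ₂).toMonoidHom (MulEquiv.injective _)
  obtain ⟨T, hT⟩ := hQp.exists_le_sylow
  have hTc : (T : Subgroup M₁) ≤ Cfsg.pCore 2 ↥M₁ := by
    refine le_trans (fun x hx => Subgroup.mem_centralizer_iff.mpr fun c hc => ?_) hc₁
    exact congrArg Subtype.val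
      ((hab T).is_comm.comm ⟨c, Thompson.pCore_le_sylow T hc⟩ ⟨x, hx⟩)
  exact le_of_eq_of_le (Subgroup.map_subgroupOf_eq_of_le hQ₂).symm (Subgroup.map_mono (hT.trans hTc))

theorem nonabelian_sylow_two_of_pair (M₁ M₂ : Subgroup G) (hne : M₁ ≠ M₂) (hP : IsPrimPair M₁ M₂)
    (hc₁ : Subgroup.centralizer (Cfsg.pCore p ↥M₁ : Set ↥M₁) ≤ Cfsg.pCore p ↥M₁)
    (hc₂ : Subgroup.centralizer (Cfsg.pCore p ↥M₂ : Set ↥M₂) ≤ Cfsg.pCore p ↥M₂)
    (hO : (Cfsg.pCore p ↥M₁).map M₁.subtype ⊔ (Cfsg.pCore p ↥M₂).map M₂.subtype ≤ M₁ ⊓ M₂) :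
    (∃ S : Sylow 2 ↥M₁, ¬ IsMulCommutative (S : Subgroup ↥M₁)) ∨
      (∃ S : Sylow 2 ↥M₂, ¬ IsMulCommutative (S : Subgroup ↥M₂)) := by
  by_contra hcon
  push Not at hcon
  obtain ⟨ha₁, ha₂⟩ := hcon
  have hQ₁ : core p M₁ ≤ M₁ ⊓ M₂ := le_sup_left.trans hO
  have hQ₂ : core p M₂ ≤ M₁ ⊓ M₂ := le_sup_right.trans hO
  have hbot : ∀ (M : Subgroup G), Subgroup.centralizer (Cfsg.pCore p ↥M : Set ↥M) ≤ Cfsg.pCore p ↥M →
      core p M = ⊥ → M = ⊥ := by
    intro M hc h
    refine (Subgroup.eq_bot_iff_forall _).mpr fun x hx => ?_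
    have h' : Cfsg.pCore p ↥M = ⊥ := (Subgroup.map_eq_bot_iff_of_injective _ M.subtype_injective).mp h
    rw [h'] at hc
    have : (⟨x, hx⟩ : M) ∈ (⊥ : Subgroup M) := hc (Subgroup.mem_centralizer_iff.mpr fun y hy => by
      rw [Subgroup.mem_bot.mp hy]; simp)
    exact congrArg Subtype.val (Subgroup.mem_bot.mp this)
  set S := core p M₁ ⊔ core p M₂ with hS
  have hS0 : S ≠ ⊥ := by
    intro h
    obtain ⟨h1, h2⟩ := sup_eq_bot_iff.mp h
    exact hne ((hbot M₁ hc₁ h1).trans (hbot M₂ hc₂ h2).symm)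
  have hSD : S ≤ M₁ ⊓ M₂ := sup_le hQ₁ hQ₂
  by_cases hp2 : p = 2
  · subst hp2
    have e : core 2 M₁ = core 2 M₂ := le_antisymm
      (two_pair_core_le M₂ M₁ hc₂ ha₂ (hQ₁.trans inf_le_right))
      (two_pair_core_le M₁ M₂ hc₁ ha₁ (hQ₂.trans inf_le_left))
    have hne0 : core 2 M₁ ≠ ⊥ := fun h => hS0 (by rw [hS, ← e, h, sup_bot_eq])
    exact hne (hP.eq_of_normal_both hne0 hQ₁ (le_normalizer_core 2 M₁) (e ▸ le_normalizer_core 2 M₂))
  have hSp : IsPGroup p S := IsPGroup.to_sup_of_normal_right' (isPGroup_core p M₁) (isPGroup_core p M₂)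
    (hQ₁.trans (inf_le_right.trans (le_normalizer_core p M₂)))
  have hK0 : (kInfLower ↥S).map S.subtype ≠ ⊥ := by
    rw [Ne, Subgroup.map_eq_bot_iff_of_injective _ S.subtype_injective]
    intro h
    haveI := (Subgroup.nontrivial_iff_ne_bot S).mpr hS0
    haveI := hSp.center_nontrivial
    exact (Subgroup.nontrivial_iff_ne_bot _).1 this (le_bot_iff.1 (h ▸ (KInf.center_le_kInf hSp).1))
  exact hne (hP.eq_of_normal_both hK0 ((Subgroup.map_subtype_le _).trans hSD)
    (kInf_normal_of_pair hp2 M₁ S (hSD.trans inf_le_left) le_sup_left ha₁ hc₁)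
    (kInf_normal_of_pair hp2 M₂ S (hSD.trans inf_le_right) le_sup_right ha₂ hc₂))

end Cfsg.Agent.FG72
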