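import Cfsg.Agent.Lib.Components.GenFitting
import Cfsg.Agent.FG72.ChiefFitting
import Cfsg.Agent.Lib.Coprime.Action
import Cfsg.Agent.S3748

/-!
Primitive subgroups meeting the generalized Fitting subgroup of a normal subgroup.
-/

set_option autoImplicit false

namespace Cfsg.Agent.FG72

open Cfsg.Agent.Components

variable {G : Type*} [Group G] [Finite G]

theorem primitive_meets_generalizedFitting (M : Subgroup G) (hM : M ≠ ⊤)
    (hprim : ∀ N : Subgroup G, N ≤ M → M ≤ Subgroup.normalizer (N : Set G) → N ≠ ⊥ →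
      Subgroup.normalizer (N : Set G) = M)
    (N : Subgroup G) [N.Normal]
    (hMF : M ⊓ (Cfsg.generalizedFittingSubgroup ↥N).map N.subtype ≠ ⊥) :
    Cfsg.fittingSubgroup G = ⊥ ∧
      (Cfsg.generalizedFittingSubgroup ↥N).map N.subtype = Cfsg.generalizedFittingSubgroup G ∧
      Cfsg.generalizedFittingSubgroup G = Cfsg.layer G ∧
      ∀ K : Subgroup G, K.Normal → K ≠ ⊥ →
        (∀ K' : Subgroup G, K'.Normal → K' ≤ K → K' = ⊥ ∨ K' = K) → K ≤ N := by
  obtain ⟨hsub, hMFit⟩ := S3748.primitive_aux M hM hprim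
  set S := (Cfsg.generalizedFittingSubgroup ↥N).map N.subtype with hS
  haveI : S.Normal := Fitting.normal_map_subtype_of_characteristic _
  set X := M ⊓ S with hX
  have hXn : M ≤ Subgroup.normalizer (X : Set G) :=
    Coprime.le_normalizer_inf Subgroup.le_normalizer
      (by rw [Subgroup.normalizer_eq_top_iff.mpr inferInstance]; exact le_top)
  have hNX := hprim X inf_le_left hXn hMF
  -- a normal subgroup centralizing a nontrivial normal subgroup of `M` inside `S` is trivial
  have hcent : ∀ K : Subgroup G, K.Normal → K ≤ Subgroup.centralizer (X : Set G) → K = ⊥ := by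
    intro K hK hle
    refine hsub K hK.isSubnormal ?_
    rw [← hNX]
    exact hle.trans (Subgroup.centralizer_le_normalizer _)
  have hC : Subgroup.centralizer (S : Set G) = ⊥ :=
    hcent _ inferInstance (Subgroup.centralizer_le (SetLike.coe_subset_coe.mpr inf_le_right))
  have hmin : ∀ K : Subgroup G, K.Normal → K ≠ ⊥ →
      (∀ K' : Subgroup G, K'.Normal → K' ≤ K → K' = ⊥ ∨ K' = K) → K ≤ S := by
    intro K hK hne hm
    haveI := hK
    rcases hm (K ⊓ S) inferInstance inf_le_left with h | h
    · exfalso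
      refine hne (le_bot_iff.mp (le_of_le_of_eq ?_ hC))
      rw [← Subgroup.commutator_eq_bot_iff_le_centralizer, eq_bot_iff, ← h]
      exact Subgroup.commutator_le_inf K S
    · exact h ▸ inf_le_right
  have hF : Cfsg.fittingSubgroup G = ⊥ := by
    by_contra hne
    haveI : (Cfsg.fittingSubgroup G).Normal := Fitting.fitting_normal
    obtain ⟨K, ⟨hK, hKne, hKF⟩, hKmin⟩ := Set.Finite.exists_minimal
      (Set.toFinite {K : Subgroup G | K.Normal ∧ K ≠ ⊥ ∧ K ≤ Cfsg.fittingSubgroup G})
      ⟨_, inferInstance, hne, le_rfl⟩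
    haveI := hK
    have hm : ∀ K' : Subgroup G, K'.Normal → K' ≤ K → K' = ⊥ ∨ K' = K := by
      intro K' hK' hle
      rcases eq_or_ne K' ⊥ with h | h
      · exact Or.inl h
      · exact Or.inr (le_antisymm hle (hKmin ⟨hK', h, hle.trans hKF⟩ hle))
    have h1 : ⁅K, Cfsg.fittingSubgroup G⁆ ≤ ⊥ :=
      commutator_le_of_isNilpotent K ⊥ _ Fitting.fitting_isNilpotent (bot_lt_iff_ne_bot.mpr hKne)
        fun W hW _ hle => hm W hW hle
    have h2 : Cfsg.fittingSubgroup G ≤ Subgroup.centralizer (K : Set G) :=
      Subgroup.le_centralizer_iff.mp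
        (Subgroup.commutator_eq_bot_iff_le_centralizer.mp (le_bot_iff.mp h1))
    have h3 : Cfsg.layer G ≤ Subgroup.centralizer (K : Set G) :=
      (Subgroup.le_centralizer_iff.mp (hKF.trans fitting_le_centralizer_layer))
    have h4 : Cfsg.generalizedFittingSubgroup G ≤ Subgroup.centralizer (K : Set G) := sup_le h3 h2
    have h5 : S ≤ Cfsg.generalizedFittingSubgroup G :=
      map_generalizedFitting_isSubnormal_le (Subgroup.Normal.isSubnormal (H := N) inferInstance)
    exact hKne (hcent K hK (Subgroup.le_centralizer_iff.mp ((inf_le_right.trans h5).trans h4)))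
  have hFstar : Cfsg.generalizedFittingSubgroup G = Cfsg.layer G := by
    rw [Cfsg.generalizedFittingSubgroup, hF, sup_bot_eq]
  refine ⟨hF, le_antisymm (map_generalizedFitting_isSubnormal_le (Subgroup.Normal.isSubnormal (H := N) inferInstance))
    ?_, hFstar, fun K hK hne hm => (hmin K hK hne hm).trans (Subgroup.map_subtype_le _)⟩
  rw [hFstar, layer_le_iff]
  intro L hL
  rcases component_le_or_commutator_eq_bot_of_normal hL S with h | h
  · exact h
  · exact absurd (le_bot_iff.mp (le_of_le_of_eq (Subgroup.commutator_eq_bot_iff_le_centralizer.mp h) hC))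
      (component_ne_bot hL)

end Cfsg.Agent.FG72
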