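import Cfsg.Agent.FG72.SquareSum
import Cfsg.Agent.FG72.MinimalAction
import Mathlib.GroupTheory.GroupAction.Basic

/-!
A two-variable quadratic bound: a 2-group with central Klein four `W` containing all squares and all
involutions has `[U : W] ≤ 16`; free actions; small helpers.
-/

set_option autoImplicit false

namespace Cfsg.Agent.FG72

open scoped commutatorElement

variable {G : Type*} [Group G]

/-- `|U| ≤ 64`: two quadratic forms in five or more variables have a common zero. -/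
theorem card_le_of_central_four [Finite G] {k : ℕ} (hk : Nat.card G = 2 ^ k) (W : Subgroup G)
    (hW : W ≤ Subgroup.center G) (hW4 : Nat.card W = 4) (hW2 : ∀ w ∈ W, w ^ 2 = 1)
    (hsq : ∀ x : G, x ^ 2 ∈ W) (hinv : ∀ x : G, x ^ 2 = 1 → x ∈ W) : k ≤ 6 := by
  classical
  letI : Fintype G := Fintype.ofFinite G
  by_contra hk7
  set T : Finset G := (Finset.univ.filter (· ∈ W)).erase 1 with hT
  have hW4' : (Finset.univ.filter (· ∈ W)).card = 4 := by
    rw [← Fintype.card_subtype, ← Nat.card_eq_fintype_card]; exact hW4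
  have hTcard : T.card = 3 := by
    rw [hT, Finset.card_erase_of_mem (by simp), hW4']
  have hmemT : ∀ w ∈ T, w ∈ W ∧ w ≠ 1 := by
    intro w hw; simp [T] at hw; exact ⟨hw.2, hw.1⟩
  have hzp : ∀ w ∈ T, ∀ a, a ∈ Subgroup.zpowers w ↔ a = 1 ∨ a = w := by
    intro w hw a
    have ho : orderOf w = 2 := orderOf_eq_prime (hW2 w (hmemT w hw).1) (hmemT w hw).2
    constructor
    · intro h
      rw [mem_zpowers_iff_mem_range_orderOf, ho] at h
      simp [Finset.mem_image] at h
      obtain ⟨i, hi, rfl⟩ := h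
      interval_cases i <;> simp
    · rintro (rfl | rfl)
      · exact one_mem _
      · exact Subgroup.mem_zpowers _
  have hind : ∀ w ∈ T, (Subgroup.zpowers w).relIndex W = 2 := by
    intro w hw
    have h := Subgroup.relIndex_mul_relIndex (⊥ : Subgroup G) (Subgroup.zpowers w) W bot_le
      (Subgroup.zpowers_le.mpr (hmemT w hw).1)
    rw [Subgroup.relIndex_bot_left, Subgroup.relIndex_bot_left, Nat.card_zpowers,
      orderOf_eq_prime (hW2 w (hmemT w hw).1) (hmemT w hw).2, hW4] at h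
    omega
  have hpt : ∀ x : G, 1 + ∑ w ∈ T, signOf (Subgroup.zpowers w) (x ^ 2) =
      if x ^ 2 = 1 then (4 : ℤ) else 0 := by
    intro x
    split_ifs with hx
    · rw [Finset.sum_congr rfl (fun w _ => (signOf_eq_one_iff _ _).mpr (hx ▸ one_mem _)),
        Finset.sum_const, hTcard]
      norm_num
    · have haT : x ^ 2 ∈ T := by simp [T, hx, hsq x]
      rw [← Finset.add_sum_erase T _ haT, (signOf_eq_one_iff _ _).mpr (Subgroup.mem_zpowers _),
        Finset.sum_congr rfl (g := fun _ => (-1 : ℤ)) (fun w hw => ?_), Finset.sum_const,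
        Finset.card_erase_of_mem haT, hTcard]
      · norm_num
      · simp only [Finset.mem_erase] at hw
        simp only [signOf, hzp w hw.2]
        rw [if_neg (not_or.mpr ⟨hx, Ne.symm hw.1⟩)]
  have hinvol : (Finset.univ.filter fun x : G => x ^ 2 = 1) = Finset.univ.filter (· ∈ W) := by
    ext x
    simp only [Finset.mem_filter, Finset.mem_univ, true_and]
    exact ⟨hinv x, hW2 x⟩
  have htot : (2 : ℤ) ^ k + ∑ w ∈ T, ∑ x : G, signOf (Subgroup.zpowers w) (x ^ 2) = 16 := by
    rw [Finset.sum_comm, show ((2 : ℤ) ^ k) = ∑ _x : G, (1 : ℤ) by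
      simp [← Nat.card_eq_fintype_card, hk], ← Finset.sum_add_distrib,
      Finset.sum_congr rfl (fun x _ => hpt x), Finset.sum_ite, Finset.sum_const, Finset.sum_const,
      hinvol, hW4']
    norm_num
  have h32 : ∀ w ∈ T, (32 : ℤ) ∣ ∑ x : G, signOf (Subgroup.zpowers w) (x ^ 2) := by
    intro w hw
    obtain ⟨R, hR, hS⟩ := sq_sum_dichotomy (hind w hw) hW hsq
    rcases hS with h0 | h0
    · rw [h0]; exact dvd_zero _
    have hWR : W ≤ R := fun u hu => (hR u).mpr fun x => by
      have : ⁅u, x⁆ = 1 :=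
        commutatorElement_eq_one_iff_mul_comm.mpr ((Subgroup.mem_center_iff.mp (hW hu) x).symm)
      rw [this]; exact one_mem _
    have hdvd : (2 : ℤ) ^ 9 ∣ (∑ x : G, signOf (Subgroup.zpowers w) (x ^ 2)) ^ 2 := by
      rw [h0]
      have h4 : 4 ∣ Nat.card R := hW4 ▸ Subgroup.card_dvd_of_le hWR
      have h9 : 2 ^ 9 ∣ Nat.card G * Nat.card R := by
        rw [hk]
        exact (show 2 ^ 9 = 2 ^ 7 * 4 by norm_num) ▸
          Nat.mul_dvd_mul (pow_dvd_pow 2 (by omega)) h4
      exact_mod_cast Int.natCast_dvd_natCast.mpr h9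
    set S := ∑ x : G, signOf (Subgroup.zpowers w) (x ^ 2)
    have hn : 2 ^ 9 ∣ S.natAbs ^ 2 := by
      have := Int.natAbs_dvd_natAbs.mpr hdvd
      simpa [Int.natAbs_pow] using this
    rw [show (32 : ℤ) = ((32 : ℕ) : ℤ) from rfl, Int.natCast_dvd]
    rcases Nat.eq_zero_or_pos S.natAbs with hz | hpos
    · rw [hz]; exact dvd_zero _
    have h9 : 9 ≤ (S.natAbs ^ 2).factorization 2 :=
      (Nat.Prime.pow_dvd_iff_le_factorization Nat.prime_two (pow_pos hpos 2).ne').mp hn
    rw [Nat.factorization_pow, Finsupp.smul_apply, smul_eq_mul] at h9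
    exact (show (32 : ℕ) = 2 ^ 5 by norm_num) ▸
      (Nat.Prime.pow_dvd_iff_le_factorization Nat.prime_two hpos.ne').mpr (by omega)
  have h16 : (32 : ℤ) ∣ 16 := by
    rw [← htot]
    refine dvd_add ?_ (Finset.dvd_sum h32)
    exact (show (32 : ℤ) = 2 ^ 5 by norm_num) ▸ pow_dvd_pow (2 : ℤ) (by omega)
  exact absurd h16 (by decide)

/-- A free action has orbit length equal to the order of the group. -/
theorem card_dvd_of_free {H Ω : Type*} [Group H] [MulAction H Ω] [Finite Ω] [Finite H]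
    (hfree : ∀ (h : H) (x : Ω), h • x = x → h = 1) : Nat.card H ∣ Nat.card Ω := by
  classical
  letI := Fintype.ofFinite (MulAction.orbitRel.Quotient H Ω)
  rw [Nat.card_congr (MulAction.selfEquivSigmaOrbitsQuotientStabilizer H Ω), Nat.card_sigma]
  refine Finset.dvd_sum fun ω _ => ?_
  have : MulAction.stabilizer H ω.out = ⊥ :=
    (Subgroup.eq_bot_iff_forall _).mpr fun h hh => hfree h _ hh
  show _ ∣ (MulAction.stabilizer H ω.out).index
  rw [this, Subgroup.index_bot]

/-- Adjoining a central involution to an elementary abelian group. -/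
theorem sup_zpowers_elementary (W : Subgroup G) (hWc : IsMulCommutative W)
    (hW2 : ∀ w ∈ W, w ^ 2 = 1) {x : G} (hx : x ^ 2 = 1) (hcx : ∀ w ∈ W, w * x = x * w) :
    IsMulCommutative ↥(W ⊔ Subgroup.zpowers x) ∧ ∀ a ∈ W ⊔ Subgroup.zpowers x, a ^ 2 = 1 := by
  have hgen : W ⊔ Subgroup.zpowers x = Subgroup.closure ((W : Set G) ∪ {x}) := by
    rw [Subgroup.closure_union, Subgroup.closure_eq, Subgroup.zpowers_eq_closure]
  have hc : IsMulCommutative ↥(W ⊔ Subgroup.zpowers x) := by
    rw [hgen]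
    refine Subgroup.isMulCommutative_closure ?_
    rintro a (ha | ha) b (hb | hb)
    · exact congrArg Subtype.val (mul_comm' (⟨a, ha⟩ : W) ⟨b, hb⟩)
    · rw [Set.mem_singleton_iff.mp hb]; exact hcx a ha
    · rw [Set.mem_singleton_iff.mp ha]; exact (hcx b hb).symm
    · rw [Set.mem_singleton_iff.mp ha, Set.mem_singleton_iff.mp hb]
  refine ⟨hc, fun a ha => ?_⟩
  have hn : Subgroup.zpowers x ≤ Subgroup.normalizer (W : Set G) := by
    refine (Subgroup.zpowers_le.mpr ?_).trans (Subgroup.centralizer_le_normalizer _)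
    exact Subgroup.mem_centralizer_iff.mpr hcx
  obtain ⟨w, hw, y, hy, rfl⟩ := Coprime.exists_mul_of_mem_sup hn ha
  have hwy : Commute w y := congrArg Subtype.val
    (mul_comm' (⟨w, le_sup_left (a := W) hw⟩ : ↥(W ⊔ Subgroup.zpowers x)) ⟨y, le_sup_right (a := W) hy⟩)
  obtain ⟨i, rfl⟩ := Subgroup.mem_zpowers_iff.mp hy
  rw [hwy.mul_pow, hW2 w hw, one_mul, ← zpow_natCast, ← zpow_mul, mul_comm, zpow_mul, zpow_natCast,
    hx, one_zpow]

/-- If all elementary abelian 2-subgroups of `P` have order at most four and `W ≤ P` has order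
four, every involution of `P` centralizing `W` lies in `W`. -/
theorem mem_of_rank_two [Finite G] (P W : Subgroup G) (hWP : W ≤ P) (hWc : IsMulCommutative W)
    (hW2 : ∀ w ∈ W, w ^ 2 = 1) (hW4 : Nat.card W = 4)
    (hrank : ∀ V : Subgroup G, V ≤ P → IsMulCommutative V → (∀ a ∈ V, a ^ 2 = 1) → Nat.card V ≤ 4)
    {x : G} (hxP : x ∈ P) (hx : x ^ 2 = 1) (hcx : ∀ w ∈ W, w * x = x * w) : x ∈ W := by
  obtain ⟨h1, h2⟩ := sup_zpowers_elementary W hWc hW2 hx hcx
  have hle := hrank _ (sup_le hWP (Subgroup.zpowers_le.mpr hxP)) h1 h2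
  have heq : W = W ⊔ Subgroup.zpowers x :=
    Subgroup.eq_of_le_of_card_ge le_sup_left (by rw [hW4]; exact hle)
  rw [heq]
  exact Subgroup.mem_sup_right (Subgroup.mem_zpowers x)

end Cfsg.Agent.FG72
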