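import Mathlib

/-!
Generators of `SL₂(3)` and its quaternion subgroup.
-/

set_option autoImplicit false
set_option maxRecDepth 4000

namespace Cfsg.Agent.FG72.SL2Three

open Matrix

local notation "G₃" => Matrix.SpecialLinearGroup (Fin 2) (ZMod 3)

/-- The upper unitriangular generator. -/
def T : G₃ := ⟨!![1, 1; 0, 1], by decide⟩

/-- The generator of order four. -/
def J : G₃ := ⟨!![0, -1; 1, 0], by decide⟩

/-- The second generator of the quaternion subgroup. -/
def K : G₃ := ⟨!![1, 1; 1, -1], by decide⟩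

theorem coe_pow₃ (g : G₃) (n : ℕ) : (g ^ n).1 = g.1 ^ n := by
  induction n with
  | zero => rfl
  | succ n ih =>
    rw [pow_succ, pow_succ, ← ih]
    rfl

/-- The map onto the quaternion subgroup. -/
def quatFun : QuaternionGroup 2 → G₃
  | .a i => J ^ i.val
  | .xa i => K * J ^ i.val

set_option maxHeartbeats 2000000 in
theorem quatFun_mul : ∀ u v : QuaternionGroup 2, quatFun (u * v) = quatFun u * quatFun v := by
  decide +kernel

/-- The embedding of the quaternion group. -/
def quat : QuaternionGroup 2 →* G₃ where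
  toFun := quatFun
  map_one' := rfl
  map_mul' := quatFun_mul

theorem quat_injective : Function.Injective quat := by
  show ∀ u v, quatFun u = quatFun v → u = v
  decide +kernel

theorem quat_pow_four : ∀ u : QuaternionGroup 2, quatFun u ^ 4 = 1 := by decide +kernel

theorem mem_range_quat_entries : ∀ a b c d : ZMod 3, a * d - b * c = 1 →
    (!![a, b; c, d] : Matrix (Fin 2) (Fin 2) (ZMod 3)) ^ 4 = 1 →
    ∃ u : QuaternionGroup 2, (quatFun u).1 = !![a, b; c, d] := by
  decide +kernel

theorem mem_range_quat_iff (g : G₃) : g ∈ quat.range ↔ g ^ 4 = 1 := by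
  refine ⟨?_, fun h => ?_⟩
  · rintro ⟨u, rfl⟩
    exact quat_pow_four u
  · obtain ⟨M, hM⟩ := g
    have hd : M 0 0 * M 1 1 - M 0 1 * M 1 0 = 1 := by rw [← det_fin_two]; exact hM
    have h4 : M ^ 4 = 1 := by
      exact (coe_pow₃ ⟨M, hM⟩ 4).symm.trans (congrArg Subtype.val h)
    rw [eta_fin_two M] at h4
    obtain ⟨u, hu⟩ := mem_range_quat_entries _ _ _ _ hd h4
    exact ⟨u, Subtype.ext (hu.trans (eta_fin_two M).symm)⟩

theorem exists_word : ∀ a b c d : ZMod 3, a * d - b * c = 1 →
    ∃ (i j : Fin 3) (k : Fin 4),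
      (T ^ (i : ℕ) * J ^ (k : ℕ) * T ^ (j : ℕ)).1 = !![a, b; c, d] := by
  decide +kernel

theorem closure_T_J : Subgroup.closure ({T, J} : Set G₃) = ⊤ := by
  refine eq_top_iff.mpr fun g _ => ?_
  obtain ⟨M, hM⟩ := g
  have hd : M 0 0 * M 1 1 - M 0 1 * M 1 0 = 1 := by rw [← det_fin_two]; exact hM
  obtain ⟨i, j, k, e⟩ := exists_word _ _ _ _ hd
  have e' : (⟨M, hM⟩ : G₃) = T ^ (i : ℕ) * J ^ (k : ℕ) * T ^ (j : ℕ) :=
    Subtype.ext ((eta_fin_two M).trans e.symm)
  rw [e']
  have hT : T ∈ Subgroup.closure ({T, J} : Set G₃) := Subgroup.subset_closure (by simp)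
  have hJ : J ∈ Subgroup.closure ({T, J} : Set G₃) := Subgroup.subset_closure (by simp)
  exact mul_mem (mul_mem (pow_mem hT _) (pow_mem hJ _)) (pow_mem hT _)

end Cfsg.Agent.FG72.SL2Three
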