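import Cfsg.Agent.FG72.SL2Quaternion
import Cfsg.Agent.FG72.SL2Three

/-!
A `p`-element of `SL₂` acting nontrivially on a `p'`-subgroup generates `SL₂(3)` with it.
-/

set_option autoImplicit false

namespace Cfsg.Agent.FG72.SL2

open Matrix OddLocal43
open scoped commutatorElement

local notation "G₃" => Matrix.SpecialLinearGroup (Fin 2) (ZMod 3)

section Anti

variable {F : Type*} [Field F]

local notation "M₂" => Matrix (Fin 2) (Fin 2) F
local notation "SL₂" => Matrix.SpecialLinearGroup (Fin 2) F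

theorem commute_of_coe_neg_one {ε : SL₂} (hε : (ε : M₂) = -1) (u : SL₂) : Commute ε u :=
  central_of_eq_one_or_neg_one (Or.inr hε) u

theorem sq_of_coe_neg_one {ε : SL₂} (hε : (ε : M₂) = -1) : ε * ε = 1 :=
  ext' (by rw [coe_mul', hε, coe_one']; simp)

theorem eq_of_pm {ε g : SL₂} (hε : (ε : M₂) = -1) (h : (g : M₂) = 1 ∨ (g : M₂) = -1) :
    g = 1 ∨ g = ε :=
  h.imp (fun h => ext' (h.trans coe_one'.symm)) fun h => ext' (h.trans hε.symm)

theorem pm_of_eq {ε g : SL₂} (hε : (ε : M₂) = -1) (h : g = 1 ∨ g = ε) :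
    (g : M₂) = 1 ∨ (g : M₂) = -1 := by
  rcases h with rfl | rfl
  · exact Or.inl coe_one'
  · exact Or.inr hε

/-- Equality up to the sign `ε`. -/
def Sim (ε u v : SL₂) : Prop := u = v ∨ u = ε * v

theorem Sim.symm {ε u v : SL₂} (hε : (ε : M₂) = -1) (h : Sim ε u v) : Sim ε v u := by
  rcases h with rfl | rfl
  · exact Or.inl rfl
  · exact Or.inr (by rw [← mul_assoc, sq_of_coe_neg_one hε, one_mul])

theorem Sim.trans {ε u v w : SL₂} (hε : (ε : M₂) = -1) (h : Sim ε u v) (h' : Sim ε v w) :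
    Sim ε u w := by
  rcases h with rfl | rfl <;> rcases h' with rfl | rfl
  · exact Or.inl rfl
  · exact Or.inr rfl
  · exact Or.inr rfl
  · exact Or.inl (by rw [← mul_assoc, sq_of_coe_neg_one hε, one_mul])

theorem Sim.conj {ε u v : SL₂} (hε : (ε : M₂) = -1) (g : SL₂) (h : Sim ε u v) :
    Sim ε (g * u * g⁻¹) (g * v * g⁻¹) := by
  rcases h with rfl | rfl
  · exact Or.inl rfl
  · refine Or.inr ?_
    rw [← mul_assoc g ε v, ← (commute_of_coe_neg_one hε g).eq]
    simp only [mul_assoc]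

theorem Sim.commute {ε u v : SL₂} (hε : (ε : M₂) = -1) (h : Sim ε u v) : Commute u v := by
  rcases h with rfl | rfl
  · exact Commute.refl _
  · exact (commute_of_coe_neg_one hε v).mul_left (Commute.refl v)

theorem commute_conj_iff (g u v : SL₂) :
    Commute (g * u * g⁻¹) (g * v * g⁻¹) ↔ Commute u v := by
  simp only [commute_iff_eq]
  constructor <;> intro h
  · have := congrArg (fun w => g⁻¹ * w * g) h
    simpa [mul_assoc] using this
  · calc g * u * g⁻¹ * (g * v * g⁻¹) = g * (u * v) * g⁻¹ := by group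
      _ = g * (v * u) * g⁻¹ := by rw [h]
      _ = g * v * g⁻¹ * (g * u * g⁻¹) := by group

theorem commute_inv_mul {g h u : SL₂} (he : g * u * g⁻¹ = h * u * h⁻¹) :
    Commute (h⁻¹ * g) u := by
  have h1 : g * u = h * u * h⁻¹ * g := by rw [← he]; group
  calc h⁻¹ * g * u = h⁻¹ * (h * u * h⁻¹ * g) := by rw [mul_assoc, h1]
    _ = u * (h⁻¹ * g) := by group

/-- Elements inducing sign changes on an anticommuting pair lie in the quaternion group. -/
theorem sim_word {ε x y : SL₂} (h2 : (2 : F) ≠ 0) (hε : (ε : M₂) = -1) (hxy : x * y = ε * (y * x)) (hne : ¬ Commute x y)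
    {g : SL₂} (hg : ∀ w : SL₂, Commute w x → Commute w y → IsScalarMat (w : M₂))
    (hx : Sim ε (g * x * g⁻¹) x) (hy : Sim ε (g * y * g⁻¹) y) :
    ∃ h, (h = 1 ∨ h = x ∨ h = y ∨ h = x * y) ∧ Sim ε g h := by
  have hc := commute_of_coe_neg_one hε
  have hee := sq_of_coe_neg_one hε
  have hyx : y * x = ε * (x * y) := by rw [hxy, ← mul_assoc, hee, one_mul]
  have exx : x * x * x⁻¹ = x := by group
  have eyy : y * y * y⁻¹ = y := by group
  have exy : x * y * x⁻¹ = ε * y := by rw [hxy]; group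
  have eyx : y * x * y⁻¹ = ε * x := by rw [hyx]; group
  have ezx : x * y * x * (x * y)⁻¹ = ε * x := by
    calc x * y * x * (x * y)⁻¹ = x * (y * x * y⁻¹) * x⁻¹ := by group
      _ = ε * x := by rw [eyx, ← mul_assoc x ε x, ← (hc x).eq]; group
  have ezy : x * y * y * (x * y)⁻¹ = ε * y := by
    calc x * y * y * (x * y)⁻¹ = x * y * x⁻¹ := by group
      _ = ε * y := exy
  have key : ∀ h : SL₂, g * x * g⁻¹ = h * x * h⁻¹ → g * y * g⁻¹ = h * y * h⁻¹ → Sim ε g h := by
    intro h h1 h3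
    have hs := hg _ (commute_inv_mul h1) (commute_inv_mul h3)
    rcases eq_of_pm hε (eq_one_or_neg_one_of_sq h2 (sq_eq_one_of_isScalarMat hs)) with e | e
    · exact Or.inl (inv_mul_eq_one.mp e).symm
    · exact Or.inr (by rw [(inv_mul_eq_iff_eq_mul.mp e), (hc h).eq])
  rcases hx with hx | hx <;> rcases hy with hy | hy
  · exact ⟨1, Or.inl rfl, key 1 (by simpa using hx) (by simpa using hy)⟩
  · exact ⟨x, Or.inr (Or.inl rfl), key x (hx.trans exx.symm) (hy.trans exy.symm)⟩
  · exact ⟨y, Or.inr (Or.inr (Or.inl rfl)), key y (hx.trans eyx.symm) (hy.trans eyy.symm)⟩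
  · exact ⟨x * y, Or.inr (Or.inr (Or.inr rfl)), key _ (hx.trans ezx.symm) (hy.trans ezy.symm)⟩

end Anti

theorem perm_three_eq_one : ∀ σ τ : Equiv.Perm (Fin 3), σ * σ = 1 →
    (∀ i, τ (i + 1) = σ i + 1) → (σ * τ) * (σ * τ) = 1 → σ = 1 := by
  decide +kernel

theorem perm_three_sq_of_two_pow {σ : Equiv.Perm (Fin 3)} {k : ℕ} (h : σ ^ 2 ^ k = 1) :
    σ * σ = 1 := by
  have h6 : orderOf σ ∣ 6 := by
    have := orderOf_dvd_natCard σ
    rwa [Nat.card_eq_fintype_card, Fintype.card_perm, Fintype.card_fin] at this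
  have hk := orderOf_dvd_of_pow_eq_one h
  have : orderOf σ ∣ 2 := by
    have h3 : (orderOf σ).Coprime 3 :=
      Nat.Coprime.coprime_dvd_left hk (Nat.Coprime.pow_left k (by decide))
    exact h3.dvd_of_dvd_mul_right h6
  rw [← sq]
  exact orderOf_dvd_iff_pow_eq_one.mp this

end Cfsg.Agent.FG72.SL2
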