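import Cfsg.Agent.FG72.SL2Action

/-!
A `p`-element of `SL₂` acting nontrivially on a `p'`-subgroup: the main theorem.
-/

set_option autoImplicit false
set_option maxHeartbeats 800000

namespace Cfsg.Agent.FG72.SL2

open Matrix OddLocal43
open scoped commutatorElement Pointwise

local notation "G₃" => Matrix.SpecialLinearGroup (Fin 2) (ZMod 3)

variable {F : Type*} [Field F] [Finite F] {p : ℕ} [Fact p.Prime] [CharP F p]

local notation "M₂" => Matrix (Fin 2) (Fin 2) F
local notation "SL₂" => Matrix.SpecialLinearGroup (Fin 2) F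

theorem orderOf_coprime {R : Subgroup SL₂} (hR : (Nat.card R).Coprime p) {r : SL₂} (hr : r ∈ R) :
    (orderOf r).Coprime p :=
  hR.coprime_dvd_left (Subgroup.orderOf_dvd_natCard R hr)

theorem card_zpowers_eq {a : SL₂} (hap : a ^ p = 1) (ha1 : a ≠ 1) :
    Nat.card (Subgroup.zpowers a) = p := by
  rw [Nat.card_zpowers]
  exact orderOf_eq_prime hap ha1

/-- The subgroup normalized by the `p`-element is a two-group. -/
theorem isPGroup_two {a : SL₂} {R : Subgroup SL₂} (hp : p ≠ 2) (hR : (Nat.card R).Coprime p)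
    (haR : a ∈ Subgroup.normalizer (R : Set SL₂))
    (hu : ((a : M₂) - 1) * ((a : M₂) - 1) = 0) (hap : a ^ p = 1) (ha1 : a ≠ 1) :
    IsPGroup 2 R := by
  have hA : Subgroup.zpowers a ≤ Subgroup.normalizer (R : Set SL₂) := Subgroup.zpowers_le.mpr haR
  have hcop : (Nat.card (Subgroup.zpowers a)).Coprime (Nat.card R) := by
    rw [card_zpowers_eq hap ha1]; exact hR.symm
  have key : ∀ q : ℕ, q.Prime → q ∣ Nat.card R → q = 2 := by
    intro q hq hdvd
    by_contra hq2
    haveI := Fact.mk hq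
    haveI : Fact (IsPGroup p (Subgroup.zpowers a)) :=
      ⟨IsPGroup.of_card (n := 1) (by rw [card_zpowers_eq hap ha1, pow_one])⟩
    obtain ⟨P, hP⟩ := Coprime.exists_invariant_sylow (Subgroup.zpowers a) R hA hcop
      (Or.inl (Coprime.isSolvable_of_isNilpotent' (Fact.out (p := IsPGroup p (Subgroup.zpowers a))).isNilpotent)) q
    have hQ : IsPGroup q ((P : Subgroup R).map R.subtype) := P.isPGroup'.map R.subtype
    refine P.ne_bot_of_dvd_card hdvd ((Subgroup.eq_bot_iff_forall _).mpr fun x hx => ?_)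
    have hxQ : (x : SL₂) ∈ (P : Subgroup R).map R.subtype := ⟨x, hx, rfl⟩
    have hax : a * (x : SL₂) * a⁻¹ ∈ (P : Subgroup R).map R.subtype :=
      Coprime.conj_mem_of_mem_normalizer (hP (Subgroup.mem_zpowers a)) hxQ
    have hc := commute_of_commute_conj hp hap (orderOf_coprime hR x.2)
      (commute_of_odd_pGroup (two_ne_zero' hp) hq2 hQ hxQ hax)
    have hpm := commute_unipotent hp hu ha1 (orderOf_coprime hR x.2) hc
    have hx2 : x ^ 2 = 1 := by
      apply Subtype.ext
      rw [Subgroup.coe_pow, Subgroup.coe_one]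
      apply ext'
      rw [coe_pow']
      rcases hpm with h | h <;> rw [h] <;> simp [coe_one']
    obtain ⟨k, hk⟩ := P.isPGroup' ⟨x, hx⟩
    have hk' : x ^ q ^ k = 1 := congrArg Subtype.val hk
    have hco : (2 : ℕ).Coprime (q ^ k) :=
      ((Nat.coprime_primes Nat.prime_two hq).mpr (Ne.symm hq2)).pow_right k
    exact orderOf_eq_one_iff.mp (Nat.eq_one_of_dvd_coprimes hco (orderOf_dvd_of_pow_eq_one hx2)
      (orderOf_dvd_of_pow_eq_one hk'))
  exact IsPGroup.of_card (Nat.eq_prime_pow_of_unique_prime_dvd Nat.card_pos.ne'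
    fun {d} hd hdvd => key d hd hdvd)

/-- An anticommuting pair of a minimal nontrivially moved two-subgroup. -/
theorem exists_minimal_quaternion {a : SL₂} {R : Subgroup SL₂} (hp : p ≠ 2) (hR : (Nat.card R).Coprime p) (h2R : IsPGroup 2 R)
    (hA : Subgroup.zpowers a ≤ Subgroup.normalizer (R : Set SL₂))
    (hu : ((a : M₂) - 1) * ((a : M₂) - 1) = 0) (hap : a ^ p = 1) (ha1 : a ≠ 1)
    (hnt : ⁅R, Subgroup.zpowers a⁆ ≠ ⊥) :
    ∃ (R₀ : Subgroup SL₂) (ε x : SL₂), R₀ ≤ R ∧ x ∈ R₀ ∧
      Subgroup.zpowers a ≤ Subgroup.normalizer (R₀ : Set SL₂) ∧ (ε : M₂) = -1 ∧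
      x * x = ε ∧ ¬ Commute a x ∧
      (∀ g ∈ R₀, g = 1 ∨ g = ε ∨ g * g = ε) ∧
      (∀ g ∈ R₀, ∀ h ∈ R₀, ¬ Commute g h → g * h = ε * (h * g)) := by
  set A := Subgroup.zpowers a with hAdef
  have h2 : (2 : F) ≠ 0 := two_ne_zero' hp
  obtain ⟨R₀, ⟨hle, hnorm, hnt₀⟩, hmin⟩ := Set.Finite.exists_minimal
    (Set.toFinite {U : Subgroup SL₂ | U ≤ R ∧ A ≤ Subgroup.normalizer (U : Set SL₂) ∧ ⁅U, A⁆ ≠ ⊥})
    ⟨R, le_rfl, hA, hnt⟩
  have hP : IsPGroup 2 R₀ := h2R.to_le hle
  obtain ⟨-, hF, hC, -, -⟩ := minimal_action (p := 2) A A R₀ hP hnorm le_rfl Subgroup.le_normalizer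
    (by rw [hAdef, card_zpowers_eq hap ha1]
        exact (Nat.coprime_primes Fact.out Nat.prime_two).mpr hp)
    hnt₀ (fun U hU hUn => by
      by_contra hne
      exact hU.not_ge (hmin ⟨hU.le.trans hle, hUn, hne⟩ hU.le))
  have hZ : ∀ z ∈ ⁅R₀, R₀⁆, (z : M₂) = 1 ∨ (z : M₂) = -1 := by
    intro z hz
    rw [← hC] at hz
    exact commute_unipotent hp hu ha1 (orderOf_coprime hR (hle hz.1))
      (Subgroup.mem_centralizer_iff.mp hz.2 a (Subgroup.mem_zpowers a))
  obtain ⟨x, hx, hxc⟩ : ∃ x ∈ R₀, ¬ Commute a x := by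
    by_contra hh
    push Not at hh
    exact hnt₀ (Subgroup.commutator_eq_bot_iff_le_centralizer.mpr fun r hr =>
      Subgroup.mem_centralizer_iff.mpr fun b hb => by
        obtain ⟨k, rfl⟩ := Subgroup.mem_zpowers_iff.mp hb
        exact ((hh r hr).zpow_left k).eq)
  have hsq : ∀ g ∈ R₀, ((g ^ 2 : SL₂) : M₂) = 1 ∨ ((g ^ 2 : SL₂) : M₂) = -1 := fun g hg =>
    hZ _ (hF ▸ pow_mem_frattiniOf hP hg)
  have hx2 : ((x * x : SL₂) : M₂) = -1 := by
    rw [← sq]
    refine (hsq x hx).resolve_left fun h => hxc ?_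
    exact (central_of_eq_one_or_neg_one
      (eq_one_or_neg_one_of_sq h2 (ext' (h.trans coe_one'.symm))) a).symm
  refine ⟨R₀, x * x, x, hle, hx, hnorm, hx2, rfl, hxc, fun g hg => ?_, fun g hg h hh hgh => ?_⟩
  · rcases eq_of_pm hx2 (hsq g hg) with h' | h'
    · rcases eq_of_pm hx2 (eq_one_or_neg_one_of_sq h2 h') with e | e
      · exact Or.inl e
      · exact Or.inr (Or.inl e)
    · exact Or.inr (Or.inr (by rw [← sq, h']))
  · rcases eq_of_pm hx2 (hZ _ (Subgroup.commutator_mem_commutator hg hh)) with e | e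
    · exact absurd (commutatorElement_eq_one_iff_commute.mp e) hgh
    · rw [← e, commutatorElement_def]
      group

theorem quaternion_and_sl_three {a : SL₂} {R : Subgroup SL₂} (hp : p ≠ 2) (ha : IsPGroup p (Subgroup.zpowers a))
    (hR : (Nat.card R).Coprime p) (haR : a ∈ Subgroup.normalizer (R : Set SL₂))
    (hnt : ⁅R, Subgroup.zpowers a⁆ ≠ ⊥) :
    p = 3 ∧ Nonempty (R ≃* QuaternionGroup 2) ∧
      Nonempty (↥(R ⊔ Subgroup.zpowers a) ≃* G₃) := by
  classical
  obtain ⟨k, hk⟩ := ha ⟨a, Subgroup.mem_zpowers a⟩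
  obtain ⟨hu, hap⟩ := unipotent_of_pElement (p := p) (congrArg Subtype.val hk)
  have ha1 : a ≠ 1 := by
    rintro rfl
    simp [Subgroup.zpowers_one_eq_bot, Subgroup.commutator_bot_right] at hnt
  have h2 : (2 : F) ≠ 0 := two_ne_zero' hp
  have hA : Subgroup.zpowers a ≤ Subgroup.normalizer (R : Set SL₂) := Subgroup.zpowers_le.mpr haR
  have h2R := isPGroup_two hp hR haR hu hap ha1
  obtain ⟨R₀, ε, x, hle, hx, hnorm, hε, hxx, hxc, hcls, hanti⟩ :=
    exists_minimal_quaternion hp hR h2R hA hu hap ha1 hnt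
  have hεR : ε ∈ R₀ := hxx ▸ mul_mem hx hx
  have hcε := commute_of_coe_neg_one hε
  have hconj : ∀ g ∈ R₀, a * g * a⁻¹ ∈ R₀ := fun g hg =>
    Coprime.conj_mem_of_mem_normalizer (hnorm (Subgroup.mem_zpowers a)) hg
  have hpow2 : (a * a) ^ p = 1 := by rw [← sq, ← pow_mul, mul_comm, pow_mul, hap, one_pow]
  have hodd : Odd p := (Fact.out : p.Prime).odd_of_ne_two hp
  -- the three classes
  set e : Fin 3 → SL₂ := ![x, a * x * a⁻¹, a * (a * x * a⁻¹) * a⁻¹] with he
  have he0 : e 0 = x := rfl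
  have he1 : e 1 = a * x * a⁻¹ := rfl
  have he2 : e 2 = a * (a * x * a⁻¹) * a⁻¹ := rfl
  have n01 : ¬ Commute (e 0) (e 1) := fun h =>
    hxc (commute_of_commute_conj hp hap (orderOf_coprime hR (hle hx)) h)
  have n12 : ¬ Commute (e 1) (e 2) := fun h => n01 ((commute_conj_iff a _ _).mp h)
  have n02 : ¬ Commute (e 0) (e 2) := by
    intro h
    have h' : Commute (a * a) x := commute_of_commute_conj hp hpow2 (orderOf_coprime hR (hle hx))
      (by rw [show a * a * x * (a * a)⁻¹ = a * (a * x * a⁻¹) * a⁻¹ by group]; exact h)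
    obtain ⟨m, hm⟩ := hodd
    have : a = (a * a) ^ (m + 1) := by
      rw [← sq, ← pow_mul, show 2 * (m + 1) = p + 1 by omega, pow_succ, hap, one_mul]
    exact hxc (this ▸ h'.pow_left (m + 1))
  have heR : ∀ i, e i ∈ R₀ := by
    intro i
    fin_cases i
    · exact hx
    · exact hconj _ hx
    · exact hconj _ (hconj _ hx)
  have hee : ∀ i j, i ≠ j → ¬ Commute (e i) (e j) := by
    intro i j hij
    fin_cases i <;> fin_cases j <;> first
      | exact absurd rfl hij | exact n01 | exact n12 | exact n02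
      | exact fun h => n01 h.symm | exact fun h => n12 h.symm | exact fun h => n02 h.symm
  have hne1 : ∀ i, e i ≠ 1 ∧ e i ≠ ε := by
    intro i
    have hsucc : ∀ j : Fin 3, j ≠ j + 1 := by decide
    constructor <;> intro h <;> refine hee i (i + 1) (hsucc i) ?_ <;> rw [h]
    · exact Commute.one_left _
    · exact hcε _
  have hxy : e 0 * e 1 = ε * (e 1 * e 0) := hanti _ (heR 0) _ (heR 1) n01
  have hscal : ∀ w : SL₂, Commute w (e 0) → Commute w (e 1) → IsScalarMat (w : M₂) := by
    intro w hw0 hw1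
    by_contra hns
    exact n01 (ext' (commute_of_commute_nonscalar hns (congrArg Subtype.val hw0.eq)
      (congrArg Subtype.val hw1.eq)))
  have hclass : ∀ g ∈ R₀, g ≠ 1 → g ≠ ε → ∃ i, Sim ε g (e i) := by
    have hsim : ∀ g ∈ R₀, g = 1 ∨ g = ε ∨ Sim ε g (e 0) ∨ Sim ε g (e 1) ∨
        Sim ε g (e 0 * e 1) := by
      intro g hg
      have hs : ∀ i, Sim ε (g * e i * g⁻¹) (e i) := fun i => by
        by_cases hc : Commute g (e i)
        · exact Or.inl (by rw [hc.eq]; group)
        · exact Or.inr (by rw [hanti g hg _ (heR i) hc]; group)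
      obtain ⟨h, hh, hgh⟩ := sim_word h2 hε hxy n01 hscal (hs 0) (hs 1)
      rcases hh with rfl | rfl | rfl | rfl
      · rcases hgh with h' | h'
        · exact Or.inl h'
        · exact Or.inr (Or.inl (h'.trans (mul_one ε)))
      · exact Or.inr (Or.inr (Or.inl hgh))
      · exact Or.inr (Or.inr (Or.inr (Or.inl hgh)))
      · exact Or.inr (Or.inr (Or.inr (Or.inr hgh)))
    have hz : Sim ε (e 0 * e 1) (e 2) := by
      rcases hsim _ (heR 2) with h | h | h | h | h
      · exact absurd h (hne1 2).1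
      · exact absurd h (hne1 2).2
      · exact absurd ((h.commute hε).symm) n02
      · exact absurd ((h.commute hε).symm) n12
      · exact h.symm hε
    intro g hg hg1 hgε
    rcases hsim g hg with h | h | h | h | h
    · exact absurd h hg1
    · exact absurd h hgε
    · exact ⟨0, h⟩
    · exact ⟨1, h⟩
    · exact ⟨2, h.trans hε hz⟩
  have hcyc : ∀ i, Sim ε (a * e i * a⁻¹) (e (i + 1)) := by
    intro i
    fin_cases i
    · exact Or.inl rfl
    · exact Or.inl rfl
    · have hm := hconj _ (heR 2)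
      obtain ⟨j, hj⟩ := hclass _ hm
        (fun h => (hne1 2).1 (conj_eq_one_iff.mp h))
        (fun h => (hne1 2).2 (mul_left_cancel (mul_right_cancel
          (h.trans (show ε = a * ε * a⁻¹ by rw [← (hcε a).eq]; group)))))
      fin_cases j
      · exact hj
      · exact absurd ((commute_conj_iff a _ _).mp ((hj.commute hε) : Commute (a * e 2 * a⁻¹) (a * e 0 * a⁻¹))) (fun h => n02 h.symm)
      · exact absurd ((commute_conj_iff a _ _).mp ((hj.commute hε) : Commute (a * e 2 * a⁻¹) (a * e 1 * a⁻¹))) (fun h => n12 h.symm)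
  -- `p = 3`
  have hp3 : p = 3 := by
    by_contra hne
    have h3 : Sim ε (a ^ 3 * x * (a ^ 3)⁻¹) x := by
      have := hcyc 2
      rw [he2, show (2 : Fin 3) + 1 = 0 from rfl, he0] at this
      rw [show a ^ 3 * x * (a ^ 3)⁻¹ = a * (a * (a * x * a⁻¹) * a⁻¹) * a⁻¹ by
        rw [pow_succ, pow_succ, pow_one]; group]
      exact this
    have hc3 : Commute (a ^ 3) x := commute_of_commute_conj hp
      (by rw [← pow_mul, mul_comm, pow_mul, hap, one_pow]) (orderOf_coprime hR (hle hx))
      (h3.commute hε).symm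
    have hco : (orderOf a).Coprime 3 := by
      rw [orderOf_eq_prime hap ha1]
      exact (Nat.coprime_primes Fact.out Nat.prime_three).mpr hne
    obtain ⟨m, hm⟩ := exists_pow_eq_self_of_coprime hco.symm
    exact hxc (hm ▸ hc3.pow_left m)
  subst hp3
  -- `R = R₀`
  have hRR : R = R₀ := by
    refine le_antisymm ?_ hle
    set T := R ⊓ Subgroup.normalizer (R₀ : Set SL₂) with hT
    have hex : ∀ g : T, ∀ i, ∃ j, Sim ε ((g : SL₂) * e i * (g : SL₂)⁻¹) (e j) := fun g i =>
      hclass _ (Coprime.conj_mem_of_mem_normalizer g.2.2 (heR i))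
        (fun h => (hne1 i).1 (conj_eq_one_iff.mp h))
        (fun h => (hne1 i).2 (mul_left_cancel (mul_right_cancel
          (h.trans (show ε = (g : SL₂) * ε * (g : SL₂)⁻¹ by rw [← (hcε (g : SL₂)).eq]; group)))))
    choose P hPspec using hex
    have huniq : ∀ (u : SL₂) i j, Sim ε u (e i) → Sim ε u (e j) → i = j := by
      intro u i j h h'
      by_contra hij
      exact hee i j hij (((h.symm hε).trans hε h').commute hε)
    have hmul : ∀ (g h : T) i, P (g * h) i = P g (P h i) := fun g h i =>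
      huniq _ _ _ (hPspec (g * h) i) (by
        have := ((hPspec h i).conj hε (g : SL₂)).trans hε (hPspec g (P h i))
        rwa [Subgroup.coe_mul, show (g : SL₂) * h * e i * ((g : SL₂) * h)⁻¹
          = (g : SL₂) * ((h : SL₂) * e i * (h : SL₂)⁻¹) * (g : SL₂)⁻¹ by group])
    have hone : ∀ i, P 1 i = i := fun i => huniq _ _ _ (hPspec 1 i) (Or.inl (by simp))
    let ρ : T →* Equiv.Perm (Fin 3) :=
      MonoidHom.mk' (fun g => ⟨P g, P g⁻¹,
          fun i => by rw [← hmul, inv_mul_cancel, hone],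
          fun i => by rw [← hmul, mul_inv_cancel, hone]⟩)
        (fun g h => Equiv.ext fun i => hmul g h i)
    have haT : ∀ g : T, a * (g : SL₂) * a⁻¹ ∈ T := fun g =>
      Coprime.conj_mem_of_mem_normalizer
        (Coprime.le_normalizer_inf hA (Coprime.le_normalizer_normalizer hnorm)
          (Subgroup.mem_zpowers a)) g.2
    have hsq : ∀ g : T, ρ g * ρ g = 1 := by
      intro g
      obtain ⟨m, hm⟩ := h2R ⟨g, g.2.1⟩
      refine perm_three_sq_of_two_pow (k := m) ?_
      rw [← map_pow, show g ^ 2 ^ m = 1 from Subtype.ext (congrArg Subtype.val hm :)]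
      exact map_one ρ
    have hker : ∀ g : T, ρ g = 1 := by
      intro g
      refine perm_three_eq_one (ρ g) (ρ ⟨_, haT g⟩) (hsq g) (fun i => ?_) (by rw [← map_mul]; exact hsq _)
      show P ⟨_, haT g⟩ (i + 1) = P g i + 1
      refine huniq (a * (g : SL₂) * a⁻¹ * e (i + 1) * (a * (g : SL₂) * a⁻¹)⁻¹) _ _
        (hPspec ⟨_, haT g⟩ (i + 1)) ?_
      refine (((hcyc i).symm hε).conj hε (a * (g : SL₂) * a⁻¹)).trans hε ?_
      rw [show a * (g : SL₂) * a⁻¹ * (a * e i * a⁻¹) * (a * (g : SL₂) * a⁻¹)⁻¹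
        = a * ((g : SL₂) * e i * (g : SL₂)⁻¹) * a⁻¹ by group]
      exact ((hPspec g i).conj hε a).trans hε (hcyc _)
    have hTle : T ≤ R₀ := by
      intro g hg
      have hfix : ∀ i, Sim ε (g * e i * g⁻¹) (e i) := by
        intro i
        have h1 : P ⟨g, hg⟩ i = i := congrArg (fun σ : Equiv.Perm (Fin 3) => σ i) (hker ⟨g, hg⟩)
        have h2 := hPspec ⟨g, hg⟩ i
        rw [h1] at h2
        exact h2
      obtain ⟨h, hh, hgh⟩ := sim_word h2 hε hxy n01 hscal (hfix 0) (hfix 1)
      have hhR : h ∈ R₀ := by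
        rcases hh with rfl | rfl | rfl | rfl
        exacts [one_mem _, heR 0, heR 1, mul_mem (heR 0) (heR 1)]
      rcases hgh with rfl | rfl
      exacts [hhR, mul_mem hεR hhR]
    by_contra hnle
    haveI : Group.IsNilpotent R := h2R.isNilpotent
    have hlt := Group.normalizerCondition_of_isNilpotent (R₀.subgroupOf R)
      (lt_top_iff_ne_top.mpr fun h => hnle (Subgroup.subgroupOf_eq_top.mp h))
    obtain ⟨g, hg, hg'⟩ := SetLike.exists_of_lt hlt
    refine hg' (hTle (Subgroup.mem_inf.mpr ⟨g.2, ?_⟩))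
    rw [← Subgroup.subgroupOf_normalizer_eq hle] at hg
    exact hg
  subst hRR
  -- conjugate into `SL₂(3)`
  obtain ⟨i₀, hi₀⟩ : ∃ i, ((a : M₂) - 1) 0 i ≠ 0 ∨ ((a : M₂) - 1) 1 i ≠ 0 := by
    by_contra hh
    push Not at hh
    refine ha1 (ext' (sub_eq_zero.mp ?_))
    ext r c
    fin_cases r
    exacts [(hh c).1, (hh c).2]
  set n := (a : M₂) - 1 with hn
  set v : Fin 2 → F := ![n 0 i₀, n 1 i₀] with hv
  have hv0 : v ≠ 0 := by
    intro h
    exact hi₀.elim (fun h' => h' (by simpa [v] using congrFun h 0))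
      (fun h' => h' (by simpa [v] using congrFun h 1))
  have hnv : n.mulVec v = 0 := by
    funext r
    have := congrFun (congrFun hu r) i₀
    fin_cases r <;> simpa [Matrix.mulVec, dotProduct, Fin.sum_univ_two, Matrix.mul_apply, v] using this
  have hav : (a : M₂).mulVec v = v := by
    have : (a : M₂) = n + 1 := by rw [hn]; abel
    rw [this, Matrix.add_mulVec, hnv, Matrix.one_mulVec, zero_add]
  set X := (x : M₂) with hX
  have hXX : X * X = -1 := by rw [hX, ← coe_mul', hxx, hε]
  have hdet : (Char2x2.basisMat X (n 0 i₀) (n 1 i₀)).det ≠ 0 := by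
    intro hd
    obtain ⟨w, hw, hw0⟩ := Matrix.exists_mulVec_eq_zero_iff.mpr hd
    have hcomb : w 0 • v + w 1 • X.mulVec v = 0 := by
      rw [← hw0]
      funext r
      fin_cases r <;>
        simp [Char2x2.basisMat, Matrix.mulVec, dotProduct, Fin.sum_univ_two, v] <;> ring
    have hw1 : w 1 ≠ 0 := by
      intro h1
      rw [h1, zero_smul, add_zero] at hcomb
      rcases smul_eq_zero.mp hcomb with h | h
      · exact hw (funext fun r => by fin_cases r; exacts [h, h1])
      · exact hv0 h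
    obtain ⟨c, hc⟩ : ∃ c : F, X.mulVec v = c • v := by
      refine ⟨-(w 0) / w 1, ?_⟩
      calc X.mulVec v = (w 1)⁻¹ • (w 1 • X.mulVec v) := by
            rw [smul_smul, inv_mul_cancel₀ hw1, one_smul]
        _ = (-(w 0) / w 1) • v := by
            rw [eq_neg_of_add_eq_zero_right hcomb, ← neg_smul, smul_smul]; congr 1; ring
    have hainv : ((a⁻¹ : SL₂) : M₂).mulVec v = v := by
      conv_lhs => rw [← hav]
      rw [Matrix.mulVec_mulVec, ← coe_mul', inv_mul_cancel, coe_one', Matrix.one_mulVec]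
    have hy : ((e 1 : SL₂) : M₂).mulVec v = c • v := by
      rw [he1, coe_mul', coe_mul', ← Matrix.mulVec_mulVec, ← Matrix.mulVec_mulVec, hainv, ← hX, hc,
        Matrix.mulVec_smul, hav]
    have hl := congrArg (fun M : SL₂ => (M : M₂).mulVec v) hxy
    simp only [coe_mul', ← Matrix.mulVec_mulVec] at hl
    rw [he0, ← hX, hy, hc, hε, Matrix.mulVec_smul, hc, Matrix.mulVec_smul, Matrix.mulVec_smul, hy,
      Matrix.neg_mulVec, Matrix.one_mulVec, smul_smul, smul_neg, smul_smul] at hl
    have hcc : (c * c + c * c) • v = 0 := by rw [add_smul]; nth_rw 1 [hl]; exact neg_add_cancel _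
    have hc0 : c = 0 := by
      have := (smul_eq_zero.mp hcc).resolve_right hv0
      have h' : (2 : F) * (c * c) = 0 := by linear_combination this
      exact mul_self_eq_zero.mp ((mul_eq_zero.mp h').resolve_left h2)
    have := congrArg (fun M : M₂ => M.mulVec v) hXX
    simp only [← Matrix.mulVec_mulVec] at this
    rw [hc, hc0, zero_smul, Matrix.mulVec_zero, Matrix.neg_mulVec, Matrix.one_mulVec] at this
    exact hv0 (neg_eq_zero.mp this.symm)
  set B := Char2x2.basisMat X (n 0 i₀) (n 1 i₀) with hB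
  have hBu : IsUnit B.det := Ne.isUnit hdet
  let ψ : SL₂ →* SL₂ :=
    MonoidHom.mk' (fun g => ⟨B⁻¹ * g * B, by
        rw [det_mul, det_mul, g.det_coe, mul_one, det_nonsing_inv, Ring.inverse_mul_cancel _ hBu]⟩)
      (fun g h => ext' (show B⁻¹ * (g * h : SL₂) * B = (B⁻¹ * g * B) * (B⁻¹ * h * B) by
        rw [coe_mul']; simp only [mul_assoc, mul_nonsing_inv_cancel_left _ _ hBu]))
  have hψ : Function.Injective ψ := by
    intro g h e'
    have h1 : B⁻¹ * (g : M₂) * B = B⁻¹ * (h : M₂) * B := congrArg Subtype.val e'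
    have h3 := congrArg (fun M : M₂ => B * M * B⁻¹) h1
    simp only [mul_assoc, mul_nonsing_inv _ hBu, mul_one,
      mul_nonsing_inv_cancel_left _ _ hBu] at h3
    exact ext' h3
  have hXt : X.trace = 0 := by
    have h1 := sq_eq_smul_sub X
    rw [hXX, show X.det = 1 from x.det_coe, one_smul, eq_sub_iff_add_eq, neg_add_cancel] at h1
    rcases smul_eq_zero.mp h1.symm with h | h
    · exact h
    · exact absurd (congrArg Matrix.det h) (by rw [show X.det = 1 from x.det_coe]; simp)
  have hJ : B⁻¹ * X * B = !![0, -1; 1, 0] := by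
    rw [mul_assoc, hB, Char2x2.mul_basisMat, ← hB, ← mul_assoc, nonsing_inv_mul _ hBu, one_mul,
      hXt, show X.det = 1 from x.det_coe]
    rfl
  set D := B⁻¹ * n * B with hD
  have hD0 : ∀ r, D r 0 = 0 := by
    intro r
    have h1 : ∀ s, (n * B) s 0 = 0 := fun s => by
      have := congrFun hnv s
      fin_cases s <;>
        simpa [Matrix.mul_apply, Matrix.mulVec, dotProduct, Fin.sum_univ_two, Char2x2.basisMat, hB, v]
          using this
    rw [hD, mul_assoc, Matrix.mul_apply]
    simp [h1]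
  have hD1 : D 1 1 = 0 := by
    have h1 : D * D = 0 := by
      rw [hD, show B⁻¹ * n * B * (B⁻¹ * n * B) = B⁻¹ * (n * n) * B by
        simp only [mul_assoc, mul_nonsing_inv_cancel_left _ _ hBu], hu]
      simp
    have := congrFun (congrFun h1 1) 1
    simpa [Matrix.mul_apply, Fin.sum_univ_two, hD0 1] using this
  set t := D 0 1 with ht
  have hDt : D = !![0, t; 0, 0] := by
    ext r c
    fin_cases r <;> fin_cases c <;> simp [hD0 0, hD0 1, hD1, ← ht]
  have hTψ : ((ψ a : SL₂) : M₂) = !![1, t; 0, 1] := by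
    show B⁻¹ * (a : M₂) * B = _
    rw [show (a : M₂) = n + 1 by rw [hn]; abel, mul_add, add_mul, ← hD, hDt, mul_one,
      nonsing_inv_mul _ hBu]
    ext r c; fin_cases r <;> fin_cases c <;> simp
  have hTψ' : ((ψ a⁻¹ : SL₂) : M₂) = !![1, -t; 0, 1] := by
    rw [map_inv, Matrix.SpecialLinearGroup.coe_inv, hTψ, adjugate_fin_two_of]
    ext r c; fin_cases r <;> fin_cases c <;> simp
  have hJψ : ((ψ x : SL₂) : M₂) = !![0, -1; 1, 0] := hJ
  have hεψ : ((ψ ε : SL₂) : M₂) = -1 := by
    show B⁻¹ * (ε : M₂) * B = -1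
    rw [hε]; simp [nonsing_inv_mul _ hBu]
  have ht2 : t * t = 1 := by
    haveI : CharP F 3 := ‹_›
    have h3 : (3 : F) = 0 := by exact_mod_cast CharP.cast_eq_zero F 3
    have h := congrArg (fun g => ((ψ g : SL₂) : M₂) 0 0) hxy
    simp only [he0, he1, map_mul, coe_mul', hJψ, hTψ, hTψ', hεψ] at h
    simp [Matrix.mul_apply, Fin.sum_univ_two] at h
    linear_combination (-1 : F) * h - h3
  let f : ZMod 3 →+* F := ZMod.castHom (dvd_refl 3) F
  let φ : G₃ →* SL₂ := Matrix.SpecialLinearGroup.map f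
  have hφ : Function.Injective φ := by
    intro g h e'
    apply Subtype.ext
    ext r c
    exact (ZMod.castHom_injective F) (congrArg (fun M : SL₂ => (M : M₂) r c) e')
  have hgen : R ⊔ Subgroup.zpowers a = Subgroup.closure {a, x} := by
    have hxC : x ∈ Subgroup.closure ({a, x} : Set SL₂) := Subgroup.subset_closure (by simp)
    have haC : a ∈ Subgroup.closure ({a, x} : Set SL₂) := Subgroup.subset_closure (by simp)
    refine le_antisymm (sup_le (fun g hg => ?_) (Subgroup.zpowers_le.mpr haC))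
      ((Subgroup.closure_le _).mpr ?_)
    · have hεC : ε ∈ Subgroup.closure ({a, x} : Set SL₂) := hxx ▸ mul_mem hxC hxC
      have heC : ∀ i, e i ∈ Subgroup.closure ({a, x} : Set SL₂) := by
        intro i
        fin_cases i
        · exact hxC
        · exact mul_mem (mul_mem haC hxC) (inv_mem haC)
        · exact mul_mem (mul_mem haC (mul_mem (mul_mem haC hxC) (inv_mem haC))) (inv_mem haC)
      by_cases h1 : g = 1
      · rw [h1]; exact one_mem _
      by_cases hε' : g = ε
      · rw [hε']; exact hεC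
      obtain ⟨i, rfl | rfl⟩ := hclass g hg h1 hε'
      exacts [heC i, mul_mem hεC (heC i)]
    · rintro g (rfl | rfl)
      exacts [Subgroup.mem_sup_right (Subgroup.mem_zpowers g), Subgroup.mem_sup_left hx]
  have hφc : ∀ g : G₃, ((φ g : SL₂) : M₂) = g.1.map f := fun g => rfl
  have hJφ : φ SL2Three.J = ψ x := by
    apply ext'
    rw [hJψ, hφc]
    ext r c
    fin_cases r <;> fin_cases c <;> simp [SL2Three.J]
  have hTφ : φ SL2Three.T = ψ a ∨ φ SL2Three.T = ψ a⁻¹ := by
    rcases mul_self_eq_one_iff.mp ht2 with h | h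
    · left
      apply ext'
      rw [hTψ, h, hφc]
      ext r c
      fin_cases r <;> fin_cases c <;> simp [SL2Three.T]
    · right
      apply ext'
      rw [hTψ', h, hφc]
      ext r c
      fin_cases r <;> fin_cases c <;> simp [SL2Three.T]
  have himg : (Subgroup.closure ({a, x} : Set SL₂)).map ψ = φ.range := by
    rw [MonoidHom.map_closure, MonoidHom.range_eq_map, ← SL2Three.closure_T_J, MonoidHom.map_closure,
      Set.image_pair, Set.image_pair, hJφ]
    refine le_antisymm ((Subgroup.closure_le _).mpr ?_) ((Subgroup.closure_le _).mpr ?_)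
    · rintro g (rfl | rfl)
      · rcases hTφ with h | h
        · exact Subgroup.subset_closure (by simp [h])
        · rw [show ψ a = (φ SL2Three.T)⁻¹ by rw [h, map_inv, inv_inv]]
          exact inv_mem (Subgroup.subset_closure (Set.mem_insert _ _))
      · exact Subgroup.subset_closure (by simp)
    · rintro g (rfl | rfl)
      · rcases hTφ with h | h
        · rw [h]; exact Subgroup.subset_closure (by simp)
        · rw [h, map_inv]; exact inv_mem (Subgroup.subset_closure (by simp))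
      · exact Subgroup.subset_closure (by simp)
  let Φ : ↥(R ⊔ Subgroup.zpowers a) ≃* G₃ :=
    ((R ⊔ Subgroup.zpowers a).equivMapOfInjective ψ hψ).trans
      ((MulEquiv.subgroupCongr (by rw [hgen, himg])).trans (MonoidHom.ofInjective hφ).symm)
  refine ⟨rfl, ?_, ⟨Φ⟩⟩
  let ι : R →* G₃ := Φ.toMonoidHom.comp (Subgroup.inclusion le_sup_left)
  have hι : Function.Injective ι := Φ.injective.comp (Subgroup.inclusion_injective le_sup_left)
  have h4 : ∀ g ∈ R, g ^ 4 = 1 := by
    intro g hg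
    rw [show g ^ 4 = (g * g) * (g * g) by rw [pow_succ, pow_succ, pow_succ, pow_one]; group]
    rcases hcls g hg with rfl | rfl | h
    · simp
    · simp [sq_of_coe_neg_one hε]
    · rw [h, sq_of_coe_neg_one hε]
  have hrange : ι.range = SL2Three.quat.range := by
    ext g
    rw [SL2Three.mem_range_quat_iff]
    constructor
    · rintro ⟨r, rfl⟩
      rw [← map_pow, show r ^ 4 = 1 from Subtype.ext (h4 r r.2), map_one]
    · intro hg
      obtain ⟨u, rfl⟩ := Φ.surjective g
      rw [← map_pow, map_eq_one_iff Φ Φ.injective] at hg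
      have hu4 : (u : SL₂) ^ 4 = 1 := congrArg Subtype.val hg
      have hu3 : (u : SL₂) ^ 3 ∈ R := by
        have hmem : (u : SL₂) ∈ (R : Set SL₂) * (Subgroup.zpowers a : Set SL₂) := by
          rw [← Subgroup.coe_mul_of_right_le_normalizer_left _ _ hA]; exact u.2
        obtain ⟨r, hr, c, hc, hrc⟩ := hmem
        have hc3 : c ^ 3 = 1 := by
          obtain ⟨m, rfl⟩ := Subgroup.mem_zpowers_iff.mp hc
          rw [← zpow_natCast, ← _root_.zpow_mul, mul_comm, _root_.zpow_mul, zpow_natCast, hap, _root_.one_zpow]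
        have hcN : ∀ s ∈ R, c * s * c⁻¹ ∈ R := fun s hs =>
          Coprime.conj_mem_of_mem_normalizer (hA hc) hs
        rw [← hrc, show (r * c) ^ 3 = r * (c * r * c⁻¹) * (c * (c * r * c⁻¹) * c⁻¹) * c ^ 3 by
          rw [pow_succ, pow_succ, pow_one, pow_succ, pow_succ, pow_one]; group, hc3, mul_one]
        exact mul_mem (mul_mem hr (hcN _ hr)) (hcN _ (hcN _ hr))
      have : (u : SL₂) ∈ R := by
        have e' : (u : SL₂) = ((u : SL₂) ^ 3)⁻¹ := by
          apply eq_inv_of_mul_eq_one_left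
          rw [← pow_succ', hu4]
        rw [e']
        exact inv_mem hu3
      exact ⟨⟨u, this⟩, rfl⟩
  exact ⟨(MonoidHom.ofInjective hι).trans ((MulEquiv.subgroupCongr hrange).trans
    (MonoidHom.ofInjective SL2Three.quat_injective).symm)⟩

end Cfsg.Agent.FG72.SL2
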