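import Cfsg.Agent.FG72.MinimalAction
import Cfsg.Agent.OddLocal43.GLTwo
import Cfsg.Agent.Char2x2.Basic

/-!
`p`-elements of `SL₂` in odd characteristic `p` acting nontrivially on `p'`-subgroups.
-/

set_option autoImplicit false

namespace Cfsg.Agent.FG72.SL2

open Matrix OddLocal43
open scoped commutatorElement

variable {F : Type*} [Field F]

local notation "M₂" => Matrix (Fin 2) (Fin 2) F
local notation "SL₂" => Matrix.SpecialLinearGroup (Fin 2) F

theorem coe_mul' (a b : SL₂) : ((a * b : SL₂) : M₂) = (a : M₂) * (b : M₂) := rfl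

theorem coe_one' : ((1 : SL₂) : M₂) = 1 := rfl

theorem coe_pow' (a : SL₂) (n : ℕ) : ((a ^ n : SL₂) : M₂) = (a : M₂) ^ n := by
  induction n with
  | zero => rfl
  | succ n ih => rw [pow_succ, pow_succ, coe_mul', ih]

theorem ext' {a b : SL₂} (h : (a : M₂) = (b : M₂)) : a = b := Subtype.ext h

theorem sq_eq_smul_sub (x : M₂) : x * x = x.trace • x - x.det • 1 := Char2x2.mul_self_eq x

/-- An element of `SL₂` of square one is `±1`, outside characteristic two. -/
theorem eq_one_or_neg_one_of_sq (h2 : (2 : F) ≠ 0) {r : SL₂} (h : r ^ 2 = 1) :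
    (r : M₂) = 1 ∨ (r : M₂) = -1 := by
  have hsq : (r : M₂) * r = 1 := by
    rw [← coe_mul', ← sq, h, coe_one']
  have hCH := sq_eq_smul_sub (r : M₂)
  rw [hsq, r.det_coe, one_smul, eq_sub_iff_add_eq, ← two_smul F (1 : M₂)] at hCH
  set t := (r : M₂).trace with ht
  have ht0 : t ≠ 0 := by
    intro h0
    rw [h0, zero_smul] at hCH
    have := congrFun (congrFun hCH 0) 0
    exact h2 (by simpa using this)
  have hr : (r : M₂) = (2 / t) • 1 := by
    rw [div_eq_inv_mul, ← smul_smul, hCH, smul_smul, inv_mul_cancel₀ ht0, one_smul]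
  have hc : (2 / t) * (2 / t) = 1 := by
    have := congrFun (congrFun hsq 0) 0
    rw [hr] at this
    simpa using this
  rcases mul_self_eq_one_iff.mp hc with h' | h'
  · exact Or.inl (by rw [hr, h', one_smul])
  · exact Or.inr (by rw [hr, h', neg_smul, one_smul])

theorem central_of_eq_one_or_neg_one {r : SL₂} (h : (r : M₂) = 1 ∨ (r : M₂) = -1) (s : SL₂) :
    Commute r s := ext' (by
  rw [coe_mul', coe_mul']
  rcases h with h | h <;> simp [h])

theorem sq_eq_one_of_isScalarMat {r : SL₂} (h : IsScalarMat (r : M₂)) : r ^ 2 = 1 := by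
  have hd := r.det_coe
  have hr := eq_smul_one_of_isScalarMat h
  rw [hr, det_smul, det_one, mul_one, Fintype.card_fin] at hd
  apply ext'
  rw [coe_pow', hr, smul_pow, one_pow, coe_one', hd, one_smul]

variable {p : ℕ} [Fact p.Prime] [CharP F p]

theorem two_ne_zero' (hp : p ≠ 2) : (2 : F) ≠ 0 := by
  intro h
  have h' : ((2 : ℕ) : F) = 0 := by simpa using h
  rw [CharP.cast_eq_zero_iff F p] at h'
  exact hp ((Nat.prime_dvd_prime_iff_eq Fact.out Nat.prime_two).mp h')

theorem unipotent_of_pElement {a : SL₂} {k : ℕ} (ha : a ^ p ^ k = 1) :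
    ((a : M₂) - 1) * ((a : M₂) - 1) = 0 ∧ a ^ p = 1 := by
  have hp : p.Prime := Fact.out
  haveI : CharP M₂ p :=
    charP_of_injective_algebraMap (algebraMap F M₂).injective p
  have h0 : ((a : M₂) - 1) ^ p ^ k = 0 := by
    rw [sub_pow_char_pow_of_commute p k (Commute.one_right _), one_pow, ← coe_pow',
      ha, coe_one', sub_self]
  obtain ⟨ht, hd⟩ := Char2x2.sq_eq_zero_iff _ h0
  have h2 := sq_eq_zero_of_trace_det ht hd
  refine ⟨h2, ext' ?_⟩
  have : ((a : M₂) - 1) ^ p = 0 := pow_eq_zero_of_le hp.two_le (by rw [sq, h2])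
  rw [sub_pow_char_of_commute p (Commute.one_right _), one_pow, sub_eq_zero] at this
  rwa [coe_pow', coe_one']

theorem eq_one_of_unipotent_isScalarMat {a : SL₂} (h : ((a : M₂) - 1) * ((a : M₂) - 1) = 0)
    (hs : IsScalarMat (a : M₂)) : a = 1 := by
  have hr := eq_smul_one_of_isScalarMat hs
  rw [hr] at h
  rw [show (a : M₂) 0 0 • (1 : M₂) - 1 = ((a : M₂) 0 0 - 1) • 1 by rw [sub_smul, one_smul],
    smul_mul_smul_comm, one_mul, smul_eq_zero] at h
  have h1 : (a : M₂) 0 0 = 1 :=
    sub_eq_zero.mp (mul_self_eq_zero.mp (h.resolve_right one_ne_zero))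
  exact ext' (by rw [hr, h1, one_smul, coe_one'])

/-- A `p'`-element commuting with a nontrivial `p`-element is `±1`. -/
theorem commute_unipotent (hp : p ≠ 2) {a r : SL₂}
    (ha : ((a : M₂) - 1) * ((a : M₂) - 1) = 0) (ha1 : a ≠ 1)
    (hr : (orderOf r).Coprime p) (hc : Commute a r) :
    (r : M₂) = 1 ∨ (r : M₂) = -1 := by
  haveI : CharP M₂ p :=
    charP_of_injective_algebraMap (algebraMap F M₂).injective p
  have hpp : p.Prime := Fact.out
  obtain ⟨α, β, e⟩ := exists_eq_add_smul_of_commute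
    (fun hs => ha1 (eq_one_of_unipotent_isScalarMat ha hs))
    (show (a : M₂) * r = r * a from congrArg Subtype.val hc.eq)
  set n := (a : M₂) - 1 with hn
  set c := α + β with hc'
  have e' : (r : M₂) - c • 1 = β • n := by
    rw [e, hn, hc', add_smul, smul_sub]; abel
  have hpow : (r : M₂) ^ p = c ^ p • 1 := by
    have hn0 : n ^ p = 0 := pow_eq_zero_of_le hpp.two_le (by rw [sq, ha])
    have h0 : ((r : M₂) - c • 1) ^ p = 0 := by
      rw [e', smul_pow, hn0, smul_zero]
    rwa [sub_pow_char_of_commute p ((Commute.one_right _).smul_right c), smul_pow, one_pow,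
      sub_eq_zero] at h0
  have hsc : IsScalarMat ((r ^ p : SL₂) : M₂) := by
    rw [coe_pow', hpow]
    simp [IsScalarMat]
  have h2p := sq_eq_one_of_isScalarMat hsc
  rw [← pow_mul] at h2p
  have hd : orderOf r ∣ 2 := (Nat.Coprime.dvd_of_dvd_mul_left hr (orderOf_dvd_of_pow_eq_one h2p))
  exact eq_one_or_neg_one_of_sq (two_ne_zero' hp) (orderOf_dvd_iff_pow_eq_one.mp hd)

/-- If a conjugate of a `p'`-element `r` under a `p`-element `a` commutes with `r`, then `a`
centralizes `r`. -/
theorem commute_of_commute_conj (hp : p ≠ 2) {a r : SL₂} (ha : a ^ p = 1)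
    (hr : (orderOf r).Coprime p) (hc : Commute r (a * r * a⁻¹)) : Commute a r := by
  haveI : CharP M₂ p :=
    charP_of_injective_algebraMap (algebraMap F M₂).injective p
  have hpp : p.Prime := Fact.out
  have h2 : (2 : F) ≠ 0 := two_ne_zero' hp
  by_cases hs : IsScalarMat (r : M₂)
  · exact (central_of_eq_one_or_neg_one
      (eq_one_or_neg_one_of_sq h2 (sq_eq_one_of_isScalarMat hs)) a).symm
  obtain ⟨α, β, e⟩ := exists_eq_add_smul_of_commute hs
    (show (r : M₂) * ((a * r * a⁻¹ : SL₂) : M₂) = ((a * r * a⁻¹ : SL₂) : M₂) * r from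
      congrArg Subtype.val hc.eq)
  set t := (r : M₂).trace with ht
  have htr : ((a * r * a⁻¹ : SL₂) : M₂).trace = t := by
    rw [coe_mul', trace_mul_comm, ← coe_mul', ← mul_assoc,
      inv_mul_cancel, one_mul]
  have h1 : 2 * α + β * t = t := by
    have h := htr
    rw [e, trace_affine] at h
    exact h
  have h3 : α ^ 2 + α * β * t + β ^ 2 = 1 := by
    have := (a * r * a⁻¹).det_coe
    rw [e, det_affine, r.det_coe, mul_one] at this
    exact this
  have hfac : (1 - β ^ 2) * (t ^ 2 - 4) = 0 := by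
    linear_combination 4 * h3 - (2 * α + t + β * t) * h1
  rcases mul_eq_zero.mp hfac with hb | ht4
  · -- `a ^ 2` centralizes `r`
    have hα : α * (1 + β) = 0 := by
      have : (2 : F) * (α * (1 + β)) = 0 := by linear_combination (1 + β) * h1 + t * hb
      exact (mul_eq_zero.mp this).resolve_left h2
    have hfix : a * (a * r * a⁻¹) * a⁻¹ = r := by
      apply ext'
      have hinv : (a : M₂) * ((a⁻¹ : SL₂) : M₂) = 1 := by
        rw [← coe_mul', mul_inv_cancel, coe_one']
      have e2 : (a : M₂) * r * ((a⁻¹ : SL₂) : M₂) = α • 1 + β • (r : M₂) := by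
        rw [← e]; simp [coe_mul']
      rw [coe_mul', coe_mul', e]
      simp only [mul_add, add_mul, mul_smul_comm, smul_mul_assoc, mul_one, hinv]
      rw [e2, smul_add, smul_smul, smul_smul, ← add_assoc, ← add_smul,
        show α + β * α = 0 by linear_combination hα, show β * β = 1 by linear_combination -hb,
        zero_smul, zero_add, one_smul]
    have hsq : Commute (a ^ 2) r := by
      have : a ^ 2 * r = r * a ^ 2 := by
        calc a ^ 2 * r = (a * (a * r * a⁻¹) * a⁻¹) * a ^ 2 := by simp [sq, mul_assoc]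
          _ = r * a ^ 2 := by rw [hfix]
      exact this
    have hodd : Odd p := hpp.odd_of_ne_two hp
    obtain ⟨k, hk⟩ := hodd
    have : a = (a ^ 2) ^ (k + 1) := by
      rw [← pow_mul, show 2 * (k + 1) = p + 1 by omega, pow_succ, ha, one_mul]
    rw [this]
    exact hsq.pow_left _
  · -- `r` has repeated eigenvalue
    exfalso
    obtain ⟨u, hu, hu2⟩ : ∃ u : F, t = 2 * u ∧ u * u = 1 := by
      refine ⟨t / 2, by field_simp, ?_⟩
      field_simp
      linear_combination ht4
    have hn : ((r : M₂) - u • 1) * ((r : M₂) - u • 1) = 0 := by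
      apply sq_eq_zero_of_trace_det
      · rw [trace_fin_two] at ht
        simp [trace_fin_two]
        linear_combination hu - ht
      · rw [trace_fin_two] at ht
        have := r.det_coe
        rw [det_fin_two] at this
        simp [det_fin_two]
        linear_combination this + u * ht - u * hu - hu2
    have hpow : (r : M₂) ^ p = u ^ p • 1 := by
      have h0 : ((r : M₂) - u • 1) ^ p = 0 := pow_eq_zero_of_le hpp.two_le (by rw [sq, hn])
      rwa [sub_pow_char_of_commute p ((Commute.one_right _).smul_right u), smul_pow, one_pow,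
        sub_eq_zero] at h0
    have hsc : IsScalarMat ((r ^ p : SL₂) : M₂) := by
      rw [coe_pow', hpow]
      simp [IsScalarMat]
    have h2p := sq_eq_one_of_isScalarMat hsc
    rw [← pow_mul] at h2p
    have hd : orderOf r ∣ 2 := Nat.Coprime.dvd_of_dvd_mul_left hr (orderOf_dvd_of_pow_eq_one h2p)
    rcases eq_one_or_neg_one_of_sq h2 (orderOf_dvd_iff_pow_eq_one.mp hd) with h | h <;>
      exact hs (by rw [h]; simp [IsScalarMat])

/-- The `q`-subgroups of `SL₂` are abelian for odd `q`. -/
theorem commute_of_odd_pGroup [Finite F] (h2 : (2 : F) ≠ 0) {q : ℕ} [Fact q.Prime] (hq : q ≠ 2)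
    {Q : Subgroup SL₂} (hQ : IsPGroup q Q) {x y : SL₂} (hx : x ∈ Q) (hy : y ∈ Q) :
    Commute x y := by
  rcases subsingleton_or_nontrivial Q with h | h
  · have := congrArg Subtype.val (Subsingleton.elim (⟨x, hx⟩ : Q) ⟨y, hy⟩)
    rw [show x = y from this]
  haveI := hQ.center_nontrivial
  obtain ⟨z, hz⟩ := exists_ne (1 : Subgroup.center Q)
  have hns : ¬ IsScalarMat (((z : Q) : SL₂) : M₂) := by
    intro hs
    apply hz
    have h2' : (z : Q) ^ 2 = 1 := Subtype.ext (by
      simpa using sq_eq_one_of_isScalarMat hs)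
    obtain ⟨k, hk⟩ := hQ (z : Q)
    have hco : (2 : ℕ).Coprime (q ^ k) :=
      ((Nat.coprime_primes Nat.prime_two Fact.out).mpr (Ne.symm hq)).pow_right k
    have h1 := Nat.eq_one_of_dvd_coprimes hco (orderOf_dvd_of_pow_eq_one h2')
      (orderOf_dvd_of_pow_eq_one hk)
    exact Subtype.ext (orderOf_eq_one_iff.mp h1)
  have hcx : ∀ w, w ∈ Q → (((z : Q) : SL₂) : M₂) * (w : M₂) = (w : M₂) * (((z : Q) : SL₂) : M₂) := by
    intro w hw
    have := (Subgroup.mem_center_iff.mp z.2 ⟨w, hw⟩).symm
    exact congrArg (fun g : Q => ((g : SL₂) : M₂)) this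
  exact ext' (commute_of_commute_nonscalar hns (hcx x hx) (hcx y hy))

end Cfsg.Agent.FG72.SL2
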