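import Mathlib.GroupTheory.PGroup
import Mathlib.GroupTheory.Index
import Mathlib.GroupTheory.Subgroup.Center
import Mathlib.Algebra.BigOperators.Ring.Finset
import Mathlib.GroupTheory.Commutator.Basic
import Mathlib.Tactic.Ring

/-!
Sign sums attached to the squaring map of a group with central subgroup `W` containing all squares:
for `L ≤ W` of index two, `S = ∑ ± 1` (sign according to `x ^ 2 ∈ L`) is zero or has square
`|G| |R|` with `R` the radical of the commutator form.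
-/

set_option autoImplicit false

namespace Cfsg.Agent.FG72

open scoped commutatorElement

variable {G : Type*} [Group G]

open scoped Classical in
/-- The sign attached to a subgroup `L`: `1` on `L`, `-1` outside. -/
noncomputable def signOf (L : Subgroup G) (a : G) : ℤ := if a ∈ L then 1 else -1

theorem signOf_one (L : Subgroup G) : signOf L 1 = 1 := by simp [signOf]

theorem signOf_sq (L : Subgroup G) (a : G) : signOf L a * signOf L a = 1 := by
  unfold signOf; split <;> simp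

theorem signOf_eq_one_iff (L : Subgroup G) (a : G) : signOf L a = 1 ↔ a ∈ L := by
  unfold signOf; split <;> simp_all

theorem signOf_mul {L W : Subgroup G} (hi : L.relIndex W = 2) {a b : G} (ha : a ∈ W) (hb : b ∈ W) :
    signOf L (a * b) = signOf L a * signOf L b := by
  have h : (⟨a, ha⟩ * ⟨b, hb⟩ : W) ∈ L.subgroupOf W ↔
      ((⟨a, ha⟩ : W) ∈ L.subgroupOf W ↔ (⟨b, hb⟩ : W) ∈ L.subgroupOf W) :=
    Subgroup.mul_mem_iff_of_index_two hi
  simp only [Subgroup.mem_subgroupOf, Subgroup.coe_mul] at h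
  by_cases h1 : a ∈ L <;> by_cases h2 : b ∈ L <;> simp [signOf, h1, h2, h]

theorem sum_mul_hom_eq_zero {R : Type*} [Fintype R] [Group R] (f : R → ℤ)
    (hf : ∀ x y, f (x * y) = f x * f y) {x0 : R} (h : f x0 = -1) : ∑ x, f x = 0 := by
  have : ∑ x, f x = ∑ x, f (x * x0) := (Fintype.sum_equiv (Equiv.mulRight x0) _ _ fun _ => rfl).symm
  simp only [hf, h, mul_neg, mul_one, Finset.sum_neg_distrib] at this
  omega

theorem comm_mem_of_sq_mem {W : Subgroup G} (hW : W ≤ Subgroup.center G)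
    (hsq : ∀ x : G, x ^ 2 ∈ W) (u x : G) : ⁅u, x⁆ ∈ W := by
  have e2 : ⁅u, x⁆ = (u ^ 2) * (u⁻¹ * x) ^ 2 * (x ^ 2)⁻¹ := by
    have hc := Subgroup.mem_center_iff.mp (hW (hsq (u⁻¹ * x))) u
    have hc2 := Subgroup.mem_center_iff.mp (hW (hsq x)) u⁻¹
    calc ⁅u, x⁆ = u * (x * u⁻¹ * x) * (x ^ 2)⁻¹ := by simp [commutatorElement_def, pow_two, mul_assoc]
      _ = u * (u * (u⁻¹ * x) ^ 2) * (x ^ 2)⁻¹ := by simp [pow_two, mul_assoc]
      _ = u ^ 2 * (u⁻¹ * x) ^ 2 * (x ^ 2)⁻¹ := by simp [pow_two, mul_assoc]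
  rw [e2]
  exact mul_mem (mul_mem (hsq u) (hsq _)) (inv_mem (hsq x))

variable [Fintype G]

/-- The basic dichotomy for the sign sum of the squaring map. -/
theorem sq_sum_dichotomy {L W : Subgroup G} (hi : L.relIndex W = 2)
    (hW : W ≤ Subgroup.center G) (hsq : ∀ x : G, x ^ 2 ∈ W) :
    ∃ R : Subgroup G, (∀ u, u ∈ R ↔ ∀ x : G, ⁅u, x⁆ ∈ L) ∧
      (∑ x : G, signOf L (x ^ 2) = 0 ∨
        (∑ x : G, signOf L (x ^ 2)) ^ 2 = (Nat.card G : ℤ) * Nat.card R) := by
  classical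
  have hcomm : ∀ u x : G, ⁅u, x⁆ ∈ W := comm_mem_of_sq_mem hW hsq
  have hcen : ∀ w ∈ W, ∀ g : G, g * w = w * g := fun w hw g => Subgroup.mem_center_iff.mp (hW hw) g
  have bilR : ∀ u x y : G, ⁅u, x * y⁆ = ⁅u, x⁆ * ⁅u, y⁆ := by
    intro u x y
    calc ⁅u, x * y⁆ = ⁅u, x⁆ * (x * ⁅u, y⁆ * x⁻¹) := by simp [commutatorElement_def, mul_assoc]
      _ = ⁅u, x⁆ * ⁅u, y⁆ := by rw [hcen _ (hcomm u y) x, mul_inv_cancel_right]
  have bilL : ∀ u v x : G, ⁅u * v, x⁆ = ⁅u, x⁆ * ⁅v, x⁆ := by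
    intro u v x
    calc ⁅u * v, x⁆ = u * ⁅v, x⁆ * u⁻¹ * ⁅u, x⁆ := by simp [commutatorElement_def, mul_assoc]
      _ = ⁅u, x⁆ * ⁅v, x⁆ := by
        rw [hcen _ (hcomm v x) u, mul_inv_cancel_right, hcen _ (hcomm u x) ⁅v, x⁆]
  let R : Subgroup G :=
    { carrier := {u | ∀ x : G, ⁅u, x⁆ ∈ L}
      one_mem' := fun x => by simp
      mul_mem' := fun {u v} hu hv x => by rw [bilL]; exact mul_mem (hu x) (hv x)
      inv_mem' := fun {u} hu x => by
        have h1 := bilL u⁻¹ u x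
        rw [inv_mul_cancel, commutatorElement_one_left] at h1
        rw [eq_inv_of_mul_eq_one_left h1.symm]
        exact inv_mem (hu x) }
  refine ⟨R, fun u => Iff.rfl, ?_⟩
  have hq : ∀ x u : G, (x * u) ^ 2 = ⁅u, x⁆ * (x ^ 2 * u ^ 2) := by
    intro x u
    calc (x * u) ^ 2 = x * (⁅u, x⁆ * (x * u)) * u := by
          simp [commutatorElement_def, pow_two, mul_assoc]
      _ = ⁅u, x⁆ * x * (x * u) * u := by rw [← mul_assoc x, hcen _ (hcomm u x) x]
      _ = ⁅u, x⁆ * (x ^ 2 * u ^ 2) := by simp [pow_two, mul_assoc]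
  set s : G → ℤ := fun x => signOf L (x ^ 2) with hs
  have hsmul : ∀ x u : G, s (x * u) = signOf L ⁅u, x⁆ * (s x * s u) := by
    intro x u
    simp only [hs, hq]
    rw [signOf_mul hi (hcomm u x) (mul_mem (hsq x) (hsq u)), signOf_mul hi (hsq x) (hsq u)]
  have hinner : ∀ u : G, ∑ x : G, signOf L ⁅u, x⁆ = if u ∈ R then (Nat.card G : ℤ) else 0 := by
    intro u
    split_ifs with hu
    · have : ∀ x, signOf L ⁅u, x⁆ = 1 := fun x => (signOf_eq_one_iff L _).mpr (hu x)
      simp [this, Nat.card_eq_fintype_card]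
    · obtain ⟨x0, hx0⟩ : ∃ x0, ⁅u, x0⁆ ∉ L := not_forall.mp hu
      refine sum_mul_hom_eq_zero _ (fun x y => ?_) (x0 := x0) (by simp [signOf, hx0])
      rw [bilR, signOf_mul hi (hcomm u x) (hcomm u y)]
  have hsquare : (∑ x : G, s x) ^ 2 = (Nat.card G : ℤ) * ∑ u : R, s u := by
    calc (∑ x : G, s x) ^ 2 = ∑ x : G, ∑ y : G, s x * s y := by rw [pow_two, Finset.sum_mul_sum]
      _ = ∑ x : G, ∑ u : G, signOf L ⁅u, x⁆ * s u := by
          refine Finset.sum_congr rfl fun x _ => ?_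
          refine (Fintype.sum_equiv (Equiv.mulLeft x) _ _ fun u => ?_).symm
          rw [Equiv.coe_mulLeft, hsmul]
          have := signOf_sq L (x ^ 2)
          calc signOf L ⁅u, x⁆ * s u = (s x * s x) * (signOf L ⁅u, x⁆ * s u) := by
                simp only [hs, this, one_mul]
            _ = s x * (signOf L ⁅u, x⁆ * (s x * s u)) := by ring
      _ = ∑ u : G, (∑ x : G, signOf L ⁅u, x⁆) * s u := by
          rw [Finset.sum_comm]; simp only [Finset.sum_mul]
      _ = (Nat.card G : ℤ) * ∑ u : R, s u := by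
          simp only [hinner, ite_mul, zero_mul]
          rw [← Finset.sum_filter, ← Finset.sum_subtype (Finset.univ.filter (· ∈ R)) (by simp) s,
            Finset.mul_sum]
  change ∑ x : G, s x = 0 ∨ (∑ x : G, s x) ^ 2 = _
  by_cases hall : ∀ u : R, s u = 1
  · right
    rw [hsquare, Finset.sum_congr rfl (fun u _ => hall u)]
    simp [Nat.card_eq_fintype_card]
  · left
    obtain ⟨u0, hu0⟩ := not_forall.mp hall
    have h0 : ∑ u : R, s u = 0 := by
      refine sum_mul_hom_eq_zero (fun u : R => s u) (fun u v => ?_) (x0 := u0) ?_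
      · show s ((u : G) * v) = _
        rw [hsmul, (signOf_eq_one_iff L _).mpr (v.2 u), one_mul]
      · simp only [hs, signOf] at hu0 ⊢
        split_ifs at hu0 ⊢ with h
        · exact absurd rfl hu0
        · rfl
    rw [h0, mul_zero] at hsquare
    exact pow_eq_zero_iff (by norm_num) |>.mp hsquare

end Cfsg.Agent.FG72
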