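import Mathlib
import Cfsg.Prelude.Def_Transfer
import Cfsg.Prelude.Def_CaseTheorems
import Cfsg.Agent.Lib.PGroup.Basic
import Cfsg.Agent.Lib.PGroup.Commutator
import Cfsg.Agent.Lib.PGroup.Extraspecial
import Cfsg.Agent.Lib.PGroup.CyclicMax
import Cfsg.Agent.Fus93.Critical
import Cfsg.Agent.FGS82.MaximalClass

/-!
P. Hall's structure theorem for groups of symplectic type.
-/

set_option autoImplicit false

namespace Cfsg.Agent.FG72.SymplecticType

open Subgroup
open scoped commutatorElement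

variable {G : Type*} [Group G] [Finite G] {p : ℕ} [hp : Fact p.Prime]

/-- In a cyclic group the elements killed by `p` form the subgroup of order `p`. -/
theorem omega_mem {v ζ x : G} (hζ : ζ ∈ zpowers v) (hζp : orderOf ζ = p) (hx : x ∈ zpowers v)
    (hxp : x ^ p = 1) : x ∈ zpowers ζ := by
  rw [← mem_powers_iff_mem_zpowers] at hζ hx ⊢
  obtain ⟨i, rfl⟩ := hζ
  obtain ⟨j, rfl⟩ := hx
  simp only at hζp hxp ⊢
  rw [← pow_mul, ← orderOf_dvd_iff_pow_eq_one] at hxp
  have hne : v ^ i ≠ 1 := fun h => hp.out.one_lt.ne (by rw [← hζp, h, orderOf_one])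
  have hiv : orderOf v ∣ i * p := by
    rw [orderOf_dvd_iff_pow_eq_one, pow_mul, ← hζp, pow_orderOf_eq_one]
  obtain ⟨m, hm⟩ : p ∣ orderOf v := hζp ▸ orderOf_pow_dvd i
  have hpp := hp.out.pos
  obtain ⟨a, rfl⟩ : m ∣ i := Nat.dvd_of_mul_dvd_mul_left hpp (by rwa [hm, mul_comm i] at hiv)
  obtain ⟨b, rfl⟩ : m ∣ j := Nat.dvd_of_mul_dvd_mul_left hpp (by rwa [hm, mul_comm j] at hxp)
  have ha : ¬ p ∣ a := fun ⟨c, hc⟩ => hne (by
    rw [← orderOf_dvd_iff_pow_eq_one, hm, hc]; exact ⟨c, by ring⟩)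
  obtain ⟨k, hk⟩ : ∃ k : ℕ, a * k ≡ b [MOD p] := by
    refine ⟨((b : ZMod p) / (a : ZMod p)).val, (ZMod.natCast_eq_natCast_iff _ _ _).mp ?_⟩
    push_cast
    rw [ZMod.natCast_zmod_val, mul_div_cancel₀]
    rwa [Ne, CharP.cast_eq_zero_iff (ZMod p) p]
  refine Submonoid.mem_powers_iff _ _ |>.mpr ⟨k, ?_⟩
  rw [← pow_mul, pow_eq_pow_iff_modEq, hm, mul_comm p m, mul_assoc]
  exact hk.mul_left' m

/-- An automorphism moving every element inside a central subgroup of order `p` is inner. -/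
theorem exists_inner {E : Type*} [Group E] [Finite E] (hE : IsPGroup p E) {N : Subgroup E}
    (hN : Nat.card N = p) (hNc : N ≤ center E) (hcomm : ∀ a b : E, ⁅a, b⁆ ∈ N) (σ : MulAut E)
    (hσ : ∀ x, σ x * x⁻¹ ∈ N) (hσZ : ∀ z ∈ center E, σ z = z) :
    ∃ e : E, ∀ x, σ x = e * x * e⁻¹ := by
  have hC : commutator E ≤ center E := by
    rw [_root_.commutator_def, commutator_le]
    exact fun a _ b _ => hNc (hcomm a b)
  let ad : E → (E ⧸ center E →* N) := fun e =>
    QuotientGroup.lift (center E) (MonoidHom.mk' (fun x => (⟨⁅e, x⁆, hcomm e x⟩ : N))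
      (fun a b => Subtype.ext (PGroup.comm_mul_right hC e a b)))
      (fun z hz => Subtype.ext
        (commutatorElement_eq_one_iff_mul_comm.mpr (mem_center_iff.mp hz e)))
  let χ : E ⧸ center E →* N :=
    QuotientGroup.lift (center E) (MonoidHom.mk' (fun x => (⟨σ x * x⁻¹, hσ x⟩ : N))
      (fun a b => Subtype.ext (by
        show σ (a * b) * (a * b)⁻¹ = σ a * a⁻¹ * (σ b * b⁻¹)
        rw [map_mul, mul_inv_rev, mul_assoc (σ a), ← mul_assoc (σ b),
          (PGroup.commute_of_mem_center (hNc (hσ b)) a⁻¹).eq, mul_assoc (σ a)])))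
      (fun z hz => Subtype.ext (by show σ z * z⁻¹ = 1; rw [hσZ z hz, mul_inv_cancel]))
  haveI : Finite (E ⧸ center E →* N) := Finite.of_injective _ DFunLike.coe_injective
  have hinj : Function.Injective (fun q : E ⧸ center E => ad q.out) := by
    intro q q' h
    have hc : ∀ x : E, ⁅q.out, x⁆ = ⁅q'.out, x⁆ := fun x =>
      congrArg Subtype.val (DFunLike.congr_fun h (x : E ⧸ center E))
    rw [← q.out_eq', ← q'.out_eq', QuotientGroup.eq]
    refine mem_center_iff.mpr fun x => ?_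
    have h1 : ⁅q.out⁻¹ * q'.out, x⁆ = 1 := by
      rw [PGroup.comm_mul_left hC, PGroup.comm_inv_left hC, hc, inv_mul_cancel]
    exact (commutatorElement_eq_one_iff_mul_comm.mp h1).symm
  have hsurj := (Nat.bijective_iff_injective_and_card _).mpr ⟨hinj, le_antisymm
    (Nat.card_le_card_of_injective _ hinj) (PGroup.card_monoidHom_le hN (hE.to_quotient _))⟩
  obtain ⟨q, hq⟩ := hsurj.2 χ
  refine ⟨q.out, fun x => ?_⟩
  have h2 : ⁅q.out, x⁆ = σ x * x⁻¹ :=
    congrArg Subtype.val (DFunLike.congr_fun hq (x : E ⧸ center E))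
  rw [PGroup.conj_eq_comm_mul, h2, inv_mul_cancel_right]

/-- A subgroup whose elements commute modulo a central subgroup of order `p`, contain their
`p`-th powers there and whose centre is that subgroup is extraspecial. -/
theorem extraspecial_of (hG : IsPGroup p G) (E : Subgroup G) {ζ : G} (hζp : orderOf ζ = p)
    (hcomm : ∀ a ∈ E, ∀ b ∈ E, ⁅a, b⁆ ∈ zpowers ζ) (hpow : ∀ a ∈ E, a ^ p ∈ zpowers ζ)
    (hcen : ∀ a ∈ E, (∀ b ∈ E, Commute a b) → a ∈ zpowers ζ)
    (hζc : ζ ∈ center G) (hne : ∃ a ∈ E, ∃ b ∈ E, ¬ Commute a b) :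
    Cfsg.IsExtraspecial p E := by
  obtain ⟨a, ha, b, hb, hab⟩ := hne
  have hEp : IsPGroup p E := hG.to_subgroup E
  have hc1 : ⁅a, b⁆ ≠ 1 := fun h => hab (commutatorElement_eq_one_iff_mul_comm.mp h)
  have hζcard : Nat.card (zpowers ζ) = p := by rw [Nat.card_zpowers, hζp]
  have hgen : zpowers ⁅a, b⁆ = zpowers ζ := by
    refine eq_of_le_of_card_ge (zpowers_le.mpr (hcomm a ha b hb)) ?_
    rw [hζcard, Nat.card_zpowers, orderOf_eq_prime (p := p) ?_ hc1]
    have h := pow_card_eq_one' (G := zpowers ζ) (x := ⟨_, hcomm a ha b hb⟩)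
    rw [hζcard] at h
    exact congrArg Subtype.val h
  have hζE : zpowers ζ ≤ E := hgen ▸ zpowers_le.mpr (by
    rw [commutatorElement_def]
    exact mul_mem (mul_mem (mul_mem ha hb) (inv_mem ha)) (inv_mem hb))
  have hNc : (zpowers ζ).subgroupOf E ≤ center E := fun x hx =>
    mem_center_iff.mpr fun y => Subtype.ext (mem_center_iff.mp (zpowers_le.mpr hζc hx) y)
  have hcenter : center E = (zpowers ζ).subgroupOf E := by
    refine le_antisymm (fun x hx => ?_) hNc
    exact hcen x x.2 fun y hy => (congrArg Subtype.val (mem_center_iff.mp hx ⟨y, hy⟩)).symm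
  have hcom : commutator E = center E := by
    rw [hcenter]
    refine le_antisymm ?_ fun x hx => ?_
    · rw [_root_.commutator_def, commutator_le]
      exact fun x _ y _ => mem_subgroupOf.mpr (hcomm x x.2 y y.2)
    · rw [mem_subgroupOf, ← hgen, ← mem_powers_iff_mem_zpowers] at hx
      obtain ⟨k, hk⟩ := hx
      rw [← show (⁅(⟨a, ha⟩ : E), ⟨b, hb⟩⁆ : E) ^ k = x from Subtype.ext hk]
      exact pow_mem (PGroup.commutatorElement_mem_commutator _ _) k
  refine ⟨⟨hEp, le_antisymm ?_ ?_, hcom⟩, ?_⟩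
  · refine PGroup.frattini_le_of_quotient (p := p) hcom.le fun x => ?_
    rw [hcenter]
    exact mem_subgroupOf.mpr (hpow x x.2)
  · rw [← hcom]
    exact PGroup.commutator_le_frattini hEp
  · rw [hcenter, Nat.card_congr (subgroupOfEquivOfLe hζE).toEquiv, hζcard]

/-- Elements whose `p`-th power lies in `P`, in a subgroup of class two. -/
def powMem (p : ℕ) (D P : Subgroup G) {ζ : G} (hζ : ζ ∈ P)
    (hcomm : ∀ a ∈ D, ∀ b ∈ D, ⁅a, b⁆ ∈ zpowers ζ)
    (hζD : ∀ d ∈ D, Commute ζ d) : Subgroup G where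
  carrier := {x | x ∈ D ∧ x ^ p ∈ P}
  one_mem' := ⟨one_mem D, by rw [one_pow]; exact one_mem P⟩
  inv_mem' := fun hx => ⟨inv_mem hx.1, by rw [inv_pow]; exact inv_mem hx.2⟩
  mul_mem' := fun {x y} hx hy => ⟨mul_mem hx.1 hy.1, by
    obtain ⟨i, hi⟩ := hcomm y hy.1 x hx.1
    have hc : ∀ d ∈ D, Commute ⁅y, x⁆ d := fun d hd => by
      rw [← hi]; exact (hζD d hd).zpow_left i
    rw [PGroup.mul_pow_of_commute_commutator (hc x hx.1) (hc y hy.1) p]
    exact mul_mem (mul_mem hx.2 hy.2) (pow_mem (zpowers_le.mpr hζ (hcomm y hy.1 x hx.1)) _)⟩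

/-- The `p`-th powers of a class two characteristic subgroup with large cyclic centre. -/
theorem pow_trick (hG : IsPGroup p G)
    (hsymp : ∀ A : Subgroup G, A.Characteristic → IsMulCommutative A → IsCyclic A)
    (D : Subgroup G) (hD : D.Characteristic) {v ζ : G}
    (hv : D ⊓ centralizer (D : Set G) = zpowers v) (hζ : ζ ∈ zpowers v) (hζp : orderOf ζ = p)
    (hcomm : ∀ a ∈ D, ∀ b ∈ D, ⁅a, b⁆ ∈ zpowers ζ) (hord : p ^ 2 ∣ orderOf v) :
    ∀ x ∈ D, x ^ p ∈ zpowers (v ^ p) := by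
  have hpp := hp.out.pos
  have hvD : ∀ z ∈ zpowers v, z ∈ D ∧ ∀ d ∈ D, Commute z d := fun z hz => by
    have h : z ∈ D ⊓ centralizer (D : Set G) := hv ▸ hz
    exact ⟨h.1, fun d hd => (mem_centralizer_iff.mp h.2 d hd).symm⟩
  have hζD : ∀ d ∈ D, Commute ζ d := (hvD ζ hζ).2
  have hζvp : ζ ∈ zpowers (v ^ p) := by
    obtain ⟨i, rfl⟩ := (mem_powers_iff_mem_zpowers.mpr hζ)
    simp only at hζp ⊢
    have h1 : orderOf v ∣ i * p := by
      rw [orderOf_dvd_iff_pow_eq_one, pow_mul, ← hζp, pow_orderOf_eq_one]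
    have h2 : p * p ∣ i * p := by rw [← pow_two]; exact hord.trans h1
    obtain ⟨c, rfl⟩ := Nat.dvd_of_mul_dvd_mul_right hpp h2
    rw [pow_mul]
    exact pow_mem (mem_zpowers _) c
  have hxv : ∀ x ∈ D, x ^ p ∈ zpowers v := fun x hx => by
    rw [← hv]
    refine ⟨pow_mem hx p, mem_centralizer_iff.mpr fun y hy => ?_⟩
    refine (commutatorElement_eq_one_iff_mul_comm.mp ?_).symm
    obtain ⟨i, hi⟩ := hcomm x hx y hy
    have hc : Commute ⁅x, y⁆ x := by rw [← hi]; exact (hζD x hx).zpow_left i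
    rw [PGroup.commutatorElement_pow_left hc, ← hi, ← zpow_natCast, ← zpow_mul, mul_comm, zpow_mul,
      zpow_natCast, ← hζp, pow_orderOf_eq_one, one_zpow]
  let S := powMem p D (zpowers (v ^ p)) hζvp hcomm hζD
  have hvS : ∀ z ∈ zpowers v, z ∈ S := by
    refine fun z hz => (zpowers_le (H := S)).mpr ?_ hz
    exact ⟨(hvD v (mem_zpowers v)).1, mem_zpowers _⟩
  by_contra hcon
  push Not at hcon
  obtain ⟨a, haD, ha⟩ := hcon
  obtain ⟨i, hi⟩ := (mem_powers_iff_mem_zpowers.mpr (hxv a haD))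
  simp only at hi
  have hi' : ¬ p ∣ i := fun ⟨c, hc⟩ => ha (by rw [← hi, hc, pow_mul]; exact pow_mem (mem_zpowers _) c)
  -- `D` is generated by `a` over `S`
  have hgen : ∀ x ∈ D, ∃ k : ℕ, x * (a ^ k)⁻¹ ∈ S := by
    intro x hx
    obtain ⟨j, hj⟩ := (mem_powers_iff_mem_zpowers.mpr (hxv x hx))
    simp only at hj
    obtain ⟨k, hk⟩ : ∃ k : ℕ, (p : ℤ) ∣ (j : ℤ) - i * k := by
      refine ⟨((j : ZMod p) / (i : ZMod p)).val, ?_⟩
      rw [← ZMod.intCast_zmod_eq_zero_iff_dvd]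
      push_cast
      rw [ZMod.natCast_zmod_val, mul_div_cancel₀, sub_self]
      rwa [Ne, CharP.cast_eq_zero_iff (ZMod p) p]
    refine ⟨k, mul_mem hx (inv_mem (pow_mem haD k)), ?_⟩
    obtain ⟨l, hl⟩ := hcomm (a ^ k)⁻¹ (inv_mem (pow_mem haD k)) x hx
    have hc : ∀ d ∈ D, Commute ⁅(a ^ k)⁻¹, x⁆ d := fun d hd => by
      rw [← hl]; exact (hζD d hd).zpow_left l
    rw [PGroup.mul_pow_of_commute_commutator (hc x hx) (hc _ (inv_mem (pow_mem haD k))) p]
    refine mul_mem ?_ (pow_mem (zpowers_le.mpr hζvp (hcomm _ (inv_mem (pow_mem haD k)) x hx)) _)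
    obtain ⟨c, hc'⟩ := hk
    refine ⟨c, ?_⟩
    show (v ^ p) ^ c = x ^ p * ((a ^ k)⁻¹) ^ p
    rw [inv_pow, ← pow_mul a, mul_comm k p, pow_mul a, ← hi, ← hj, ← pow_mul v i k,
      ← zpow_natCast v p, ← zpow_mul, ← hc', zpow_sub, zpow_natCast, ← Nat.cast_mul, zpow_natCast]
  have hSD : S ≤ D := fun x hx => hx.1
  have hSchar : S.Characteristic := by
    have hvp : ∀ φ : G ≃* G, φ v ∈ zpowers v := fun φ => by
      have h0 : v ∈ D ⊓ centralizer (D : Set G) := hv ▸ mem_zpowers v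
      rw [← hv]
      refine ⟨characteristic_iff_le_comap.mp hD φ h0.1, mem_centralizer_iff.mpr fun d hd => ?_⟩
      obtain ⟨d, rfl⟩ := φ.surjective d
      have hd' : d ∈ D := by
        rw [← characteristic_iff_comap_eq.mp hD φ]; exact hd
      rw [← map_mul, ← map_mul, mem_centralizer_iff.mp h0.2 d hd']
    refine characteristic_iff_le_comap.mpr fun φ x hx => ?_
    refine ⟨characteristic_iff_le_comap.mp hD φ hx.1, ?_⟩
    show (φ x) ^ p ∈ zpowers (v ^ p)
    obtain ⟨j, hj⟩ := hx.2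
    rw [← map_pow, ← hj, map_zpow, map_pow]
    obtain ⟨l, hl⟩ := hvp φ
    rw [← hl, ← zpow_natCast (v ^ l), ← zpow_mul, ← zpow_mul, ← mul_assoc l, mul_comm l, mul_assoc,
      zpow_mul, zpow_natCast]
    exact zpow_mem (mem_zpowers _) _
  -- the centre of `S` is larger than that of `D`
  by_cases hW : ∀ w ∈ S, (∀ s ∈ S, Commute w s) → w ∈ zpowers v
  · haveI : S.Normal := normal_of_characteristic S
    have haS : a ∈ normalizer (S : Set G) := by rw [normalizer_eq_top]; trivial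
    obtain ⟨e, he⟩ := exists_inner (hG.to_subgroup S) (N := (zpowers ζ).subgroupOf S) (by
        rw [Nat.card_congr (subgroupOfEquivOfLe ?_).toEquiv, Nat.card_zpowers, hζp]
        exact zpowers_le.mpr (hvS ζ hζ))
      (fun x hx => mem_center_iff.mpr fun y => Subtype.ext (by
        obtain ⟨l, hl⟩ := hx
        have : Commute (x : G) y := by
          rw [show (x : G) = ζ ^ l from hl.symm]; exact (hζD y y.2.1).zpow_left l
        exact this.symm.eq))
      (fun x y => mem_subgroupOf.mpr (hcomm x x.2.1 y y.2.1))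
      (normalizerMonoidHom S ⟨a, haS⟩)
      (fun x => mem_subgroupOf.mpr (by
        have := hcomm a haD x x.2.1
        simpa [commutatorElement_def] using this))
      (fun z hz => Subtype.ext (by
        have hz' : (z : G) ∈ zpowers v := hW z z.2 fun s hs =>
          (congrArg Subtype.val (mem_center_iff.mp hz ⟨s, hs⟩)).symm
        have := ((hvD _ hz').2 a haD).symm
        simp [this.eq]))
    have hc : ∀ s ∈ S, Commute ((e : G)⁻¹ * a) s := fun s hs => by
      have h := congrArg Subtype.val (he ⟨s, hs⟩)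
      simp at h
      show (e : G)⁻¹ * a * s = s * ((e : G)⁻¹ * a)
      calc (e : G)⁻¹ * a * s = (e : G)⁻¹ * (a * s * a⁻¹) * a := by group
        _ = _ := by rw [h]; group
    have hcD : (e : G)⁻¹ * a ∈ D ⊓ centralizer (D : Set G) := by
      refine ⟨D.mul_mem (D.inv_mem e.2.1) haD, mem_centralizer_iff.mpr fun x hx => ?_⟩
      obtain ⟨k, hk⟩ := hgen x hx
      have h1 : Commute ((e : G)⁻¹ * a) a := by
        have h2 := (Commute.refl ((e : G)⁻¹ * a))
        have h3 : Commute ((e : G)⁻¹ * a) ((e : G) * ((e : G)⁻¹ * a)) := (hc e e.2).mul_right h2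
        rwa [mul_inv_cancel_left] at h3
      have h4 := (hc _ hk).mul_right (h1.pow_right k)
      rw [inv_mul_cancel_right] at h4
      exact h4.symm.eq
    have hcS : (e : G)⁻¹ * a ∈ S := hvS _ (hv ▸ hcD)
    have haS' : a ∈ S := by simpa using mul_mem e.2 hcS
    exact ha haS'.2
  push Not at hW
  obtain ⟨r, hrS, hr, hrv⟩ := hW
  obtain ⟨j, hj⟩ := hrS.2
  set r' := r * (v ^ j)⁻¹ with hr'
  have hvj : v ^ j ∈ zpowers v := ⟨j, rfl⟩
  have hr'S : r' ∈ S := mul_mem hrS (inv_mem (hvS _ hvj))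
  have hr'c : ∀ s ∈ S, Commute r' s := fun s hs =>
    (hr s hs).mul_left (((hvD _ hvj).2 s hs.1).inv_left)
  have hr'p : r' ^ p = 1 := by
    rw [hr', (((hvD _ hvj).2 r hrS.1).symm.inv_right).mul_pow, ← hj, inv_pow, ← zpow_natCast (v ^ j),
      ← zpow_mul, mul_comm j, zpow_mul, zpow_natCast]
    show (v ^ p) ^ j * ((v ^ p) ^ j)⁻¹ = 1
    rw [mul_inv_cancel]
  have hWchar : (S ⊓ centralizer (S : Set G)).Characteristic := by
    refine characteristic_iff_le_comap.mpr fun φ x hx =>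
      ⟨characteristic_iff_le_comap.mp hSchar φ hx.1, mem_centralizer_iff.mpr fun s hs => ?_⟩
    obtain ⟨s, rfl⟩ := φ.surjective s
    have hs' : s ∈ S := by rw [← characteristic_iff_comap_eq.mp hSchar φ]; exact hs
    show φ s * φ x = φ x * φ s
    rw [← map_mul, ← map_mul, mem_centralizer_iff.mp hx.2 s hs']
  have hWab : IsMulCommutative (S ⊓ centralizer (S : Set G) : Subgroup G) :=
    ⟨⟨fun x y => Subtype.ext (mem_centralizer_iff.mp y.2.2 x x.2.1)⟩⟩
  obtain ⟨w, hw⟩ := (Subgroup.isCyclic_iff_exists_zpowers_eq_top _).mp (hsymp _ hWchar hWab)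
  have hmem : r' ∈ zpowers ζ := by
    refine omega_mem (v := w) ?_ hζp ?_ hr'p
    · rw [hw]
      exact ⟨hvS ζ hζ, mem_centralizer_iff.mpr fun s hs => ((hζD s hs.1).eq).symm⟩
    · rw [hw]
      exact ⟨hr'S, mem_centralizer_iff.mpr fun s hs => ((hr'c s hs).eq).symm⟩
  refine hrv ?_
  have := mul_mem (zpowers_le.mpr hζ hmem) hvj
  rwa [hr', inv_mul_cancel_right] at this

/-- The extraspecial factor inside a critical subgroup. -/
theorem exists_factor (hG : IsPGroup p G)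
    (hsymp : ∀ A : Subgroup G, A.Characteristic → IsMulCommutative A → IsCyclic A) [Nontrivial G] :
    ∃ (E : Subgroup G) (u : G) (n : ℕ) (ζ : G),
      (E = ⊥ ∨ Cfsg.IsExtraspecial p E) ∧
      orderOf u = p ^ n ∧ 1 ≤ n ∧ ζ ∈ zpowers u ∧ orderOf ζ = p ∧ ζ ∈ center G ∧
      (∀ a ∈ E, ∀ b ∈ E, ⁅a, b⁆ ∈ zpowers ζ) ∧
      (∀ a ∈ E, (∀ b ∈ E, Commute a b) → a ∈ zpowers ζ) ∧
      (∀ e ∈ E, Commute e u) ∧
      (∀ r ∈ centralizer (E : Set G), Commute r u → r ∈ zpowers u) ∧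
      (∀ g : G, g * u * g⁻¹ ∈ zpowers u) ∧
      (∀ φ : G ≃* G, φ u ∈ zpowers u) ∧
      E ⊔ centralizer (E : Set G) = ⊤ := by
  obtain ⟨C, hC, hCC, hpw, hact⟩ := Fus93.exists_critical hG
  haveI := hC
  have hZchar : (C ⊓ centralizer (C : Set G)).Characteristic := by
    refine characteristic_iff_le_comap.mpr fun φ x hx =>
      ⟨characteristic_iff_le_comap.mp hC φ hx.1, mem_centralizer_iff.mpr fun s hs => ?_⟩
    obtain ⟨s, rfl⟩ := φ.surjective s
    have hs' : s ∈ C := by rw [← characteristic_iff_comap_eq.mp hC φ]; exact hs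
    show φ s * φ x = φ x * φ s
    rw [← map_mul, ← map_mul, mem_centralizer_iff.mp hx.2 s hs']
  obtain ⟨u, hu⟩ := (Subgroup.isCyclic_iff_exists_zpowers_eq_top _).mp (hsymp _ hZchar
    ⟨⟨fun x y => Subtype.ext (mem_centralizer_iff.mp y.2.2 x x.2.1)⟩⟩)
  have huC : ∀ z ∈ zpowers u, z ∈ C ∧ ∀ c ∈ C, Commute z c := fun z hz => by
    have h : z ∈ C ⊓ centralizer (C : Set G) := hu ▸ hz
    exact ⟨h.1, fun d hd => (mem_centralizer_iff.mp h.2 d hd).symm⟩
  have hmemu : ∀ z : G, (∀ c ∈ C, Commute z c) → z ∈ zpowers u := fun z hz => by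
    have h : z ∈ centralizer (C : Set G) := mem_centralizer_iff.mpr fun c hc => (hz c hc).symm.eq
    rw [hu]
    exact ⟨hCC h, h⟩
  have huφ : ∀ φ : G ≃* G, φ u ∈ zpowers u := fun φ => by
    rw [hu]; exact characteristic_iff_le_comap.mp hZchar φ (hu ▸ mem_zpowers u)
  obtain ⟨m₀, hn⟩ := hG u
  obtain ⟨n, -, hun⟩ := (Nat.dvd_prime_pow hp.out).mp (orderOf_dvd_of_pow_eq_one hn)
  have hn1 : 1 ≤ n := by
    by_contra h0
    obtain rfl : n = 0 := by omega
    rw [pow_zero, orderOf_eq_one_iff] at hun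
    subst hun
    haveI : Nontrivial (center G) := hG.center_nontrivial
    obtain ⟨⟨z, hz⟩, hz1⟩ := exists_ne (1 : center G)
    have := hmemu z fun c _ => PGroup.commute_of_mem_center hz c
    rw [zpowers_one_eq_bot, mem_bot] at this
    exact hz1 (Subtype.ext this)
  set ζ := u ^ p ^ (n - 1) with hζdef
  have hζu : ζ ∈ zpowers u := pow_mem (mem_zpowers u) _
  have hζp : orderOf ζ = p := by
    rw [hζdef, orderOf_pow_of_dvd (pow_ne_zero _ hp.out.pos.ne') (hun ▸ pow_dvd_pow p (by omega)),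
      hun, Nat.pow_div (by omega) hp.out.pos, show n - (n - 1) = 1 by omega, pow_one]
  haveI : (zpowers ζ).Normal := ⟨fun x hx g => by
    refine omega_mem (v := u) hζu hζp ?_ ?_
    · obtain ⟨i, hi⟩ := zpowers_le.mpr hζu hx
      rw [← hi]
      show MulAut.conj g (u ^ i) ∈ _
      rw [map_zpow]
      exact zpow_mem (huφ _) i
    · obtain ⟨i, hi⟩ := hx
      rw [← hi, conj_pow, ← zpow_natCast, ← zpow_mul, mul_comm, zpow_mul, zpow_natCast, ← hζp,
        pow_orderOf_eq_one, one_zpow, mul_one, mul_inv_cancel]⟩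
  have hζc : ζ ∈ center G :=
    PGroup.le_center_of_card_eq_prime hG (by rw [Nat.card_zpowers, hζp]) (mem_zpowers ζ)
  have hcomm : ∀ a ∈ C, ∀ b ∈ C, ⁅a, b⁆ ∈ zpowers ζ := by
    intro a ha b hb
    have h1 : ⁅a, b⁆ ∈ zpowers u := by
      refine hmemu _ fun c hc => ?_
      have h3 : a * b * a⁻¹ * b⁻¹ = b * (b⁻¹ * (a * b * a⁻¹)) * b⁻¹ := by group
      have h4 : b⁻¹ * (a * b * a⁻¹) ∈ zpowers u :=
        hmemu _ fun c hc => (mem_centralizer_iff.mp (hact b hb a) c hc).symm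
      rw [commutatorElement_def, h3, ← ((huC _ h4).2 b hb).eq, mul_inv_cancel_right]
      exact (huC _ h4).2 c hc
    refine omega_mem hζu hζp h1 ?_
    rw [← PGroup.commutatorElement_pow_left ((huC _ h1).2 a ha),
      commutatorElement_eq_one_iff_mul_comm]
    exact ((mem_centralizer_iff.mp (hpw a ha)) b hb).symm
  have hζC : ∀ c ∈ C, Commute ζ c := (huC ζ hζu).2
  let E₁ := powMem p C (zpowers ζ) (mem_zpowers ζ) hcomm hζC
  have hgenC : C ≤ E₁ ⊔ zpowers u := by
    intro x hx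
    have hxp : x ^ p ∈ zpowers u :=
      hmemu _ fun c hc => ((mem_centralizer_iff.mp (hpw x hx)) c hc).symm
    by_cases h2 : 2 ≤ n
    · obtain ⟨i, hi⟩ := pow_trick hG hsymp C hC hu.symm hζu hζp hcomm
        (by rw [hun]; exact pow_dvd_pow p h2) x hx
      have hui : (u ^ i)⁻¹ ∈ zpowers u := inv_mem ⟨i, rfl⟩
      have hE : x * (u ^ i)⁻¹ ∈ E₁ := by
        refine ⟨mul_mem hx (huC _ hui).1, ?_⟩
        rw [((huC _ hui).2 x hx).symm.mul_pow, ← hi, inv_pow, ← zpow_natCast (u ^ i), ← zpow_mul,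
          mul_comm i, zpow_mul, zpow_natCast]
        show (u ^ p) ^ i * ((u ^ p) ^ i)⁻¹ ∈ _
        rw [mul_inv_cancel]; exact one_mem _
      have := mul_mem_sup hE (inv_mem hui)
      rwa [inv_inv, inv_mul_cancel_right] at this
    · have h1 : n = 1 := by omega
      refine mem_sup_left ⟨hx, ?_⟩
      rwa [hζdef, h1, Nat.sub_self, pow_zero, pow_one]
  obtain ⟨E, ⟨hEE₁, hEgen⟩, hEmin⟩ :=
    ({E : Subgroup G | E ≤ E₁ ∧ C ≤ E ⊔ zpowers u}).toFinite.exists_minimal ⟨E₁, le_rfl, hgenC⟩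
  have hEC : E ≤ C := fun x hx => (hEE₁ hx).1
  have hEu : ∀ e ∈ E, Commute e u := fun e he => ((huC u (mem_zpowers u)).2 e (hEC he)).symm
  have hCcomm : ∀ x : G, (∀ e ∈ E, Commute x e) → Commute x u → ∀ c ∈ C, Commute x c := by
    intro x hxE hxu c hc
    have hle : E ⊔ zpowers u ≤ centralizer ({x} : Set G) := by
      refine sup_le (fun e he => ?_) (zpowers_le.mpr ?_)
      · exact mem_centralizer_iff.mpr (by rintro _ rfl; exact (hxE e he).eq)
      · exact mem_centralizer_iff.mpr (by rintro _ rfl; exact hxu.eq)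
    exact mem_centralizer_iff.mp (hle (hEgen hc)) x rfl
  -- the minimal choice meets `⟨u⟩` inside `⟨ζ⟩`
  have hmeet : ∀ x ∈ E, x ∈ zpowers u → x ∈ zpowers ζ := by
    intro x hxE hxu
    by_contra hxζ
    haveI : ((zpowers ζ).subgroupOf E).Normal := Normal.subgroupOf inferInstance E
    have hfr : frattini E ≤ (zpowers ζ).subgroupOf E := by
      refine PGroup.frattini_le_of_quotient ?_ fun e => mem_subgroupOf.mpr (hEE₁ e.2).2
      rw [_root_.commutator_def, commutator_le]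
      exact fun a _ b _ => mem_subgroupOf.mpr (hcomm a (hEC a.2) b (hEC b.2))
    obtain ⟨M, hM, hxM⟩ : ∃ M : Subgroup E, IsCoatom M ∧ (⟨x, hxE⟩ : E) ∉ M := by
      by_contra hall
      push Not at hall
      refine hxζ (mem_subgroupOf.mp (hfr (?_ : (⟨x, hxE⟩ : E) ∈ frattini E)))
      simp only [frattini, Order.radical, mem_iInf]
      exact fun M hM => hall M hM
    have hEM : ∀ e ∈ E, e ∈ M.map E.subtype ⊔ zpowers u := by
      intro e he
      have htop : M ⊔ zpowers (⟨x, hxE⟩ : E) = ⊤ :=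
        hM.2 _ (lt_of_le_of_ne le_sup_left fun h => hxM (h.symm ▸ mem_sup_right (mem_zpowers _)))
      have := mem_map_of_mem E.subtype (htop.ge (mem_top (⟨e, he⟩ : E)))
      rw [Subgroup.map_sup, MonoidHom.map_zpowers] at this
      exact (sup_le le_sup_left (le_trans (zpowers_le.mpr hxu) le_sup_right)) this
    have hle := hEmin ⟨(map_subtype_le M).trans hEE₁,
      hEgen.trans (sup_le hEM le_sup_right)⟩ (map_subtype_le M)
    obtain ⟨y, hy, hyx⟩ := hle hxE
    exact hxM ((Subtype.ext hyx : y = ⟨x, hxE⟩) ▸ hy)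
  have hcen : ∀ a ∈ E, (∀ b ∈ E, Commute a b) → a ∈ zpowers ζ := fun a ha hb =>
    hmeet a ha (hmemu a (hCcomm a hb (hEu a ha)))
  have hxs : E = ⊥ ∨ Cfsg.IsExtraspecial p E := by
    by_cases hab : ∃ a ∈ E, ∃ b ∈ E, ¬ Commute a b
    · exact Or.inr (extraspecial_of hG E hζp (fun a ha b hb => hcomm a (hEC ha) b (hEC hb))
        (fun a ha => (hEE₁ ha).2) hcen hζc hab)
    · push Not at hab
      left
      have hEu' : E ≤ zpowers u := fun a ha =>
        (zpowers_le.mpr hζu) (hcen a ha fun b hb => hab a ha b hb)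
      have hle := hEmin (show ⊥ ∈ {E : Subgroup G | E ≤ E₁ ∧ C ≤ E ⊔ zpowers u} from
        ⟨bot_le, hEgen.trans (sup_le (hEu'.trans le_sup_right) le_sup_right)⟩) bot_le
      exact le_bot_iff.mp hle
  refine ⟨E, u, n, ζ, hxs, hun, hn1, hζu, hζp, hζc,
    fun a ha b hb => hcomm a (hEC ha) b (hEC hb), hcen, hEu,
    fun r hr hru => hmemu r (hCcomm r (fun e he => ((mem_centralizer_iff.mp hr e he)).symm) hru),
    fun g => huφ (MulAut.conj g), huφ, ?_⟩
  rcases hxs with rfl | hE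
  · rw [bot_sup_eq, eq_top_iff]
    intro g _
    exact mem_centralizer_iff.mpr fun x hx => by rw [mem_bot.mp hx]; simp
  refine eq_top_iff.mpr fun g _ => ?_
  have hconj : ∀ x ∈ E, g * x * g⁻¹ * x⁻¹ ∈ zpowers ζ := by
    intro x hx
    have hz : x⁻¹ * (g * x * g⁻¹) ∈ zpowers u :=
      hmemu _ fun c hc => ((mem_centralizer_iff.mp (hact x (hEC hx) g)) c hc).symm
    have hzx : Commute (x⁻¹ * (g * x * g⁻¹)) x := (huC _ hz).2 x (hEC hx)
    have heq : g * x * g⁻¹ * x⁻¹ = x⁻¹ * (g * x * g⁻¹) := by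
      calc g * x * g⁻¹ * x⁻¹ = x * (x⁻¹ * (g * x * g⁻¹)) * x⁻¹ := by group
        _ = _ := by rw [← hzx.eq, mul_inv_cancel_right]
    rw [heq]
    refine omega_mem hζu hζp hz ?_
    have hcm : Commute x⁻¹ (g * x * g⁻¹) := by
      have h5 : Commute x (x * (x⁻¹ * (g * x * g⁻¹))) := (Commute.refl x).mul_right hzx.symm
      rw [mul_inv_cancel_left] at h5
      exact h5.inv_left
    rw [hcm.mul_pow, conj_pow, inv_pow]
    obtain ⟨i, hi⟩ := (hEE₁ hx).2
    have : Commute g (x ^ p) := by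
      rw [← hi]; exact ((PGroup.commute_of_mem_center hζc g).symm).zpow_right i
    rw [this.eq, mul_inv_cancel_right, inv_mul_cancel]
  have hζE : zpowers ζ ≤ E := by
    obtain ⟨⟨x, hxE⟩, hx, hx1, -⟩ := PGroup.exists_mem_pow_eq_one (hG.to_subgroup E)
      (H := center E) (fun hb => by
        have := hE.2; rw [hb, card_bot] at this; exact hp.out.one_lt.ne this)
    have hxζ := hcen x hxE fun b hb => (congrArg Subtype.val (mem_center_iff.mp hx ⟨b, hb⟩)).symm
    rw [← eq_of_le_of_card_ge (zpowers_le.mpr hxζ) (by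
      rw [Nat.card_zpowers, Nat.card_zpowers, hζp]
      have hd : orderOf x ∣ p := by
        have := orderOf_dvd_natCard (⟨x, hxζ⟩ : zpowers ζ)
        rwa [Nat.card_zpowers, hζp, Subgroup.orderOf_mk] at this
      rcases (Nat.dvd_prime hp.out).mp hd with h | h
      · exact absurd (Subtype.ext (orderOf_eq_one_iff.mp h)) hx1
      · exact h.ge)]
    exact zpowers_le.mpr hxE
  have hEn : g ∈ normalizer (E : Set G) := by
    rw [mem_normalizer_iff_map_conj_eq]
    refine eq_of_le_of_card_ge ?_ (card_map_of_injective (MulAut.conj g).injective).ge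
    rintro _ ⟨x, hx, rfl⟩
    have := mul_mem (hζE (hconj x hx)) hx
    rwa [inv_mul_cancel_right] at this
  obtain ⟨e, he⟩ := exists_inner (hG.to_subgroup E) (N := center E) hE.2 le_rfl
    (fun a b => hE.1.2.2 ▸ PGroup.commutatorElement_mem_commutator a b)
    (normalizerMonoidHom E ⟨g, hEn⟩)
    (fun x => mem_center_iff.mpr fun y => Subtype.ext (by
      have hc : Commute (g * (x : G) * g⁻¹ * (x : G)⁻¹) y := by
        obtain ⟨i, hi⟩ := hconj x x.2
        rw [← hi]; exact (PGroup.commute_of_mem_center hζc _).zpow_left i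
      simpa [mul_assoc] using hc.symm.eq))
    (fun z hz => Subtype.ext (by
      obtain ⟨i, hi⟩ := hcen z z.2 fun b hb => (congrArg Subtype.val (mem_center_iff.mp hz ⟨b, hb⟩)).symm
      have : Commute g (z : G) := by
        rw [← hi]; exact (PGroup.commute_of_mem_center hζc g).symm.zpow_right i
      simp [this.eq]))
  have hR : (e : G)⁻¹ * g ∈ centralizer (E : Set G) := mem_centralizer_iff.mpr fun x hx => by
    have h := congrArg Subtype.val (he ⟨x, hx⟩)
    simp at h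
    calc x * ((e : G)⁻¹ * g) = (e : G)⁻¹ * ((e : G) * x * (e : G)⁻¹) * g := by group
      _ = _ := by rw [← h]; group
  have := mul_mem_sup e.2 hR
  rwa [mul_inv_cancel_left] at this

end Cfsg.Agent.FG72.SymplecticType
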