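import Mathlib
import Cfsg.Agent.FG72.Symplectic

/-!
P. Hall's structure theorem for groups of symplectic type: the centralizer of the extraspecial
factor.
-/

set_option autoImplicit false

namespace Cfsg.Agent.FG72.SymplecticType

open Subgroup
open scoped commutatorElement Pointwise

variable {G : Type*} [Group G] [Finite G] {p : ℕ} [hp : Fact p.Prime]

/-- An element of `R` centralizing `u ^ p` but not `u` forces `G` to be extraspecial. -/
theorem exceptional (hG : IsPGroup p G)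
    (hsymp : ∀ A : Subgroup G, A.Characteristic → IsMulCommutative A → IsCyclic A)
    {E : Subgroup G} {u ζ : G} {n : ℕ} (hun : orderOf u = p ^ n) (hn1 : 1 ≤ n)
    (hζu : ζ ∈ zpowers u) (hζp : orderOf ζ = p) (hζc : ζ ∈ center G)
    (hEcomm : ∀ a ∈ E, ∀ b ∈ E, ⁅a, b⁆ ∈ zpowers ζ)
    (hEcen : ∀ a ∈ E, (∀ b ∈ E, Commute a b) → a ∈ zpowers ζ)
    (hEu : ∀ e ∈ E, Commute e u)
    (hself : ∀ r ∈ centralizer (E : Set G), Commute r u → r ∈ zpowers u)
    (hunorm : ∀ g : G, g * u * g⁻¹ ∈ zpowers u) (huchar : ∀ φ : G ≃* G, φ u ∈ zpowers u)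
    (hgen : E ⊔ centralizer (E : Set G) = ⊤)
    {q : G} (hqE : q ∈ centralizer (E : Set G)) (hqu : q ∉ zpowers u) (hqp : Commute q (u ^ p)) :
    Cfsg.IsExtraspecial p (⊤ : Subgroup G) := by
  have hpp := hp.out.pos
  have hζg : ∀ g : G, Commute ζ g := fun g => PGroup.commute_of_mem_center hζc g
  have hζpow : ∀ z ∈ zpowers ζ, z ^ p = 1 := fun z hz => by
    have := pow_card_eq_one' (G := zpowers ζ) (x := ⟨z, hz⟩)
    rw [Nat.card_zpowers, hζp] at this
    exact congrArg Subtype.val this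
  set D := centralizer ({u ^ p} : Set G) with hDdef
  have memD : ∀ g : G, g ∈ D ↔ Commute g (u ^ p) := fun g => mem_centralizer_singleton_iff
  -- decomposition of `D`
  have hdec : ∀ g ∈ D, ∃ e ∈ E, ∃ r ∈ centralizer (E : Set G), Commute r (u ^ p) ∧ g = e * r := by
    intro g hg
    have hnorm : centralizer (E : Set G) ≤ normalizer (E : Set G) := centralizer_le_normalizer _
    have hmul : ((E ⊔ centralizer (E : Set G) : Subgroup G) : Set G) = (E : Set G) * (centralizer (E : Set G) : Set G) :=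
      coe_mul_of_right_le_normalizer_left _ _ hnorm
    have hmem : g ∈ ((E ⊔ centralizer (E : Set G) : Subgroup G) : Set G) := by
      rw [hgen]; exact mem_top g
    rw [hmul] at hmem
    obtain ⟨e, he, r, hr, rfl⟩ := Set.mem_mul.mp hmem
    refine ⟨e, he, r, hr, ?_, rfl⟩
    have h1 := ((hEu e he).pow_right p).inv_left.mul_left ((memD _).mp hg)
    rwa [inv_mul_cancel_left] at h1
  -- the action of `R ∩ D` on `u`
  have hstep : ∀ r : G, Commute r (u ^ p) → r * u * r⁻¹ * u⁻¹ ∈ zpowers ζ := by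
    intro r hr
    refine omega_mem (v := u) hζu hζp (mul_mem (hunorm r) (inv_mem (mem_zpowers u))) ?_
    have hc : Commute (r * u * r⁻¹) u⁻¹ := by
      obtain ⟨i, hi⟩ := hunorm r
      rw [← hi]; exact ((Commute.refl u).zpow_left i).inv_right
    rw [hc.mul_pow, conj_pow, hr.eq, mul_inv_cancel_right, inv_pow, mul_inv_cancel]
  set c := q * u * q⁻¹ * u⁻¹ with hcdef
  have hc1 : c ≠ 1 := fun h => hqu (hself q hqE (by
    show q * u = u * q
    exact mul_inv_eq_iff_eq_mul.mp (mul_inv_eq_one.mp h)))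
  have hczero : ∀ i : ℤ, c ^ i = 1 → (p : ℤ) ∣ i := fun i hi => by
    have h := orderOf_dvd_iff_zpow_eq_one.mpr hi
    rwa [orderOf_eq_prime (p := p) (hζpow _ (hstep q hqp)) hc1] at h
  -- every such element is a product of powers of `q` and `u`
  have hQU : ∀ r ∈ centralizer (E : Set G), Commute r (u ^ p) →
      r ∈ closure ({q, u} : Set G) := by
    intro r hrE hr
    have hcgen : zpowers c = zpowers ζ := by
      refine eq_of_le_of_card_ge (zpowers_le.mpr (hstep q hqp)) ?_
      rw [Nat.card_zpowers, Nat.card_zpowers, hζp,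
        orderOf_eq_prime (p := p) (hζpow _ (hstep q hqp)) hc1]
    obtain ⟨k, hk⟩ := mem_powers_iff_mem_zpowers.mpr (hcgen ▸ hstep r hr : r * u * r⁻¹ * u⁻¹ ∈ zpowers c)
    simp only at hk
    have hq : ∀ k : ℕ, q ^ k * u * (q ^ k)⁻¹ = c ^ k * u := by
      intro k
      induction k with
      | zero => simp
      | succ k ih =>
        have hcq : Commute q c := by
          obtain ⟨i, hi⟩ := hstep q hqp
          rw [hcdef, ← hi]; exact ((hζg q).symm).zpow_right i
        calc q ^ (k + 1) * u * (q ^ (k + 1))⁻¹ = q * (q ^ k * u * (q ^ k)⁻¹) * q⁻¹ := by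
              rw [pow_succ']; group
          _ = q * c ^ k * u * q⁻¹ := by rw [ih]; group
          _ = c ^ k * (q * u * q⁻¹) := by rw [(hcq.pow_right k).eq]; group
          _ = _ := by rw [hcdef, pow_succ]; group
    have hru : r * u * r⁻¹ = q ^ k * u * (q ^ k)⁻¹ := by
      rw [hq, hk, inv_mul_cancel_right]
    have h2 : (q ^ k)⁻¹ * r ∈ zpowers u := by
      refine hself _ (mul_mem (inv_mem (pow_mem hqE k)) hrE) ?_
      show (q ^ k)⁻¹ * r * u = u * ((q ^ k)⁻¹ * r)
      calc (q ^ k)⁻¹ * r * u = (q ^ k)⁻¹ * (r * u * r⁻¹) * r := by group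
        _ = _ := by rw [hru]; group
    have hu' : zpowers u ≤ closure ({q, u} : Set G) := zpowers_le.mpr (subset_closure (by simp))
    have h3 := mul_mem (pow_mem (subset_closure (Set.mem_insert q {u})) k : q ^ k ∈ closure ({q, u} : Set G)) (hu' h2)
    rwa [mul_inv_cancel_left] at h3
  haveI hN : (zpowers ζ).Normal := ⟨fun x hx g => by
    obtain ⟨i, rfl⟩ := hx
    have := ((hζg g).zpow_left i).symm
    show g * ζ ^ i * g⁻¹ ∈ _
    rw [this.eq, mul_inv_cancel_right]
    exact zpow_mem (mem_zpowers ζ) i⟩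
  have hcommD : ∀ a ∈ D, ∀ b ∈ D, ⁅a, b⁆ ∈ zpowers ζ := by
    have hlist : ∀ a ∈ D, a ∈ closure ((E : Set G) ∪ {q, u}) := by
      intro a ha
      obtain ⟨e, he, r, hr, hrp, rfl⟩ := hdec a ha
      exact mul_mem (subset_closure (Or.inl he))
        (closure_mono Set.subset_union_right (hQU r hr hrp))
    let π := QuotientGroup.mk' (zpowers ζ)
    have hπ : ∀ x ∈ ((E : Set G) ∪ {q, u}), ∀ y ∈ ((E : Set G) ∪ {q, u}),
        Commute (π x) (π y) := by
      have hz : ∀ x y : G, ⁅x, y⁆ ∈ zpowers ζ → Commute (π x) (π y) := fun x y h =>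
        commutatorElement_eq_one_iff_mul_comm.mp (by
          rw [← map_commutatorElement]; exact (QuotientGroup.eq_one_iff _).mpr h)
      have hz1 : ∀ x y : G, Commute x y → Commute (π x) (π y) := fun x y h => h.map π
      have hqu' : Commute (π q) (π u) := hz q u (by
        rw [commutatorElement_def]; exact hstep q hqp)
      have hEq : ∀ e ∈ E, Commute e q := fun e he => (mem_centralizer_iff.mp hqE e he)
      rintro x (hx | hx | hx) y (hy | hy | hy) <;> subst_vars
      · exact hz x y (hEcomm x hx y hy)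
      · exact hz1 _ _ (hEq x hx)
      · exact hz1 _ _ (hEu x hx)
      · exact hz1 _ _ (hEq y hy).symm
      · exact Commute.refl _
      · exact hqu'
      · exact hz1 _ _ (hEu y hy).symm
      · exact hqu'.symm
      · exact Commute.refl _
    have hab : ∀ x ∈ closure ((E : Set G) ∪ {q, u}), ∀ y ∈ closure ((E : Set G) ∪ {q, u}),
        Commute (π x) (π y) := by
      intro x hx y hy
      induction hx using closure_induction with
      | mem x hx =>
        induction hy using closure_induction with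
        | mem y hy => exact hπ x hx y hy
        | one => rw [map_one]; exact Commute.one_right _
        | mul a b _ _ ha hb => rw [map_mul]; exact ha.mul_right hb
        | inv a _ ha => rw [map_inv]; exact ha.inv_right
      | one => rw [map_one]; exact Commute.one_left _
      | mul a b _ _ ha hb => rw [map_mul]; exact ha.mul_left hb
      | inv a _ ha => rw [map_inv]; exact ha.inv_left
    intro a ha b hb
    refine (QuotientGroup.eq_one_iff _).mp ?_
    show π ⁅a, b⁆ = 1
    rw [map_commutatorElement]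
    exact commutatorElement_eq_one_iff_mul_comm.mpr (hab a (hlist a ha) b (hlist b hb))
  have hqD : q ∈ D := (memD q).mpr hqp
  have huD : u ∈ D := (memD u).mpr ((Commute.refl u).pow_right p)
  have hED : ∀ e ∈ E, e ∈ D := fun e he => (memD e).mpr ((hEu e he).pow_right p)
  -- the centre of `D`
  have hcenD : ∀ x ∈ D, (∀ y ∈ D, Commute x y) → x ∈ zpowers (u ^ p) := by
    intro x hx hxc
    obtain ⟨e, he, r, hr, hrp, rfl⟩ := hdec x hx
    have hez : e ∈ zpowers ζ := hEcen e he fun b hb => by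
      have h := hxc b (hED b hb)
      have h2 : Commute r b := (mem_centralizer_iff.mp hr b hb).symm
      have := h.mul_left h2.inv_left
      rwa [mul_inv_cancel_right] at this
    have hxE : e * r ∈ centralizer (E : Set G) := mul_mem (mem_centralizer_iff.mpr fun b _ => by
      obtain ⟨i, hi⟩ := hez
      rw [← hi]; exact ((hζg b).zpow_left i).symm.eq) hr
    obtain ⟨i, hi⟩ := hself _ hxE (hxc u huD)
    simp only at hi
    rw [← hi] at hxc ⊢
    have h3 := hxc q hqD
    have h4 : c ^ i = 1 := by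
      have hcu : Commute c u := by
        obtain ⟨j, hj⟩ := hstep q hqp
        rw [hcdef, ← hj]; exact (hζg u).zpow_left j
      have h5 : (q * u * q⁻¹) ^ i = u ^ i := by
        rw [conj_zpow, h3.symm.eq, mul_inv_cancel_right]
      rw [show q * u * q⁻¹ = c * u by rw [hcdef]; group, hcu.mul_zpow, mul_eq_right] at h5
      exact h5
    obtain ⟨j, hj⟩ := hczero i h4
    exact ⟨j, by rw [hj]; show (u ^ p) ^ j = u ^ ((p : ℤ) * j); rw [zpow_mul, zpow_natCast]⟩
  rcases Nat.lt_or_ge n 3 with hn | hn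
  · -- `u ^ p` is central, so `D = G`
    have hupz : u ^ p ∈ zpowers ζ := by
      refine omega_mem (v := u) hζu hζp (pow_mem (mem_zpowers u) p) ?_
      rw [← pow_mul, ← orderOf_dvd_iff_pow_eq_one, hun, ← pow_two]
      exact pow_dvd_pow p (by omega)
    have hall : ∀ g : G, g ∈ D := fun g => (memD g).mpr (by
      obtain ⟨i, hi⟩ := hupz
      rw [← hi]; exact (hζg g).symm.zpow_right i)
    refine extraspecial_of hG ⊤ hζp (fun a _ b _ => hcommD a (hall a) b (hall b)) ?_ ?_ hζc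
      ⟨q, trivial, u, trivial, fun h => hqu (hself q hqE h)⟩
    · intro a _
      refine zpowers_le.mpr hupz (hcenD _ (hall _) fun y _ => ?_)
      refine commutatorElement_eq_one_iff_mul_comm.mp ?_
      have hc' : Commute ⁅a, y⁆ a := by
        obtain ⟨i, hi⟩ := hcommD a (hall a) y (hall y)
        rw [← hi]; exact (hζg a).zpow_left i
      rw [PGroup.commutatorElement_pow_left hc', hζpow _ (hcommD a (hall a) y (hall y))]
    · exact fun a _ h => zpowers_le.mpr hupz (hcenD a (hall a) fun y _ => h y trivial)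
  · exfalso
    have hord : orderOf (u ^ p) = p ^ (n - 1) := by
      rw [orderOf_pow_of_dvd hpp.ne' (hun ▸ dvd_pow_self p (by omega)), hun]
      exact Nat.div_eq_of_eq_mul_left hpp (by rw [← pow_succ, Nat.sub_add_cancel hn1])
    have hζup : ζ ∈ zpowers (u ^ p) := hcenD ζ ((memD ζ).mpr (hζg _)) fun y _ => hζg y
    have hDchar : D.Characteristic := by
      refine characteristic_iff_le_comap.mpr fun φ x hx => (memD _).mpr ?_
      obtain ⟨i, hi⟩ := huchar φ.symm
      have h1 : Commute x (φ.symm (u ^ p)) := by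
        rw [map_pow, ← hi, ← zpow_natCast (u ^ i), ← zpow_mul, mul_comm, zpow_mul, zpow_natCast]
        exact ((memD x).mp hx).zpow_right i
      have h2 := h1.map φ.toMonoidHom
      simpa using h2
    have hDv : D ⊓ centralizer (D : Set G) = zpowers (u ^ p) := by
      refine le_antisymm (fun x hx => hcenD x hx.1 fun y hy => (mem_centralizer_iff.mp hx.2 y hy).symm) ?_
      refine zpowers_le.mpr ⟨(memD _).mpr (Commute.refl _), mem_centralizer_iff.mpr fun y hy => ?_⟩
      exact ((memD y).mp hy).eq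
    obtain ⟨i, hi⟩ := pow_trick hG hsymp D hDchar hDv hζup hζp hcommD
      (by rw [hord]; exact pow_dvd_pow p (by omega)) u huD
    have h1 : u ^ ((p : ℤ) * ((p : ℤ) * i - 1)) = 1 := by
      rw [mul_sub, mul_one, zpow_sub, zpow_natCast, ← mul_assoc, zpow_mul, ← Nat.cast_mul,
        zpow_natCast, pow_mul]
      rw [mul_inv_eq_one]
      exact hi
    have h2 := orderOf_dvd_iff_zpow_eq_one.mpr h1
    rw [hun] at h2
    push_cast at h2
    have h3 : (p : ℤ) ∣ (p : ℤ) * i - 1 := by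
      obtain ⟨k, rfl⟩ : ∃ k, n = k + 2 := ⟨n - 2, by omega⟩
      rw [pow_succ' (p : ℤ) (k + 1), mul_dvd_mul_iff_left (by exact_mod_cast hpp.ne')] at h2
      exact (dvd_pow_self (p : ℤ) (Nat.succ_ne_zero k)).trans h2
    have h4 : (p : ℤ) ∣ 1 := by
      have := dvd_sub (dvd_mul_right (p : ℤ) i) h3
      simpa using this
    exact hp.out.one_lt.ne' (Nat.dvd_one.mp (by exact_mod_cast h4))

theorem main (hG : IsPGroup p G)
    (hsymp : ∀ A : Subgroup G, A.Characteristic → IsMulCommutative A → IsCyclic A) :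
    ∃ E R : Subgroup G, (∀ e ∈ E, ∀ r ∈ R, e * r = r * e) ∧ E ⊔ R = ⊤ ∧
      (E = ⊥ ∨ Cfsg.IsExtraspecial p ↥E) ∧
      (IsCyclic R ∨ (p = 2 ∧ 16 ≤ Nat.card R ∧ ((∃ m : ℕ, Nonempty (↥R ≃* DihedralGroup m)) ∨
        (∃ m : ℕ, Nonempty (↥R ≃* QuaternionGroup m)) ∨ Cfsg.IsQuasiDihedral ↥R))) := by
  rcases subsingleton_or_nontrivial G with hs | hs
  · exact ⟨⊥, ⊤, fun e he r _ => by rw [mem_bot.mp he]; simp, bot_sup_eq _, Or.inl rfl,
      Or.inl inferInstance⟩
  obtain ⟨E, u, n, ζ, hxs, hun, hn1, hζu, hζp, hζc, hEcomm, hEcen, hEu, hself, hunorm, huchar, hgen⟩ :=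
    exists_factor hG hsymp
  set R := centralizer (E : Set G) with hR
  by_cases hexc : ∃ q ∈ R, q ∉ zpowers u ∧ Commute q (u ^ p)
  · obtain ⟨q, hq, hqu, hqp⟩ := hexc
    have hx := exceptional hG hsymp hun hn1 hζu hζp hζc hEcomm hEcen hEu hself hunorm huchar hgen
      hq hqu hqp
    exact ⟨⊤, ⊥, fun e _ r hr => by rw [mem_bot.mp hr]; simp, top_sup_eq _, Or.inr hx,
      Or.inl inferInstance⟩
  push Not at hexc
  refine ⟨E, R, fun e he r hr => mem_centralizer_iff.mp hr e he, hgen, hxs, ?_⟩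
  by_cases hRU : R ≤ zpowers u
  · exact Or.inl (isCyclic_of_le hRU)
  right
  -- the exponent by which an element acts on `u`
  have hact : ∀ r : G, ∃ a : ℕ, r * u * r⁻¹ = u ^ a := fun r => by
    obtain ⟨a, ha⟩ := mem_powers_iff_mem_zpowers.mpr (hunorm r)
    exact ⟨a, ha.symm⟩
  have huz : ∀ a b : ℤ, u ^ a = u ^ b ↔ ((p : ℤ) ^ n) ∣ a - b := fun a b => by
    rw [zpow_eq_zpow_iff_modEq, hun, Int.modEq_comm, Int.modEq_iff_dvd]
    push_cast; rfl
  have hiter : ∀ (r : G) (a : ℕ), r * u * r⁻¹ = u ^ a → ∀ k : ℕ,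
      r ^ k * u * (r ^ k)⁻¹ = u ^ a ^ k := by
    intro r a ha k
    induction k with
    | zero => simp
    | succ k ih =>
      calc r ^ (k + 1) * u * (r ^ (k + 1))⁻¹ = r * (r ^ k * u * (r ^ k)⁻¹) * r⁻¹ := by
            rw [pow_succ']; group
        _ = _ := by rw [ih, ← conj_pow, ha, ← pow_mul, pow_succ']
  -- no element acts congruent to one
  have hno : ∀ q ∈ R, q ∉ zpowers u → ∀ a : ℕ, q * u * q⁻¹ = u ^ a →
      ¬ (p : ℤ) ^ n ∣ (p : ℤ) * ((a : ℤ) - 1) := by
    intro q hq hqu a ha hdvd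
    refine hexc q hq hqu ?_
    show q * u ^ p = u ^ p * q
    rw [← mul_inv_eq_iff_eq_mul, ← conj_pow, ha, ← zpow_natCast u p, ← pow_mul, ← zpow_natCast,
      huz]
    push_cast
    rwa [show (a : ℤ) * p - p = p * (a - 1) by ring]
  have hlast : ∀ r : G, r ∈ R → r ∉ zpowers u → ∃ i : ℕ, r ^ p ^ i ∉ zpowers u ∧
      r ^ p ^ (i + 1) ∈ zpowers u := by
    intro r _ hru
    classical
    obtain ⟨k, hk⟩ := hG r
    have hex : ∃ i, r ^ p ^ i ∈ zpowers u := ⟨k, by rw [hk]; exact one_mem _⟩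
    obtain ⟨i, hi⟩ : ∃ i, Nat.find hex = i + 1 := by
      refine Nat.exists_eq_succ_of_ne_zero fun h => hru ?_
      have := Nat.find_spec hex
      rwa [h, pow_zero, pow_one] at this
    exact ⟨i, Nat.find_min hex (by omega), by have := Nat.find_spec hex; rwa [hi] at this⟩
  have hfixu : ∀ (q : G) (a : ℕ), q * u * q⁻¹ = u ^ a → q ^ p ∈ zpowers u →
      (p : ℤ) ^ n ∣ (a : ℤ) ^ p - 1 := by
    intro q a ha hqp
    have h1 := hiter q a ha p
    obtain ⟨i, hi⟩ := hqp
    rw [← hi, ((Commute.refl u).zpow_left i).eq, mul_inv_cancel_right] at h1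
    have h2 := (huz ((a : ℤ) ^ p) 1).mp (by
      rw [zpow_one, ← Nat.cast_pow, zpow_natCast]; exact h1.symm)
    exact h2
  obtain ⟨r, hrR, hru⟩ := SetLike.not_le_iff_exists.mp hRU
  have hp2 : p = 2 := by
    by_contra hne
    obtain ⟨i, hq, hqp⟩ := hlast r hrR hru
    obtain ⟨a, ha⟩ := hact (r ^ p ^ i)
    rw [pow_succ, pow_mul] at hqp
    exact hno _ (pow_mem hrR _) hq a ha
      (PGroup.dvd_mul_sub_one_of_dvd_pow_sub_one hne (hfixu _ a ha hqp))
  subst hp2
  refine ⟨rfl, ?_⟩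
  push_cast at hno hfixu huz
  -- acting congruent to one modulo four is impossible
  have hmod : ∀ q ∈ R, q ∉ zpowers u → q ^ 2 ∈ zpowers u → ∀ a : ℕ, q * u * q⁻¹ = u ^ a →
      (a : ℤ) % 4 ≠ 1 := by
    intro q hq hqu hq2 a ha h4
    refine hno q hq hqu a ha ?_
    have h := hfixu q a ha hq2
    obtain ⟨k, hk⟩ : ∃ k : ℤ, (a : ℤ) = 4 * k + 1 := ⟨(a : ℤ) / 4, by omega⟩
    rw [hk] at h ⊢
    have h' : (2 : ℤ) ^ n ∣ (2 * (4 * k + 1 - 1)) * (2 * k + 1) := by
      convert h using 1; ring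
    exact IsCoprime.dvd_of_dvd_mul_right
      (IsCoprime.pow_left ⟨-k, 1, by ring⟩) h'
  have hodd : ∀ q : G, ∀ a : ℕ, q * u * q⁻¹ = u ^ a → (a : ℤ) % 2 = 1 := by
    intro q a ha
    rcases Nat.even_or_odd a with ⟨b, hb⟩ | ⟨b, hb⟩
    · exfalso
      have h1 : (q * u * q⁻¹) ^ 2 ^ (n - 1) = 1 := by
        rw [ha, ← pow_mul, ← orderOf_dvd_iff_pow_eq_one, hun, hb,
          show (b + b) * 2 ^ (n - 1) = b * (2 * 2 ^ (n - 1)) by ring, ← pow_succ',
          Nat.sub_add_cancel hn1]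
        exact dvd_mul_left _ _
      rw [conj_pow, mul_inv_eq_one, mul_eq_left, ← orderOf_dvd_iff_pow_eq_one, hun,
        Nat.pow_dvd_pow_iff_le_right (by norm_num)] at h1
      omega
    · rw [hb]; push_cast; omega
  have hsq : ∀ q ∈ R, q ^ 2 ∈ zpowers u := by
    intro q hq
    by_contra hq2
    obtain ⟨i, hi, hi2⟩ := hlast (q ^ 2) (pow_mem hq 2) hq2
    obtain ⟨a, ha⟩ := hact (q ^ 2 ^ i)
    have e : (q ^ 2) ^ 2 ^ i = (q ^ 2 ^ i) ^ 2 := by rw [← pow_mul, ← pow_mul, mul_comm]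
    refine hmod _ (pow_mem (pow_mem hq 2) _) hi ?_ (a ^ 2) ?_ ?_
    · rw [← pow_mul, ← pow_succ]; exact hi2
    · rw [e]; exact hiter _ a ha 2
    · have := hodd _ a ha
      obtain ⟨b, hb⟩ : ∃ b : ℤ, (a : ℤ) = 2 * b + 1 := ⟨(a : ℤ) / 2, by omega⟩
      push_cast
      rw [hb, show (2 * b + 1) ^ 2 = 4 * (b * b + b) + 1 by ring]
      omega
  have hthree : ∀ q ∈ R, q ∉ zpowers u → ∀ a : ℕ, q * u * q⁻¹ = u ^ a → (a : ℤ) % 4 = 3 := by
    intro q hq hqu a ha
    have := hmod q hq hqu (hsq q hq) a ha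
    have := hodd q a ha
    omega
  have hn3 : 3 ≤ n := by
    by_contra hlt
    refine hexc r hrR hru ?_
    have hup : u ^ 2 ∈ zpowers ζ := omega_mem (v := u) hζu hζp (pow_mem (mem_zpowers u) 2) (by
      rw [← pow_mul, ← orderOf_dvd_iff_pow_eq_one, hun]
      exact pow_dvd_pow 2 (show n ≤ 2 by omega))
    obtain ⟨i, hi⟩ := hup
    rw [← hi]
    exact ((PGroup.commute_of_mem_center hζc r).symm).zpow_right i
  have huR : u ∈ R := mem_centralizer_iff.mpr fun e he => (hEu e he).eq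
  obtain ⟨a, ha⟩ := hact r
  have hidx : ∀ q ∈ R, q ∈ zpowers u ∨ r * q ∈ zpowers u := by
    intro q hq
    by_contra hcon
    push Not at hcon
    obtain ⟨b, hb⟩ := hact q
    have h1 := hthree r hrR hru a ha
    have h2 := hthree q hq hcon.1 b hb
    have h3 : r * q * u * (r * q)⁻¹ = u ^ (a * b) := by
      calc r * q * u * (r * q)⁻¹ = r * (q * u * q⁻¹) * r⁻¹ := by group
        _ = _ := by rw [hb, ← conj_pow, ha, ← pow_mul]
    have h4 := hthree _ (mul_mem hrR hq) hcon.2 _ h3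
    push_cast at h4
    rw [Int.mul_emod, h1, h2] at h4
    omega
  have hUR : (zpowers u).subgroupOf R = zpowers (⟨u, huR⟩ : R) := by
    refine map_injective R.subtype_injective ?_
    rw [MonoidHom.map_zpowers, map_subgroupOf_eq_of_le (zpowers_le.mpr huR)]
    rfl
  have hi2 : ((zpowers u).subgroupOf R).index = 2 := by
    rw [index_eq_two_iff']
    refine ⟨⟨r, hrR⟩, fun b => ?_⟩
    simp only [mem_subgroupOf, Subgroup.coe_mul]
    rcases hidx b b.2 with h | h
    · refine Or.inr ⟨h, fun h' => hru ?_⟩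
      have := mul_mem h' (inv_mem h)
      rwa [mul_inv_cancel_right] at this
    · refine Or.inl ⟨h, fun h' => hru ?_⟩
      have := mul_mem h (inv_mem h')
      rwa [mul_inv_cancel_right] at this
  have hcardR : Nat.card R = 2 ^ (n + 1) := by
    rw [← card_mul_index ((zpowers u).subgroupOf R), hi2,
      Nat.card_congr (subgroupOfEquivOfLe (zpowers_le.mpr huR)).toEquiv, Nat.card_zpowers, hun,
      pow_succ]
  have hMC : FGS82.MC R := by
    refine ⟨⟨u, huR⟩, ⟨r, hrR⟩, n, a, by omega, by rw [Subgroup.orderOf_mk, hun], hcardR, ?_, ?_,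
      hthree r hrR hru a ha⟩
    · rw [← hUR, mem_subgroupOf]; exact hru
    · rw [zpow_natCast]; exact Subtype.ext ha
  refine ⟨?_, ?_⟩
  · rw [hcardR]
    calc (16 : ℕ) = 2 ^ 4 := by norm_num
      _ ≤ 2 ^ (n + 1) := Nat.pow_le_pow_right (by norm_num) (by omega)
  · rcases hMC.shapes with ⟨k, hk⟩ | ⟨k, hc, x, y, hx, hy, hxy⟩ | ⟨k, hk⟩
    · exact Or.inl ⟨_, hk⟩
    · exact Or.inr (Or.inr ⟨k + 3, by omega, hc, x, y, hx, hy, hxy⟩)
    · exact Or.inr (Or.inl ⟨_, hk⟩)

end Cfsg.Agent.FG72.SymplecticType
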