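import Mathlib

/-!
The counting lemma behind Vaughan-Lee's theorem: a group with a weight on functionals.
-/

set_option autoImplicit false

namespace Cfsg.Agent.FG72.VLCount

variable {p : ℕ} [hp : Fact p.Prime] {V : Type*} [AddCommGroup V] [Module (ZMod p) V]
  [FiniteDimensional (ZMod p) V] {G : Type*} [Fintype G] [Nonempty G]

theorem card_ann (W : Submodule (ZMod p) V) :
    Nat.card W.dualAnnihilator =
      p ^ (Module.finrank (ZMod p) V - Module.finrank (ZMod p) W) := by
  haveI : Finite V := Module.finite_of_finite (ZMod p)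
  haveI : Finite (Module.Dual (ZMod p) V) := Module.finite_of_finite (ZMod p)
  haveI : Fintype W.dualAnnihilator := Fintype.ofFinite _
  rw [Nat.card_eq_fintype_card, Module.card_eq_pow_finrank (K := ZMod p), ZMod.card]
  have := Subspace.finrank_add_finrank_dualAnnihilator_eq W
  congr 1
  omega

theorem card_dual : Nat.card (Module.Dual (ZMod p) V) = p ^ Module.finrank (ZMod p) V := by
  haveI : Finite (Module.Dual (ZMod p) V) := Module.finite_of_finite (ZMod p)
  haveI : Fintype (Module.Dual (ZMod p) V) := Fintype.ofFinite _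
  rw [Nat.card_eq_fintype_card, Module.card_eq_pow_finrank (K := ZMod p), ZMod.card,
    Subspace.dual_finrank_eq]

/-- If every functional outside `⟨η⟩` has many `x` with `η x ≠ 0` whose subspace it annihilates,
then not all these subspaces have dimension at least two. -/
theorem false_of_count (π : G → V) (S : G → Submodule (ZMod p) V) (η : Module.Dual (ZMod p) V)
    (hη : η ≠ 0) (hcard : p * Nat.card {x : G // η (π x) ≠ 0} = (p - 1) * Fintype.card G)
    (hS : ∀ x, η (π x) ≠ 0 → π x ∈ S x ∧ 2 ≤ Module.finrank (ZMod p) (S x))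
    (hmany : ∀ μ : Module.Dual (ZMod p) V, μ ∉ Submodule.span (ZMod p) {η} →
      (p - 1) ^ 2 * Fintype.card G ≤
        p ^ 3 * Nat.card {x : G // η (π x) ≠ 0 ∧ μ ∈ (S x).dualAnnihilator}) : False := by
  classical
  haveI : Finite V := Module.finite_of_finite (ZMod p)
  haveI : Finite (Module.Dual (ZMod p) V) := Module.finite_of_finite (ZMod p)
  haveI : Fintype (Module.Dual (ZMod p) V) := Fintype.ofFinite _
  set d := Module.finrank (ZMod p) V
  set X : Finset G := Finset.univ.filter fun x => η (π x) ≠ 0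
  set Y : Finset (Module.Dual (ZMod p) V) :=
    Finset.univ.filter fun μ => μ ∉ Submodule.span (ZMod p) {η}
  have hX : p * X.card = (p - 1) * Fintype.card G := by
    rw [← hcard, Nat.card_eq_fintype_card, Fintype.card_subtype]
  have hY : Y.card + p = p ^ d := by
    have h1 := Finset.card_filter_add_card_filter_not (s := (Finset.univ : Finset (Module.Dual (ZMod p) V)))
      (fun μ => μ ∈ Submodule.span (ZMod p) {η})
    have h2 : (Finset.univ.filter fun μ => μ ∈ Submodule.span (ZMod p) {η}).card = p := by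
      rw [← Fintype.card_subtype]
      show Fintype.card (Submodule.span (ZMod p) {η}) = p
      rw [Module.card_eq_pow_finrank (K := ZMod p), ZMod.card, finrank_span_singleton hη, pow_one]
    rw [Finset.card_univ, ← Nat.card_eq_fintype_card, card_dual] at h1
    rw [h2] at h1
    have h6 : Y.card + p = p + Y.card := Nat.add_comm _ _
    rw [h6]
    convert h1 using 3
  have hlow : Y.card * ((p - 1) ^ 2 * Fintype.card G) ≤
      ∑ μ ∈ Y, p ^ 3 * (X.filter fun x => μ ∈ (S x).dualAnnihilator).card := by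
    rw [← smul_eq_mul, ← Finset.sum_const]
    refine Finset.sum_le_sum fun μ hμ => ?_
    refine (hmany μ (Finset.mem_filter.mp hμ).2).trans ?_
    rw [Finset.filter_filter, Nat.card_eq_fintype_card, Fintype.card_subtype]
  have hup : ∀ x ∈ X, (Y.filter fun μ => μ ∈ (S x).dualAnnihilator).card + 1 ≤ p ^ (d - 2) := by
    intro x hx
    obtain ⟨h1, h2⟩ := hS x (Finset.mem_filter.mp hx).2
    have h3 : (Y.filter fun μ => μ ∈ (S x).dualAnnihilator) ⊂
        Finset.univ.filter fun μ => μ ∈ (S x).dualAnnihilator := by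
      refine Finset.ssubset_iff_of_subset (fun μ hμ => Finset.mem_filter.mpr
        ⟨Finset.mem_univ _, (Finset.mem_filter.mp hμ).2⟩) |>.mpr ⟨0, ?_, ?_⟩
      · exact Finset.mem_filter.mpr ⟨Finset.mem_univ _, zero_mem _⟩
      · intro h0
        exact (Finset.mem_filter.mp (Finset.mem_filter.mp h0).1).2 (zero_mem _)
    have h4 := Finset.card_lt_card h3
    rw [← Fintype.card_subtype (fun μ => μ ∈ (S x).dualAnnihilator), ← Nat.card_eq_fintype_card] at h4
    have h5 : Nat.card (S x).dualAnnihilator ≤ p ^ (d - 2) := by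
      rw [card_ann]
      exact Nat.pow_le_pow_right hp.out.pos (by omega)
    exact Nat.lt_of_lt_of_le h4 h5
  have hdbl : ∑ μ ∈ Y, (X.filter fun x => μ ∈ (S x).dualAnnihilator).card =
      ∑ x ∈ X, (Y.filter fun μ => μ ∈ (S x).dualAnnihilator).card :=
    Finset.sum_card_bipartiteAbove_eq_sum_card_bipartiteBelow
      (fun (μ : Module.Dual (ZMod p) V) x => μ ∈ (S x).dualAnnihilator)
  rw [← Finset.mul_sum, hdbl] at hlow
  have hle : ∑ x ∈ X, (Y.filter fun μ => μ ∈ (S x).dualAnnihilator).card ≤
      X.card * (p ^ (d - 2) - 1) := by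
    rw [← smul_eq_mul, ← Finset.sum_const]
    refine Finset.sum_le_sum fun x hx => ?_
    have := hup x hx
    omega
  have hmain : Y.card * ((p - 1) ^ 2 * Fintype.card G) ≤
      p ^ 2 * ((p - 1) * Fintype.card G) * (p ^ (d - 2) - 1) := by
    rw [← hX]
    refine hlow.trans ((Nat.mul_le_mul_left _ hle).trans_eq ?_)
    ring
  have hGpos : 0 < Fintype.card G := Fintype.card_pos
  have hp2 := hp.out.two_le
  obtain ⟨x, hx⟩ : X.Nonempty := by
    refine Finset.card_pos.mp (Nat.pos_of_ne_zero fun h0 => ?_)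
    rw [h0, mul_zero] at hX
    have := Nat.mul_pos (show 0 < p - 1 by omega) hGpos
    omega
  have hd : 2 ≤ d := (hS x (Finset.mem_filter.mp hx).2).2.trans (Submodule.finrank_le _)
  obtain ⟨e, he⟩ : ∃ e, d = e + 2 := ⟨d - 2, by omega⟩
  rw [he, Nat.add_sub_cancel] at hmain
  have hY' : Y.card + p = p ^ 2 * p ^ e := by rw [hY, he, pow_add]; ring
  have h7 : Y.card * (p - 1) * ((p - 1) * Fintype.card G) ≤
      p ^ 2 * (p ^ e - 1) * ((p - 1) * Fintype.card G) := by
    calc Y.card * (p - 1) * ((p - 1) * Fintype.card G)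
        = Y.card * ((p - 1) ^ 2 * Fintype.card G) := by ring
      _ ≤ p ^ 2 * ((p - 1) * Fintype.card G) * (p ^ e - 1) := hmain
      _ = _ := by ring
  have h8 := Nat.le_of_mul_le_mul_right h7 (Nat.mul_pos (by omega) hGpos)
  have h9 : Y.card ≤ Y.card * (p - 1) := Nat.le_mul_of_pos_right _ (by omega)
  have h10 : p ^ 2 * (p ^ e - 1) + p ^ 2 = p ^ 2 * p ^ e := by
    rw [← Nat.mul_succ]
    have := Nat.one_le_pow e p hp.out.pos
    congr 1; omega
  have h11 : p < p ^ 2 := by
    calc p = p ^ 1 := (pow_one p).symm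
      _ < p ^ 2 := Nat.pow_lt_pow_right hp.out.one_lt (by norm_num)
  omega

end Cfsg.Agent.FG72.VLCount
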