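import Mathlib
import Cfsg.Agent.Lib.PGroup.Basic
import Cfsg.Agent.FG72.ChiefFitting
import Cfsg.Agent.FG72.VLCount

/-!
Vaughan-Lee's theorem on the derived subgroup of a `p`-group of given breadth.
-/

set_option autoImplicit false

namespace Cfsg.Agent.FG72.VaughanLee

open Subgroup
open scoped commutatorElement Pointwise

variable {G : Type*} [Group G]

/-- The lower central series. -/
abbrev gam (G : Type*) [Group G] (m : ℕ) : Subgroup G := (⊤ : Subgroup G).lowerCentralSeries m

/-- The quotient in which `gam (m + 1)` is central. -/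
abbrev Qt (G : Type*) [Group G] (m : ℕ) : Type _ := G ⧸ gam G (m + 2)

theorem comm_mem_succ {m : ℕ} {g : G} (hg : g ∈ gam G m) (v : G) : ⁅g, v⁆ ∈ gam G (m + 1) :=
  commutator_mem_commutator hg (mem_top v)

theorem mk_mem_center {m : ℕ} {g : G} (hg : g ∈ gam G (m + 1)) :
    (g : Qt G m) ∈ center (Qt G m) := by
  rw [mem_center_iff]
  intro q
  induction q using QuotientGroup.induction_on with
  | H x =>
    refine (commutatorElement_eq_one_iff_mul_comm.mp ?_).symm
    rw [show ((g : Qt G m)) = QuotientGroup.mk' (gam G (m + 2)) g from rfl,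
      show ((x : Qt G m)) = QuotientGroup.mk' (gam G (m + 2)) x from rfl, ← map_commutatorElement]
    exact (QuotientGroup.eq_one_iff _).mpr (comm_mem_succ hg x)

theorem mk_conj {m : ℕ} {g : G} (hg : g ∈ gam G (m + 1)) (x : G) :
    ((x * g * x⁻¹ : G) : Qt G m) = (g : Qt G m) := by
  rw [QuotientGroup.mk_mul, QuotientGroup.mk_mul, mem_center_iff.mp (mk_mem_center hg) (x : Qt G m),
    QuotientGroup.mk_inv, mul_inv_cancel_right]

/-- Commutation with `v` from the `m`-th term into the next factor. -/
def adv (m : ℕ) (v : G) : gam G m →* Qt G m :=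
  MonoidHom.mk' (fun g => ((⁅(g : G), v⁆ : G) : Qt G m)) fun a b => by
    show ((⁅(a : G) * (b : G), v⁆ : G) : Qt G m) = _
    rw [show ⁅(a : G) * (b : G), v⁆ = (a : G) * ⁅(b : G), v⁆ * (a : G)⁻¹ * ⁅(a : G), v⁆ by
      simp only [commutatorElement_def]; group, QuotientGroup.mk_mul,
      mk_conj (comm_mem_succ b.2 v)]
    exact (mem_center_iff.mp (mk_mem_center (comm_mem_succ b.2 v)) _).symm

theorem adv_apply (m : ℕ) (v : G) (g : gam G m) :
    adv m v g = ((⁅(g : G), v⁆ : G) : Qt G m) := rfl

theorem range_le_center (m : ℕ) (v : G) : (adv m v).range ≤ center (Qt G m) := by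
  rintro _ ⟨g, rfl⟩
  exact mk_mem_center (comm_mem_succ g.2 v)

/-- The elements commuting with `v` modulo the third term. -/
def C0 (v : G) : Subgroup G :=
  (centralizer ({(v : Qt G 0)} : Set (Qt G 0))).comap (QuotientGroup.mk' (gam G 2))

theorem mem_C0 {v g : G} : g ∈ C0 v ↔ ⁅g, v⁆ ∈ gam G 2 := by
  rw [C0, mem_comap, mem_centralizer_singleton_iff]
  show Commute (g : Qt G 0) (v : Qt G 0) ↔ _
  rw [commute_iff_eq, ← commutatorElement_eq_one_iff_mul_comm,
    show (⁅(g : Qt G 0), (v : Qt G 0)⁆) = QuotientGroup.mk' (gam G 2) ⁅g, v⁆ from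
      (map_commutatorElement (QuotientGroup.mk' (gam G 2)) g v).symm]
  exact QuotientGroup.eq_one_iff _

variable [Finite G]

theorem card_map_sup_le {H : Type*} [Group H] [Finite H] {A B : Subgroup H} (hA : A ≤ center H) :
    Nat.card (A ⊔ B : Subgroup H) ≤ Nat.card A * Nat.card B := by
  haveI : A.Normal := ⟨fun a ha g => by
    rw [mem_center_iff.mp (hA ha) g, mul_inv_cancel_right]; exact ha⟩
  have h : ((A ⊔ B : Subgroup H) : Set H) = (A : Set H) * (B : Set H) := Subgroup.normal_mul A B
  have hsurj : Function.Surjective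
      (fun x : A × B => (⟨(x.1 : H) * x.2, mul_mem_sup x.1.2 x.2.2⟩ : (A ⊔ B : Subgroup H))) := by
    rintro ⟨y, hy⟩
    obtain ⟨a, ha, b, hb, rfl⟩ := Set.mem_mul.mp (h ▸ hy : y ∈ (A : Set H) * (B : Set H))
    exact ⟨(⟨a, ha⟩, ⟨b, hb⟩), rfl⟩
  exact (Nat.card_le_card_of_surjective _ hsurj).trans_eq (Nat.card_prod _ _)

/-- The images of the commutation maps of a generating list generate the next factor. -/
theorem map_gam_le (m : ℕ) {l : List G} (hl : closure {x | x ∈ l} = ⊤) :
    (gam G (m + 1)).map (QuotientGroup.mk' (gam G (m + 2))) ≤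
      ⨆ v ∈ l, (adv m v).range := by
  set R : Subgroup (Qt G m) := ⨆ v ∈ l, (adv m v).range
  rw [Subgroup.map_le_iff_le_comap]
  show ⁅gam G m, (⊤ : Subgroup G)⁆ ≤ _
  refine commutator_le.mpr fun g hg x _ => ?_
  let S : Subgroup G :=
    { carrier := {x | ((⁅g, x⁆ : G) : Qt G m) ∈ R}
      one_mem' := by
        show ((⁅g, (1 : G)⁆ : G) : Qt G m) ∈ R
        rw [commutatorElement_one_right]
        exact one_mem R
      mul_mem' := fun {a b} ha hb => by
        show ((⁅g, a * b⁆ : G) : Qt G m) ∈ R
        rw [show ⁅g, a * b⁆ = ⁅g, a⁆ * (a * ⁅g, b⁆ * a⁻¹) by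
          simp only [commutatorElement_def]; group, QuotientGroup.mk_mul, mk_conj (comm_mem_succ hg b)]
        exact mul_mem ha hb
      inv_mem' := fun {a} ha => by
        show ((⁅g, a⁻¹⁆ : G) : Qt G m) ∈ R
        rw [show ⁅g, a⁻¹⁆ = a⁻¹ * ⁅g, a⁆⁻¹ * a⁻¹⁻¹ by simp only [commutatorElement_def]; group,
          mk_conj (inv_mem (comm_mem_succ hg a)), QuotientGroup.mk_inv]
        exact inv_mem ha }
  have hS : (⊤ : Subgroup G) ≤ S := by
    rw [← hl, closure_le]
    intro v hv
    exact mem_iSup_of_mem v (mem_iSup_of_mem hv ⟨⟨g, hg⟩, rfl⟩)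
  exact hS (mem_top x)

theorem card_iSup_le (m : ℕ) : ∀ l : List G,
    Nat.card (⨆ v ∈ l, (adv m v).range : Subgroup (Qt G m)) ≤
      (l.map fun v => Nat.card (adv m v).range).prod := by
  intro l
  induction l with
  | nil => simp
  | cons a l ih =>
    rw [show (⨆ v ∈ a :: l, (adv m v).range) = (adv m a).range ⊔ ⨆ v ∈ l, (adv m v).range by
      simp [List.mem_cons, iSup_or, iSup_sup_eq]]
    refine (card_map_sup_le (range_le_center m a)).trans ?_
    rw [List.map_cons, List.prod_cons]
    exact Nat.mul_le_mul_left _ ih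

/-- The product of the orders of the commutation images of one element divides into its breadth. -/
theorem prod_range_le (v : G) : ∀ (k j : ℕ),
    (∏ i ∈ Finset.range k, Nat.card (adv (j + i) v).range) *
      Nat.card (centralizer ({v} : Set G)) ≤
      Nat.card (gam G j ⊔ centralizer ({v} : Set G) : Subgroup G) := by
  intro k
  induction k with
  | zero => intro j; simp; exact card_le_of_le le_sup_right
  | succ k ih =>
    intro j
    set A := gam G (j + 1) ⊔ centralizer ({v} : Set G)
    set B := gam G j ⊔ centralizer ({v} : Set G)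
    have hAB : A ≤ B := sup_le_sup_right (Subgroup.lowerCentralSeries_antitone _ j.le_succ) _
    have hker : A.subgroupOf (gam G j) ≤ (adv j v).ker := by
      rintro ⟨a, ha⟩ (haA : a ∈ A)
      rw [← SetLike.mem_coe, show A = gam G (j + 1) ⊔ centralizer ({v} : Set G) from rfl,
        Subgroup.normal_mul] at haA
      obtain ⟨h, hh, c, hc, rfl⟩ := Set.mem_mul.mp haA
      have hcv : Commute c v := mem_centralizer_singleton_iff.mp hc
      rw [MonoidHom.mem_ker, adv_apply]
      refine (QuotientGroup.eq_one_iff _).mpr ?_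
      rw [show ⁅h * c, v⁆ = ⁅h, v⁆ by
        rw [commutatorElement_def, mul_assoc h c v, hcv.eq, commutatorElement_def]; group]
      exact comm_mem_succ hh v
    have hidx : Nat.card (adv j v).range ≤ A.relIndex B := by
      rw [← index_ker]
      calc (adv j v).ker.index ≤ (A.subgroupOf (gam G j)).index :=
            Nat.le_of_dvd (Nat.pos_of_ne_zero index_ne_zero_of_finite) (index_dvd_of_le hker)
        _ ≤ A.relIndex B := relIndex_le_of_le_right le_sup_left index_ne_zero_of_finite
    have hcardB : Nat.card A * A.relIndex B = Nat.card B := by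
      rw [← Nat.card_congr (subgroupOfEquivOfLe hAB).toEquiv]
      exact (A.subgroupOf B).card_mul_index
    rw [Finset.prod_range_succ', add_zero]
    calc _ = Nat.card (adv j v).range *
          ((∏ i ∈ Finset.range k, Nat.card (adv (j + 1 + i) v).range) *
            Nat.card (centralizer ({v} : Set G))) := by
          rw [show ∏ i ∈ Finset.range k, Nat.card (adv (j + (i + 1)) v).range =
            ∏ i ∈ Finset.range k, Nat.card (adv (j + 1 + i) v).range from
              Finset.prod_congr rfl fun i _ => by rw [show j + (i + 1) = j + 1 + i by omega]]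
          ring
      _ ≤ A.relIndex B * Nat.card A := Nat.mul_le_mul hidx (ih (j + 1))
      _ = Nat.card B := by rw [mul_comm, hcardB]

theorem breadth_bound (v : G) {N : ℕ} (hv : (centralizer ({v} : Set G)).index ≤ N) (k : ℕ) :
    ∏ i ∈ Finset.range k, Nat.card (adv i v).range ≤ N := by
  have h1 := prod_range_le v k 0
  rw [Finset.prod_congr rfl fun i _ =>
    congrArg (fun j => Nat.card (adv j v).range) (Nat.zero_add i)] at h1
  refine le_trans ?_ hv
  refine Nat.le_of_mul_le_mul_right ?_ (Nat.card_pos (α := centralizer ({v} : Set G)))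
  refine h1.trans ((card_le_card_group _).trans_eq ?_)
  rw [← card_mul_index (centralizer ({v} : Set G)), mul_comm]

theorem card_gam_one (k : ℕ) :
    Nat.card (gam G 1) = Nat.card (gam G (k + 1)) *
      ∏ i ∈ Finset.range k, Nat.card ((gam G (i + 1)).map (QuotientGroup.mk' (gam G (i + 2)))) := by
  induction k with
  | zero => simp
  | succ k ih =>
    rw [ih, Finset.prod_range_succ]
    have h : Nat.card (gam G (k + 1)) = Nat.card (gam G (k + 2)) *
        Nat.card ((gam G (k + 1)).map (QuotientGroup.mk' (gam G (k + 2)))) := by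
      rw [show Nat.card ((gam G (k + 1)).map (QuotientGroup.mk' (gam G (k + 2)))) =
          (gam G (k + 2)).relIndex (gam G (k + 1)) by
        rw [← relIndex_ker, QuotientGroup.ker_mk']]
      rw [← Nat.card_congr (subgroupOfEquivOfLe
        (Subgroup.lowerCentralSeries_antitone (⊤ : Subgroup G) (Nat.le_succ (k + 1)))).toEquiv]
      exact ((gam G (k + 2)).subgroupOf (gam G (k + 1))).card_mul_index.symm
    rw [h]
    ring

theorem gam_one_le_of_sup [Group.IsNilpotent G] (N : Subgroup G) [N.Normal]
    (h : gam G 1 ≤ N ⊔ gam G 2) : gam G 1 ≤ N := by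
  have hk : ∀ k, gam G 1 ≤ N ⊔ gam G (k + 1) := by
    intro k
    induction k with
    | zero => exact le_sup_right
    | succ k ih =>
      refine h.trans (sup_le le_sup_left ?_)
      calc gam G 2 = ⁅gam G 1, (⊤ : Subgroup G)⁆ := rfl
        _ ≤ ⁅N ⊔ gam G (k + 1), (⊤ : Subgroup G)⁆ := commutator_mono ih le_rfl
        _ ≤ ⁅N, (⊤ : Subgroup G)⁆ ⊔ ⁅gam G (k + 1), (⊤ : Subgroup G)⁆ :=
            commutator_sup_left_le _ _ _
        _ ≤ N ⊔ gam G (k + 2) := sup_le_sup (commutator_le_left N ⊤) le_rfl
  obtain ⟨c, hc⟩ := Subgroup.nilpotent_iff_lowerCentralSeries.mp ‹Group.IsNilpotent G›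
  refine (hk c).trans (sup_le le_rfl ?_)
  exact (Subgroup.lowerCentralSeries_antitone _ c.le_succ).trans (hc.le.trans bot_le)

variable {p : ℕ} [hp : Fact p.Prime]

/-- Outside every maximal subgroup there is an element which commutes modulo the third term
only with its powers and the Frattini subgroup. -/
theorem exists_good (hG : IsPGroup p G)
    (hmax : ∀ M : Subgroup G, M.index = p → ⁅M, M⁆ ≠ gam G 1)
    (H : Subgroup G) (hH : H.index = p) :
    ∃ v : G, v ∉ H ∧ C0 v ≤ zpowers v ⊔ frattini G := by
  classical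
  haveI : Fintype G := Fintype.ofFinite G
  haveI : Group.IsNilpotent G := hG.isNilpotent
  letI : CommGroup (G ⧸ frattini G) :=
    { (inferInstance : Group (G ⧸ frattini G)) with
      mul_comm := fun a b => (PGroup.quotient_frattini_commute hG a b).eq }
  letI : Module (ZMod p) (Additive (G ⧸ frattini G)) :=
    AddCommGroup.zmodModule (n := p) (G := Additive (G ⧸ frattini G))
      fun x => PGroup.quotient_frattini_pow hG (Additive.toMul x)
  haveI : FiniteDimensional (ZMod p) (Additive (G ⧸ frattini G)) := Module.Finite.of_finite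
  let π : G → Additive (G ⧸ frattini G) := fun g => Additive.ofMul (g : G ⧸ frattini G)
  have hπmul : ∀ a b, π (a * b) = π a + π b := fun a b => rfl
  have hπ0 : ∀ g, g ∈ frattini G → π g = 0 := fun g hg =>
    congrArg Additive.ofMul ((QuotientGroup.eq_one_iff g).mpr hg)
  let Mk : Module.Dual (ZMod p) (Additive (G ⧸ frattini G)) → Subgroup G := fun μ =>
    { carrier := {g | μ (π g) = 0}
      one_mem' := by show μ (π 1) = 0; rw [hπ0 1 (one_mem _), map_zero]
      mul_mem' := fun {a b} ha hb => by
        show μ (π (a * b)) = 0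
        rw [hπmul, map_add, show μ (π a) = 0 from ha, show μ (π b) = 0 from hb, add_zero]
      inv_mem' := fun {a} ha => by
        show μ (π a⁻¹) = 0
        rw [show π a⁻¹ = -π a from rfl, map_neg, show μ (π a) = 0 from ha, neg_zero] }
  have hMk : ∀ μ g, g ∈ Mk μ ↔ μ (π g) = 0 := fun μ g => Iff.rfl
  have hMidx : ∀ μ, μ ≠ 0 → (Mk μ).index = p := by
    intro μ hμ
    let χ : G →* Multiplicative (ZMod p) :=
      MonoidHom.mk' (fun g => Multiplicative.ofAdd (μ (π g))) fun a b => by
        rw [hπmul, map_add]; rfl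
    have hker : χ.ker = Mk μ := by
      ext g
      rw [MonoidHom.mem_ker]
      exact ⟨fun h => Multiplicative.ofAdd.injective h, fun h => congrArg Multiplicative.ofAdd h⟩
    have hsurj : Function.Surjective χ := by
      intro y
      obtain ⟨x, hx⟩ := LinearMap.surjective hμ (Multiplicative.toAdd y)
      obtain ⟨g, hg⟩ := QuotientGroup.mk_surjective (Additive.toMul x)
      refine ⟨g, ?_⟩
      show Multiplicative.ofAdd (μ (π g)) = y
      rw [show π g = x by show Additive.ofMul (g : G ⧸ frattini G) = x; rw [hg]; rfl, hx]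
      rfl
    rw [← hker, index_ker, MonoidHom.range_eq_top.mpr hsurj, card_top]
    rw [Nat.card_congr Multiplicative.toAdd, Nat.card_zmod]
  -- a functional cutting out `H`
  have hHΦ : frattini G ≤ H :=
    frattini_le_coatom (PGroup.isCoatom_of_index_prime (hH ▸ hp.out))
  let Hs : Submodule (ZMod p) (Additive (G ⧸ frattini G)) :=
    AddSubgroup.toZModSubmodule p (Subgroup.toAddSubgroup (H.map (QuotientGroup.mk' (frattini G))))
  have hHs : ∀ g, π g ∈ Hs ↔ g ∈ H := by
    intro g
    show QuotientGroup.mk' (frattini G) g ∈ H.map (QuotientGroup.mk' (frattini G)) ↔ _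
    rw [← mem_comap, comap_map_eq, QuotientGroup.ker_mk', sup_eq_left.mpr hHΦ]
  have hHne : Hs < ⊤ := by
    refine lt_top_iff_ne_top.mpr fun h => ?_
    have : H = ⊤ := (eq_top_iff' H).mpr fun g => (hHs g).mp (h ▸ Submodule.mem_top)
    rw [this, index_top] at hH
    exact hp.out.one_lt.ne hH
  obtain ⟨η, hη, hηH⟩ := Submodule.exists_dual_map_eq_bot_of_lt_top hHne inferInstance
  have hηmem : ∀ g, η (π g) = 0 ↔ g ∈ H := by
    have hle : H ≤ Mk η := fun g hg => by
      have : η (π g) ∈ Hs.map η := Submodule.mem_map_of_mem ((hHs g).mpr hg)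
      rwa [hηH, Submodule.mem_bot] at this
    have heq : H = Mk η := by
      refine eq_of_le_of_card_ge hle ?_
      have h1 := card_mul_index H
      have h2 := card_mul_index (Mk η)
      rw [hH] at h1
      rw [hMidx η hη, ← h1] at h2
      exact (Nat.eq_of_mul_eq_mul_right hp.out.pos h2).le
    exact fun g => by rw [heq]; rfl
  by_contra hcon
  push Not at hcon
  -- the subspace attached to an element
  let S : G → Submodule (ZMod p) (Additive (G ⧸ frattini G)) := fun v =>
    Submodule.span (ZMod p) (π '' (C0 v : Set G))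
  have hselfC : ∀ v : G, v ∈ C0 v := fun v => mem_C0.mpr (by
    rw [commutatorElement_self]; exact one_mem _)
  refine VLCount.false_of_count π S η hη ?_ ?_ ?_
  · -- the complement of `H`
    have h1 : Nat.card {x : G // η (π x) ≠ 0} + Nat.card H = Fintype.card G := by
      rw [Nat.card_eq_fintype_card, Nat.card_eq_fintype_card,
        show Fintype.card H = Fintype.card {x : G // η (π x) = 0} from
          Fintype.card_congr (Equiv.subtypeEquivRight fun x => (hηmem x).symm),
        Fintype.card_subtype_compl]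
      have := Fintype.card_subtype_le (fun x : G => η (π x) = 0)
      omega
    have h2 := card_mul_index H
    rw [hH, Nat.card_eq_fintype_card (α := G)] at h2
    rw [← h2] at h1 ⊢
    obtain ⟨q, rfl⟩ : ∃ q, p = q + 1 := ⟨p - 1, by have := hp.out.pos; omega⟩
    have : Nat.card {x : G // η (π x) ≠ 0} = Nat.card H * q := by
      rw [Nat.mul_succ] at h1
      omega
    rw [this, Nat.add_sub_cancel]; ring
  · intro v hv
    refine ⟨Submodule.subset_span ⟨v, hselfC v, rfl⟩, ?_⟩
    obtain ⟨w, hw, hwn⟩ := SetLike.not_le_iff_exists.mp (hcon v (fun h => hv ((hηmem v).mpr h)))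
    have hv0 : π v ≠ 0 := fun h => hv (by rw [h, map_zero])
    have hspan : Submodule.span (ZMod p) {π v} < S v := by
      refine lt_of_le_of_ne ?_ fun he => hwn ?_
      · exact Submodule.span_le.mpr (Set.singleton_subset_iff.mpr (Submodule.subset_span ⟨v, hselfC v, rfl⟩))
      · have h : π w ∈ Submodule.span (ZMod p) {π v} :=
          he ▸ Submodule.subset_span ⟨w, hw, rfl⟩
        obtain ⟨a, ha⟩ := Submodule.mem_span_singleton.mp h
        have h3 : π w = π (v ^ a.val) := by
          rw [← ha]
          conv_lhs => rw [← ZMod.natCast_zmod_val a, Nat.cast_smul_eq_nsmul]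
          rfl
        have h4 : (v ^ a.val)⁻¹ * w ∈ frattini G :=
          QuotientGroup.eq.mp (Additive.ofMul.injective h3.symm)
        have h5 := mul_mem_sup (pow_mem (mem_zpowers v) a.val) h4
        rwa [mul_inv_cancel_left] at h5
    have := Submodule.finrank_lt_finrank_of_lt hspan
    rw [finrank_span_singleton hv0] at this
    omega
  · intro μ hμ
    have hμ0 : μ ≠ 0 := fun h => hμ (h ▸ zero_mem _)
    set M := Mk μ
    have hM : M.index = p := hMidx μ hμ0
    haveI : M.Normal := PGroup.normal_of_index_eq_prime hG hM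
    set N := ⁅M, M⁆ ⊔ gam G 2
    haveI : N.Normal := inferInstance
    have hMlt : ⁅M, M⁆ ≤ gam G 1 := commutator_mono le_top le_top
    let R : Subgroup G := M ⊓ (center (G ⧸ N)).comap (QuotientGroup.mk' N)
    have hgen : ∀ y, y ∉ M → M ⊔ zpowers y = ⊤ := fun y hy =>
      (PGroup.isCoatom_of_index_prime (hM ▸ hp.out)).2 _
        (lt_of_le_of_ne le_sup_left fun h => hy (h.symm ▸ mem_sup_right (mem_zpowers y)))
    -- `x` is central modulo `N` as soon as it commutes with one element outside `M`
    have hcentral : ∀ x ∈ M, ∀ y, y ∉ M → ⁅y, x⁆ ∈ N → x ∈ R := by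
      intro x hx y hy hxy
      refine ⟨hx, mem_center_iff.mpr fun q => ?_⟩
      obtain ⟨g, rfl⟩ := QuotientGroup.mk'_surjective N q
      have hle : M ⊔ zpowers y ≤
          (centralizer ({QuotientGroup.mk' N x} : Set (G ⧸ N))).comap (QuotientGroup.mk' N) := by
        have hmem : ∀ g, ⁅g, x⁆ ∈ N → g ∈ (centralizer ({QuotientGroup.mk' N x} : Set (G ⧸ N))).comap
            (QuotientGroup.mk' N) := fun g hg => by
          rw [mem_comap, mem_centralizer_singleton_iff]
          refine commutatorElement_eq_one_iff_mul_comm.mp ?_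
          rw [← map_commutatorElement]
          exact (QuotientGroup.eq_one_iff _).mpr hg
        exact sup_le (fun m hm => hmem m (mem_sup_left (commutator_mem_commutator hm hx)))
          (zpowers_le.mpr (hmem y hxy))
      have := hle ((hgen y hy).ge (mem_top g))
      rw [mem_comap, mem_centralizer_singleton_iff] at this
      exact this
    obtain ⟨y, hy⟩ : ∃ y, y ∉ M := by
      by_contra h
      push Not at h
      rw [(eq_top_iff' M).mpr h, index_top] at hM
      exact hp.out.one_lt.ne hM
    have hRlt : R ≠ M := by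
      intro hRM
      refine hmax M hM (le_antisymm hMlt (gam_one_le_of_sup _ ?_))
      show ⁅(⊤ : Subgroup G), (⊤ : Subgroup G)⁆ ≤ N
      refine commutator_le.mpr fun a _ b _ => (QuotientGroup.eq_one_iff _).mp ?_
      show QuotientGroup.mk' N ⁅a, b⁆ = 1
      rw [map_commutatorElement]
      refine commutatorElement_eq_one_iff_mul_comm.mpr ?_
      have hMc : ∀ m ∈ M, QuotientGroup.mk' N m ∈ center (G ⧸ N) := fun m hm =>
        ((hRM.symm ▸ hm : m ∈ R)).2
      have hall : ∀ g : G, Commute (QuotientGroup.mk' N g) (QuotientGroup.mk' N y) := by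
        intro g
        have hle : M ⊔ zpowers y ≤
            (centralizer ({QuotientGroup.mk' N y} : Set (G ⧸ N))).comap (QuotientGroup.mk' N) := by
          refine sup_le (fun m hm => ?_) (zpowers_le.mpr ?_) <;>
            rw [mem_comap, mem_centralizer_singleton_iff]
          exact (mem_center_iff.mp (hMc m hm) _).symm
        have := hle ((hgen y hy).ge (mem_top g))
        rw [mem_comap, mem_centralizer_singleton_iff] at this
        exact this
      have hall2 : M ⊔ zpowers y ≤ (center (G ⧸ N)).comap (QuotientGroup.mk' N) :=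
        sup_le hMc (zpowers_le.mpr (mem_center_iff.mpr fun q => by
          obtain ⟨g, rfl⟩ := QuotientGroup.mk'_surjective N q
          exact (hall g).eq))
      exact (mem_center_iff.mp (hall2 ((hgen y hy).ge (mem_top b))) _)
    -- counting `M \ (H ∪ R)`
    have hMH : M ≠ H := by
      intro he
      refine hμ ?_
      rw [Submodule.mem_span_singleton]
      obtain ⟨z, hz⟩ : ∃ z, η (π z) ≠ 0 := by
        by_contra h
        push Not at h
        rw [(eq_top_iff' H).mpr fun g => (hηmem g).mp (h g), index_top] at hH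
        exact hp.out.one_lt.ne hH
      refine ⟨μ (π z) / η (π z), LinearMap.ext fun x => ?_⟩
      obtain ⟨g, hg⟩ := QuotientGroup.mk_surjective (Additive.toMul x)
      obtain rfl : π g = x := by show Additive.ofMul (g : G ⧸ frattini G) = x; rw [hg]; rfl
      set a : ZMod p := η (π g) / η (π z) with ha
      have hmem : g * (z ^ a.val)⁻¹ ∈ M := by
        rw [he, ← hηmem, hπmul, map_add, show π (z ^ a.val)⁻¹ = -(a.val • π z) from rfl, map_neg,
          map_nsmul, nsmul_eq_mul, ZMod.natCast_zmod_val, ha, div_mul_cancel₀ _ hz, add_neg_cancel]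
      rw [hMk, hπmul, map_add, show π (z ^ a.val)⁻¹ = -(a.val • π z) from rfl, map_neg,
        map_nsmul, nsmul_eq_mul, ZMod.natCast_zmod_val, ← sub_eq_add_neg, sub_eq_zero] at hmem
      rw [LinearMap.smul_apply, smul_eq_mul, hmem, ha]
      field_simp
    have hgood : ∀ x ∈ M, x ∉ R → μ ∈ (S x).dualAnnihilator := by
      intro x hx hxR
      rw [Submodule.mem_dualAnnihilator]
      intro u hu
      have hle : S x ≤ LinearMap.ker μ := Submodule.span_le.mpr (by
        rintro _ ⟨w, hw, rfl⟩
        rw [SetLike.mem_coe, LinearMap.mem_ker, ← hMk]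
        by_contra hwM
        exact hxR (hcentral x hx w hwM (mem_sup_right (mem_C0.mp hw))))
      exact hle hu
    have hcardM : Nat.card M * p = Fintype.card G := by
      rw [← hM, card_mul_index, Nat.card_eq_fintype_card]
    -- the sets
    set K := M ⊓ H
    have hK : Nat.card K * p = Nat.card M := by
      haveI : H.Normal := PGroup.normal_of_index_eq_prime hG hH
      have h1 : H.relIndex M = p := by
        have hd : H.relIndex M ∣ p := hH ▸ relIndex_dvd_index_of_normal H M
        rcases (Nat.dvd_prime hp.out).mp hd with h | h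
        · exfalso
          have hle : M ≤ H := relIndex_eq_one.mp h
          exact hMH (eq_of_le_of_card_ge hle (by
            have h2 := card_mul_index H
            rw [hH, Nat.card_eq_fintype_card (α := G), ← hcardM] at h2
            exact (Nat.eq_of_mul_eq_mul_right hp.out.pos h2).le))
        · exact h
      rw [← h1, ← inf_relIndex_left, inf_comm]
      rw [show Nat.card K = Nat.card ((M ⊓ H).subgroupOf M) from
        (Nat.card_congr (subgroupOfEquivOfLe inf_le_left).toEquiv).symm, inf_comm]
      exact card_mul_index _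
    have hR : Nat.card (R ⊓ H : Subgroup G) + Nat.card K * (p - 1) ≥ Nat.card R := by
      haveI : H.Normal := PGroup.normal_of_index_eq_prime hG hH
      rcases eq_or_ne (R ⊓ H) R with h | h
      · rw [h]; exact Nat.le_add_right _ _
      · have h1 : H.relIndex R = p := by
          rcases (Nat.dvd_prime hp.out).mp (hH ▸ relIndex_dvd_index_of_normal H R) with h' | h'
          · exact absurd (inf_eq_left.mpr (relIndex_eq_one.mp h')) h
          · exact h'
        have h2 : Nat.card (R ⊓ H : Subgroup G) * p = Nat.card R := by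
          rw [← h1, ← inf_relIndex_left]
          rw [show Nat.card (R ⊓ H : Subgroup G) = Nat.card ((R ⊓ H).subgroupOf R) from
            (Nat.card_congr (subgroupOfEquivOfLe inf_le_left).toEquiv).symm, inf_comm]
          exact card_mul_index _
        have h3 : Nat.card (R ⊓ H : Subgroup G) ≤ Nat.card K := card_le_of_le (inf_le_inf_right H inf_le_left)
        obtain ⟨q, rfl⟩ : ∃ q, p = q + 1 := ⟨p - 1, by have := hp.out.pos; omega⟩
        rw [← h2, Nat.add_sub_cancel, Nat.mul_succ]
        have := Nat.mul_le_mul_right q h3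
        omega
    have hRp : Nat.card R * p ≤ Nat.card M := by
      have hle : R ≤ M := inf_le_left
      obtain ⟨a, ha⟩ := IsPGroup.iff_card.mp (hG.to_subgroup R)
      obtain ⟨b, hb⟩ := IsPGroup.iff_card.mp (hG.to_subgroup M)
      have hlt : Nat.card R < Nat.card M := lt_of_not_ge fun h => hRlt (eq_of_le_of_card_ge hle h)
      rw [ha, hb] at hlt ⊢
      rw [← pow_succ]
      exact Nat.pow_le_pow_right hp.out.pos ((Nat.pow_lt_pow_iff_right hp.out.one_lt).mp hlt)
    have hsub : Nat.card M + Nat.card (R ⊓ H : Subgroup G) ≤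
        Nat.card {x : G // η (π x) ≠ 0 ∧ μ ∈ (S x).dualAnnihilator} + Nat.card K + Nat.card R := by
      simp only [Nat.card_eq_fintype_card, Fintype.card_subtype]
      set A := Finset.univ.filter fun x : G => x ∈ M
      set B := Finset.univ.filter fun x : G => x ∈ H
      set C := Finset.univ.filter fun x : G => x ∈ R
      have e1 : (Finset.univ.filter fun x : G => x ∈ R ⊓ H) = C ∩ B := by
        ext x; simp [B, C, Subgroup.mem_inf]
      have e2 : (Finset.univ.filter fun x : G => x ∈ K) = A ∩ B := by
        ext x; simp [A, B, K, Subgroup.mem_inf]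
      rw [e1, e2]
      have h5 : (A \ (B ∪ C)).card ≤
          (Finset.univ.filter fun x : G => η (π x) ≠ 0 ∧ μ ∈ (S x).dualAnnihilator).card := by
        refine Finset.card_le_card fun x hx => ?_
        simp only [A, B, C, Finset.mem_sdiff, Finset.mem_union, Finset.mem_filter, Finset.mem_univ,
          true_and, not_or] at hx
        exact Finset.mem_filter.mpr ⟨Finset.mem_univ _, fun h => hx.2.1 ((hηmem x).mp h),
          hgood x hx.1 hx.2.2⟩
      have hCA : C ⊆ A := fun x hx => by
        simp only [A, C, Finset.mem_filter, Finset.mem_univ, true_and] at hx ⊢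
        exact hx.1
      have h6 := Finset.card_sdiff_add_card_inter A (B ∪ C)
      have h7 : A ∩ (B ∪ C) = (A ∩ B) ∪ C := by
        rw [Finset.inter_union_distrib_left, Finset.inter_eq_right.mpr hCA]
      rw [h7] at h6
      have h8 := Finset.card_union_add_card_inter (A ∩ B) C
      have h9 : (A ∩ B) ∩ C = C ∩ B := by
        ext x
        simp only [Finset.mem_inter]
        exact ⟨fun h => ⟨h.2, h.1.2⟩, fun h => ⟨⟨hCA h.1, h.2⟩, h.1⟩⟩
      rw [h9] at h8
      omega
    -- arithmetic
    set T := Nat.card {x : G // η (π x) ≠ 0 ∧ μ ∈ (S x).dualAnnihilator}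
    set a := Nat.card R
    set b := Nat.card (R ⊓ H : Subgroup G)
    obtain ⟨q, hq⟩ : ∃ q, p = q + 1 := ⟨p - 1, by have := hp.out.pos; omega⟩
    rw [hq, Nat.add_sub_cancel] at hR ⊢
    rw [hq] at hRp hK hcardM
    -- `a - b ≤ a * q / (q + 1)`, `a ≤ |M| / (q + 1)`
    rcases eq_or_ne (R ⊓ H) R with h | h
    · have hb : b = a := by show Nat.card (R ⊓ H : Subgroup G) = Nat.card R; rw [h]
      have hT : Nat.card K * q ≤ T := by
        rw [← hK, Nat.mul_succ] at hsub
        omega
      rw [← hcardM, ← hK]
      calc q ^ 2 * (Nat.card K * (q + 1) * (q + 1)) = q * ((q + 1) ^ 2 * (Nat.card K * q)) := by ring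
        _ ≤ (q + 1) * ((q + 1) ^ 2 * T) :=
            Nat.mul_le_mul (Nat.le_succ q) (Nat.mul_le_mul_left _ hT)
        _ = _ := by ring
    · haveI : H.Normal := PGroup.normal_of_index_eq_prime hG hH
      have h1 : H.relIndex R = q + 1 := by
        rcases (Nat.dvd_prime hp.out).mp (hH ▸ relIndex_dvd_index_of_normal H R) with h' | h'
        · exact absurd (inf_eq_left.mpr (relIndex_eq_one.mp h')) h
        · rw [h', hq]
      have h2 : b * (q + 1) = a := by
        show Nat.card (R ⊓ H : Subgroup G) * (q + 1) = Nat.card R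
        rw [← h1, ← inf_relIndex_left]
        rw [show Nat.card (R ⊓ H : Subgroup G) = Nat.card ((R ⊓ H).subgroupOf R) from
          (Nat.card_congr (subgroupOfEquivOfLe inf_le_left).toEquiv).symm, inf_comm]
        exact card_mul_index _
      rw [← h2] at hRp hsub
      rw [← hK] at hRp hsub
      have hb : b * (q + 1) ≤ Nat.card K := Nat.le_of_mul_le_mul_right hRp (Nat.succ_pos q)
      have h3 : Nat.card K * q ≤ T + b * q := by
        rw [Nat.mul_succ, Nat.mul_succ] at hsub
        omega
      rw [← hcardM, ← hK]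
      calc q ^ 2 * (Nat.card K * (q + 1) * (q + 1)) = (q + 1) ^ 2 * (q * (Nat.card K * q)) := by ring
        _ ≤ (q + 1) ^ 2 * ((q + 1) * T) := by
            refine Nat.mul_le_mul_left _ ?_
            nlinarith
        _ = _ := by ring

theorem relIndex_C0 (v : G) {P : Subgroup G} (hle : C0 v ≤ P) :
    (C0 v).relIndex P * P.index = Nat.card (adv 0 v).range := by
  rw [relIndex_mul_index hle, ← index_ker, C0]
  have h : (adv 0 v).ker = (C0 v).subgroupOf (gam G 0) := by
    ext g
    rw [MonoidHom.mem_ker, mem_subgroupOf, mem_C0, adv_apply]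
    exact QuotientGroup.eq_one_iff _
  rw [h]
  show _ = (C0 v).relIndex (gam G 0)
  rw [show gam G 0 = ⊤ from rfl, relIndex_top_right]
  rfl

/-- A well-chosen generating sequence. -/
theorem exists_gens (hG : IsPGroup p G)
    (hmax : ∀ M : Subgroup G, M.index = p → ⁅M, M⁆ ≠ gam G 1) :
    ∀ (k : ℕ) (l₀ : List G), (closure {x | x ∈ l₀} ⊔ frattini G).index = p ^ k →
      ∃ l : List G, l.length = k ∧ closure {x | x ∈ l ++ l₀} = ⊤ ∧
        (∀ v ∈ l, C0 v ≤ zpowers v ⊔ frattini G) ∧
        Nat.card ((gam G 1).map (QuotientGroup.mk' (gam G 2))) * p ^ (k * (k - 1) / 2) ≤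
          Nat.card (⁅closure {x | x ∈ l₀}, closure {x | x ∈ l₀}⁆.map (QuotientGroup.mk' (gam G 2))) *
            (l.map fun v => Nat.card (adv 0 v).range).prod := by
  intro k
  induction k with
  | zero =>
    intro l₀ h
    rw [pow_zero, index_eq_one] at h
    haveI : IsCoatomic (Subgroup G) := inferInstance
    have htop : closure {x | x ∈ l₀} = ⊤ := frattini_nongenerating h
    refine ⟨[], rfl, by simpa using htop, by simp, ?_⟩
    rw [htop]; simp
  | succ k ih =>
    intro l₀ h
    set P := closure {x | x ∈ l₀} with hP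
    have hne : P ⊔ frattini G ≠ ⊤ := fun ht => by
      rw [ht, index_top] at h
      exact (Nat.one_lt_pow (Nat.succ_ne_zero k) hp.out.one_lt).ne h
    obtain ⟨H, hHle, -, hH⟩ := PGroup.exists_le_index_eq_prime hG hne
    obtain ⟨v, hvH, hv⟩ := exists_good hG hmax H hH
    set P' := closure {x | x ∈ v :: l₀} with hP'
    have hPP' : P' = zpowers v ⊔ P := by
      rw [hP', hP, zpowers_eq_closure, ← Subgroup.closure_union]
      congr 1
      ext x; simp [List.mem_cons]
    have hidx : (P' ⊔ frattini G).index = p ^ k := by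
      -- one step up in the elementary abelian quotient
      have hQ : IsPGroup p G := hG
      set A := P ⊔ frattini G
      have hA : P' ⊔ frattini G = zpowers v ⊔ A := by rw [hPP', sup_assoc]
      haveI : A.Normal := Normal.of_commutator_le (G := G)
        ((PGroup.commutator_le_frattini hG).trans le_sup_right)
      have hvA : v ∉ A := fun h' => hvH (hHle h')
      have h1 : A.relIndex (zpowers v ⊔ A) = p := by
        rw [relIndex_sup_right]
        have hd : A.relIndex (zpowers v) ∣ p := by
          have hlt : (zpowers v).map (QuotientGroup.mk' A) = zpowers (QuotientGroup.mk' A v) :=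
            MonoidHom.map_zpowers _ _
          rw [← QuotientGroup.ker_mk' A, relIndex_ker, hlt, Nat.card_zpowers]
          refine orderOf_dvd_of_pow_eq_one ?_
          rw [← map_pow]
          exact (QuotientGroup.eq_one_iff _).mpr (mem_sup_right (PGroup.pow_mem_frattini hG v))
        rcases (Nat.dvd_prime hp.out).mp hd with h' | h'
        · exact absurd (relIndex_eq_one.mp h' (mem_zpowers v)) hvA
        · exact h'
      have h2 := relIndex_mul_index (show A ≤ zpowers v ⊔ A from le_sup_right)
      rw [h1, h, pow_succ', ← hA] at h2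
      exact Nat.eq_of_mul_eq_mul_left hp.out.pos h2
    obtain ⟨l, hlen, hgen, hgood, hbound⟩ := ih (v :: l₀) hidx
    refine ⟨l ++ [v], by simp [hlen], by simpa using hgen, fun w hw => ?_, ?_⟩
    · rcases List.mem_append.mp hw with h' | h'
      · exact hgood w h'
      · rw [List.mem_singleton.mp h']; exact hv
    rw [List.map_append, List.prod_append, List.map_singleton, List.prod_singleton]
    -- commutators of the enlarged group
    set F := ((adv 0 v).comp (Subgroup.inclusion (show P' ⊔ frattini G ≤ gam G 0 from le_top))).range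
    have hF : Nat.card F * p ^ k ≤ Nat.card (adv 0 v).range := by
      rw [← relIndex_C0 v (P := P' ⊔ frattini G) (hv.trans (sup_le_sup_right (hPP' ▸ le_sup_left) _)),
        hidx]
      refine Nat.mul_le_mul_right _ (le_of_eq ?_)
      show Nat.card F = (C0 v).relIndex (P' ⊔ frattini G)
      rw [← index_ker, relIndex]
      congr 1
      ext g
      rw [MonoidHom.mem_ker, mem_subgroupOf, mem_C0]
      exact QuotientGroup.eq_one_iff _
    have hFc : F ≤ center (Qt G 0) := by
      rintro _ ⟨g, rfl⟩
      exact range_le_center 0 v ⟨_, rfl⟩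
    have hstep : Nat.card (⁅P', P'⁆.map (QuotientGroup.mk' (gam G 2))) ≤
        Nat.card F * Nat.card (⁅P, P⁆.map (QuotientGroup.mk' (gam G 2))) := by
      refine le_trans ?_ (card_map_sup_le hFc)
      refine card_le_of_le ?_
      rw [Subgroup.map_le_iff_le_comap, commutator_le]
      set D := (F ⊔ ⁅P, P⁆.map (QuotientGroup.mk' (gam G 2))).comap (QuotientGroup.mk' (gam G 2))
      have hDn : ∀ d ∈ D, d ∈ gam G 1 → ∀ g : G, g * d * g⁻¹ ∈ D := fun d hd hd1 g => by
        rw [mem_comap, QuotientGroup.mk'_apply, mk_conj (m := 0) hd1 g]; exact hd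
      have hg1 : ∀ a b : G, ⁅a, b⁆ ∈ gam G 1 := fun a b =>
        commutator_mem_commutator (mem_top a) (mem_top b)
      have hv' : ∀ g ∈ P', ⁅g, v⁆ ∈ D := fun g hg =>
        mem_comap.mpr (mem_sup_left ⟨⟨g, mem_sup_left hg⟩, rfl⟩)
      -- bilinearity modulo the third term
      have key : ∀ a ∈ P', ∀ s : Set G, (∀ x ∈ s, ⁅a, x⁆ ∈ D) → ∀ b ∈ closure s, ⁅a, b⁆ ∈ D := by
        intro a _ s hs b hb
        induction hb using closure_induction with
        | mem x hx => exact hs x hx
        | one => rw [commutatorElement_one_right]; exact one_mem D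
        | mul x z _ _ hx hz =>
          rw [show ⁅a, x * z⁆ = ⁅a, x⁆ * (x * ⁅a, z⁆ * x⁻¹) by
            simp only [commutatorElement_def]; group]
          exact mul_mem hx (hDn _ hz (hg1 a z) x)
        | inv x _ hx =>
          rw [show ⁅a, x⁻¹⁆ = x⁻¹ * ⁅a, x⁆⁻¹ * x⁻¹⁻¹ by simp only [commutatorElement_def]; group]
          exact hDn _ (inv_mem hx) (inv_mem (hg1 a x)) x⁻¹
      have hflip : ∀ a b : G, ⁅a, b⁆ ∈ D → ⁅b, a⁆ ∈ D := fun a b h' => by
        rw [← commutatorElement_inv]; exact inv_mem h'
      have hins : P' = closure (insert v (P : Set G)) := by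
        rw [hPP', ← Set.singleton_union, Subgroup.closure_union, ← zpowers_eq_closure, closure_eq]
      have hvP : v ∈ P' := hins ▸ subset_closure (Set.mem_insert _ _)
      have hPle : P ≤ P' := hPP' ▸ le_sup_right
      have hPP : ∀ a ∈ P, ∀ b ∈ P, ⁅a, b⁆ ∈ D := fun a ha b hb =>
        mem_comap.mpr (mem_sup_right (mem_map_of_mem _ (commutator_mem_commutator ha hb)))
      have hleft : ∀ a ∈ P, ∀ b ∈ P', ⁅a, b⁆ ∈ D := fun a ha b hb =>
        key a (hPle ha) _ (fun x hx => by
          rcases hx with rfl | hx
          · exact hv' a (hPle ha)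
          · exact hPP a ha x hx) b (hins ▸ hb)
      intro a ha b hb
      refine key a ha _ (fun x hx => ?_) b (hins ▸ hb)
      rcases hx with rfl | hx
      · exact hv' a ha
      · exact hflip x a (hleft x hx a ha)
    have htri : (k + 1) * (k + 1 - 1) / 2 = k * (k - 1) / 2 + k := by
      rcases k with _ | j
      · rfl
      · simp only [Nat.add_sub_cancel]
        rw [show (j + 1 + 1) * (j + 1) = (j + 1) * j + (j + 1) * 2 by ring,
          Nat.add_mul_div_right _ _ two_pos]
    rw [htri, pow_add, ← mul_assoc]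
    refine (Nat.mul_le_mul_right _ hbound).trans ?_
    calc _ ≤ Nat.card F * Nat.card (⁅P, P⁆.map (QuotientGroup.mk' (gam G 2))) *
          (l.map fun v => Nat.card (adv 0 v).range).prod * p ^ k :=
          Nat.mul_le_mul_right _ (Nat.mul_le_mul_right _ hstep)
      _ = Nat.card (⁅P, P⁆.map (QuotientGroup.mk' (gam G 2))) *
          ((l.map fun v => Nat.card (adv 0 v).range).prod * (Nat.card F * p ^ k)) := by ring
      _ ≤ _ := Nat.mul_le_mul_left _ (Nat.mul_le_mul_left _ hF)

theorem step (hG : IsPGroup p G) (b : ℕ)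
    (hb : ∀ x : G, (centralizer ({x} : Set G)).index ≤ p ^ b)
    (hmax : ∀ M : Subgroup G, M.index = p → ⁅M, M⁆ ≠ gam G 1) :
    Nat.card (gam G 1) ≤ p ^ (b * (b + 1) / 2) := by
  haveI : Group.IsNilpotent G := hG.isNilpotent
  obtain ⟨d, hd⟩ := hG.index (closure {x : G | x ∈ ([] : List G)} ⊔ frattini G)
  obtain ⟨l, hlen, hgen, hgood, hbound⟩ := exists_gens hG hmax d [] hd
  rw [List.append_nil] at hgen
  have hbot : closure {x : G | x ∈ ([] : List G)} = ⊥ := by simp
  rw [hbot, commutator_bot_left, Subgroup.map_bot, card_bot, one_mul] at hbound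
  rw [hbot, bot_sup_eq] at hd
  obtain ⟨c, hc⟩ := Subgroup.nilpotent_iff_lowerCentralSeries.mp ‹Group.IsNilpotent G›
  -- the number of generators
  have hdb : d ≤ b + 1 := by
    rcases Nat.eq_zero_or_pos d with h | h
    · omega
    obtain ⟨v, hv⟩ : ∃ v, v ∈ l := List.exists_mem_of_length_pos (by omega)
    have h1 := breadth_bound v (hb v) 1
    simp only [Finset.prod_range_one] at h1
    rw [← relIndex_C0 v (P := zpowers v ⊔ frattini G) (hgood v hv)] at h1
    have h2 : (zpowers v ⊔ frattini G).index ≤ p ^ b :=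
      le_trans (Nat.le_mul_of_pos_left _ (Nat.pos_of_ne_zero index_ne_zero_of_finite)) h1
    have h3 : p ^ d ≤ p * (zpowers v ⊔ frattini G).index := by
      rw [← hd, ← relIndex_mul_index (show frattini G ≤ zpowers v ⊔ frattini G from le_sup_right),
        relIndex_sup_right]
      refine Nat.mul_le_mul_right _ (Nat.le_of_dvd hp.out.pos ?_)
      rw [← QuotientGroup.ker_mk' (frattini G), relIndex_ker, MonoidHom.map_zpowers,
        Nat.card_zpowers]
      exact orderOf_dvd_of_pow_eq_one (PGroup.quotient_frattini_pow hG _)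
    have h4 : p ^ d ≤ p ^ (b + 1) := by
      rw [pow_succ']; exact h3.trans (Nat.mul_le_mul_left _ h2)
    exact (Nat.pow_le_pow_iff_right hp.out.one_lt).mp h4
  -- multiply over the levels
  have hlevel : ∀ i, Nat.card ((gam G (i + 1)).map (QuotientGroup.mk' (gam G (i + 2)))) ≤
      (l.map fun v => Nat.card (adv i v).range).prod := fun i =>
    (card_le_of_le (map_gam_le i hgen)).trans (card_iSup_le i l)
  have hcard : Nat.card (gam G 1) * p ^ (d * (d - 1) / 2) ≤
      (l.map fun v => ∏ i ∈ Finset.range (c + 1), Nat.card (adv i v).range).prod := by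
    rw [card_gam_one (c + 1), show gam G (c + 1 + 1) = ⊥ from le_bot_iff.mp
      ((Subgroup.lowerCentralSeries_antitone _ (by omega)).trans hc.le), card_bot, one_mul,
      Finset.prod_range_succ']
    have hswap : ∀ n, (l.map fun v => ∏ i ∈ Finset.range (n + 1), Nat.card (adv i v).range).prod =
        (∏ i ∈ Finset.range n, (l.map fun v => Nat.card (adv (i + 1) v).range).prod) *
          (l.map fun v => Nat.card (adv 0 v).range).prod := by
      intro n
      induction n with
      | zero => simp only [Finset.prod_range_zero, one_mul, zero_add, Finset.prod_range_one]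
      | succ n ihn =>
        rw [Finset.prod_range_succ (fun i => (l.map fun v => Nat.card (adv (i + 1) v).range).prod),
          mul_right_comm, ← ihn, ← List.prod_map_mul]
        congr 1
        refine List.map_congr_left fun v _ => ?_
        rw [Finset.prod_range_succ _ (n + 1)]
    rw [hswap, mul_assoc]
    exact Nat.mul_le_mul (Finset.prod_le_prod' fun i _ => hlevel (i + 1)) hbound
  have hpb : (l.map fun v => ∏ i ∈ Finset.range (c + 1), Nat.card (adv i v).range).prod ≤
      p ^ (b * d) := by
    refine (List.prod_le_pow_card _ (p ^ b) fun x hx => ?_).trans_eq ?_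
    · obtain ⟨v, -, rfl⟩ := List.mem_map.mp hx
      exact breadth_bound v (hb v) _
    · rw [List.length_map, hlen, ← pow_mul]
  have hexp : b * d ≤ b * (b + 1) / 2 + d * (d - 1) / 2 := by
    have e1 : ∀ n, 2 ∣ n * (n + 1) := fun n => even_iff_two_dvd.mp (Nat.even_mul_succ_self n)
    have e2 : 2 ∣ d * (d - 1) := even_iff_two_dvd.mp (Nat.even_mul_pred_self d)
    obtain ⟨x, hx⟩ := e1 b
    obtain ⟨y, hy⟩ := e2
    rw [hx, hy, Nat.mul_div_cancel_left _ two_pos, Nat.mul_div_cancel_left _ two_pos]
    rcases d with _ | d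
    · simp
    simp only [Nat.add_sub_cancel] at hy
    rcases Nat.eq_or_lt_of_le hdb with h | h
    · have hbd : d = b := by omega
      subst hbd
      nlinarith
    · obtain ⟨e, rfl⟩ : ∃ e, b = d + 1 + e := ⟨b - (d + 1), by omega⟩
      nlinarith
  refine Nat.le_of_mul_le_mul_right ?_ (pow_pos hp.out.pos (d * (d - 1) / 2))
  refine (hcard.trans hpb).trans ?_
  rw [← pow_add]
  exact Nat.pow_le_pow_right hp.out.pos hexp

theorem vaughan_lee_aux (n : ℕ) : ∀ (H : Subgroup G), Nat.card H = n → IsPGroup p H → ∀ b : ℕ,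
    (∀ x ∈ H, (centralizer ({x} : Set G)).relIndex H ≤ p ^ b) →
    Nat.card (⁅H, H⁆ : Subgroup G) ≤ p ^ (b * (b + 1) / 2) := by
  induction n using Nat.strong_induction_on with
  | _ n ih =>
  intro H hn hH b hb
  have hgam : (gam H 1).map H.subtype = ⁅H, H⁆ := by
    show Subgroup.map H.subtype ⁅(⊤ : Subgroup H), (⊤ : Subgroup H)⁆ = _
    rw [map_commutator, ← MonoidHom.range_eq_map, range_subtype]
  by_cases hmax : ∀ M : Subgroup H, M.index = p → ⁅M, M⁆ ≠ gam H 1
  · rw [← hgam, card_map_of_injective H.subtype_injective]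
    refine step hH b (fun x => le_of_eq_of_le ?_ (hb x x.2)) hmax
    rw [relIndex]
    congr 1
    ext g
    rw [mem_subgroupOf, mem_centralizer_singleton_iff, mem_centralizer_singleton_iff]
    exact ⟨fun h => congrArg Subtype.val h, fun h => Subtype.ext h⟩
  push Not at hmax
  obtain ⟨M, hM, hMeq⟩ := hmax
  have hlt : Nat.card (M.map H.subtype) < n := by
    rw [card_map_of_injective H.subtype_injective, ← hn, ← M.card_mul_index, hM]
    exact lt_mul_of_one_lt_right Nat.card_pos hp.out.one_lt
  have h1 := ih _ hlt (M.map H.subtype) rfl ((hH.to_subgroup M).map _) b fun x hx => by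
    obtain ⟨y, hy, rfl⟩ := hx
    exact le_trans (relIndex_le_of_le_right (map_subtype_le M) index_ne_zero_of_finite) (hb y y.2)
  rwa [← map_commutator, hMeq, hgam] at h1

end Cfsg.Agent.FG72.VaughanLee
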